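/- Hall numbers (row S4044). -/
import Cfsg.Agent.H24.J1Ord
import Cfsg.Agent.H8.HallFocal
import Cfsg.Agent.H61.PSLMax
import Cfsg.Agent.S0803
import Cfsg.Agent.S0804

set_option autoImplicit false

namespace H24
open Cfsg Subgroup H10.W H98 H14

universe u
variable {G : Type u} [Group G] [Finite G]

theorem l2_of_not_eight [IsSimpleGroup G] (hG : ¬ IsMulCommutative G) (h8 : ¬ 8 ∣ Nat.card G) :
    IsL2O G ∧ ∀ S : Sylow 2 G, IsKleinFour (S : Subgroup G) := by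
  obtain ⟨m, hm⟩ := four_dvd_of_not_solvable fun hs => hG ⟨⟨IsSimpleGroup.comm_iff_isSolvable.2 hs⟩⟩
  have h2 : Ab2 G := fun S => IsPGroup.isMulCommutative_of_card_eq_prime_sq
    (H87.card_sylow_eq S (a := 2) hm (by omega))
  have hr : PRankLE 2 2 G := fun E _ hE => by
    obtain ⟨k, hk⟩ := IsPGroup.iff_card.1 (fun x => ⟨1, Subtype.ext (hE x x.2)⟩ : IsPGroup 2 E)
    rw [hk]
    exact Nat.pow_le_pow_right two_pos (not_lt.1 fun e =>
      h8 ((pow_dvd_pow 2 e : 2 ^ 3 ∣ _).trans (hk ▸ E.card_subgroup_dvd_card)))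
  exact ⟨rankTwo' G hG h2 hr, isKleinFour_of_rank_two hG h2 hr⟩

theorem three_dvd_of_four [IsSimpleGroup G] (hG : ¬ IsMulCommutative G) (S : Sylow 2 G)
    (h : IsKleinFour (S : Subgroup G)) : 3 ∣ Nat.card (normalizer ((S : Subgroup G) : Set G)) :=
  (((Nat.dvd_prime Nat.prime_three).1 (H34.rk2_of_isKleinFour h).relIndex_dvd_three).resolve_left
    fun e => H87.not_normalizer_le_centralizer hG (even_card_of_nonabelian hG).two_dvd S
      (relIndex_eq_one.1 e)) ▸ relIndex_dvd_card _ _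

theorem not_dvd_index {K : Subgroup G} {p : ℕ} (h : ¬ p * p ∣ Nat.card G) (h1 : p ∣ Nat.card K) :
    ¬ p ∣ K.index := fun e => h (K.card_mul_index ▸ Nat.mul_dvd_mul h1 e)

theorem hall_ind (m : ℕ) (P : ℕ → Prop) (hP : ∀ a b, a ∣ b → P b → P a)
    (h16 : ∀ n, P n → ¬ 16 ∣ n) (hm : ∀ n, P n → ∀ p, p.Prime → p ∣ m → ¬ m * p ∣ n)
    (hs : ∀ (M : Type u) [Group M] [Finite M] [IsSimpleGroup M], ¬ IsMulCommutative M →
      P (Nat.card M) → (∃ X : Subgroup M, Nat.card X = m) ∨ ∀ S : Sylow 2 M, ∀ p, p.Prime → p ∣ m →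
        ¬ p ∣ (normalizer ((S : Subgroup M) : Set M)).index)
    (G : Type u) [Group G] [Finite G] (hG : P (Nat.card G)) :
    ∃ H : Subgroup G, IsPiHall {p | p ∣ m} H := by
  induction hn : Nat.card G using Nat.strong_induction_on generalizing G with
  | _ n ih =>
  by_cases h1 : ∀ N : Subgroup G, N.Normal → Group.IsSolvable N → N = ⊥
  · rcases subsingleton_or_nontrivial G with h2 | h2
    · exact H4.exists_isPiHall _ G
    obtain ⟨M, _, _, hM, -⟩ := exists_socle_of h1 (not_commute_of_sixteen (h16 _ hG))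
    rcases hs M hM (hP _ _ M.card_subgroup_dvd_card hG) with ⟨X, hX⟩ | h3
    · rw [← card_map_of_injective M.subtype_injective] at hX
      exact ⟨X.map M.subtype, fun p _ h => hX ▸ h, fun p hp h e => hm _ hG p hp h
        ((X.map M.subtype).card_mul_index ▸ hX ▸ Nat.mul_dvd_mul_left _ e)⟩
    obtain ⟨S⟩ : Nonempty (Sylow 2 M) := inferInstance
    have h4 := (isSyl_map_subtype S).frattini le_top le_normalizer_of_normal
    rw [top_inf_eq] at h4
    have h5 : normalizer (((S : Subgroup M).map M.subtype : Subgroup G) : Set G) ≠ ⊤ := fun e =>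
      S.ne_bot_of_dvd_card (even_card_of_nonabelian hM).two_dvd ((map_eq_bot_iff_of_injective _
        M.subtype_injective).1 (h1 _ (normalizer_eq_top_iff.1 e)
          ((solvable_map_iff M.subtype_injective _).2 (have := S.isPGroup'.isNilpotent; inferInstance))))
    obtain ⟨H, hH⟩ := ih _ (hn ▸ lt_of_le_of_ne (card_le_card_group _) fun e =>
      h5 ((card_eq_iff_eq_top _).1 e)) _ (hP _ _ (card_subgroup_dvd_card _) hG) rfl
    refine ⟨_, H4.isPiHall_map_subtype hH fun p hp h => ?_⟩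
    rw [← H8.relIndex_eq_index_of_sup_eq_top M _ ((sup_comm _ _).trans h4), relIndex,
      subgroupOf_normalizer_eq (map_subtype_le _), subgroupOf,
      comap_map_eq_self_of_injective M.subtype_injective]
    exact h3 S p hp h
  push Not at h1
  obtain ⟨N, _, _, N1⟩ := h1
  obtain ⟨r, M, hr, hM, -, M1, -, hp, -⟩ := H2.exists_elementaryAbelian_normal_le N N1
  have := Fact.mk hr
  obtain ⟨k, hk⟩ := IsPGroup.iff_card.1 hp
  obtain ⟨H, hH⟩ := ih _ (by
    rw [← hn, ← M.index_mul_card]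
    exact lt_mul_of_one_lt_right (Nat.pos_of_ne_zero M.index_ne_zero_of_finite)
      (M.one_lt_card_iff_ne_bot.2 M1)) (G ⧸ M) (hP _ _ M.card_quotient_dvd_card hG) rfl
  have h2 : ∀ p : ℕ, p.Prime → p ∣ Nat.card M → p = r := fun p h1 h2 =>
    (Nat.prime_dvd_prime_iff_eq h1 hr).1 (h1.dvd_of_dvd_pow (hk ▸ h2))
  by_cases h3 : r ∣ m
  · exact ⟨_, H4.isPiHall_comap_mk' (fun p h1 h => h2 p h1 h ▸ h3) hH⟩
  let V := H.comap (QuotientGroup.mk' M)
  have hMV : M ≤ V := (QuotientGroup.ker_mk' M).ge.trans (MonoidHom.ker_le_comap _ _)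
  have hi : (M.subgroupOf V).index = Nat.card H := by
    rw [← map_comap_eq_self_of_surjective (QuotientGroup.mk'_surjective M) H, ← relIndex_ker,
      QuotientGroup.ker_mk', relIndex]
  have hc := Nat.card_congr (subgroupOfEquivOfLe hMV).toEquiv
  obtain ⟨K, hK⟩ := exists_right_complement'_of_coprime (N := M.subgroupOf V) (by
    rw [hc, hi, hk]
    exact (hr.coprime_iff_not_dvd.2 fun e => h3 (hH.1 r hr e)).pow_left k)
  refine ⟨_, H4.isPiHall_map_subtype (H := K) ⟨fun p h1 h => hH.1 p h1 ?_, fun p h1 h e => ?_⟩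
    fun p h1 h => ?_⟩
  · rwa [← hi, hK.symm.index_eq_card]
  · rw [hK.index_eq_card, hc] at e
    exact h3 (h2 p h1 e ▸ h)
  · rw [index_comap_of_surjective _ (QuotientGroup.mk'_surjective M)]
    exact hH.2 p h1 h

theorem hall_24 (h16 : ¬ 16 ∣ Nat.card G) (h9 : ¬ 9 ∣ Nat.card G) :
    ∃ H : Subgroup G, IsPiHall {p | p ∣ 24} H := by
  have hp : ∀ p : ℕ, p.Prime → p ∣ 24 → p = 2 ∨ p = 3 := fun p h1 h2 => by
    have := Nat.le_of_dvd (by decide) h2
    interval_cases p <;> first | decide | omega | exact absurd h1 (by decide)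
  refine hall_ind 24 (fun n => ¬ 16 ∣ n ∧ ¬ 9 ∣ n) (fun a b h h1 => ⟨mt (·.trans h) h1.1,
    mt (·.trans h) h1.2⟩) (fun _ h => h.1) (fun n h p h1 h2 => ?_) (fun M _ _ _ hM h => ?_) G ⟨h16, h9⟩
  · rcases hp p h1 h2 with rfl | rfl <;> omega
  have key : (∀ S : Sylow 2 M, 3 ∣ Nat.card (normalizer ((S : Subgroup M) : Set M))) →
      ∀ S : Sylow 2 M, ∀ p, p.Prime → p ∣ 24 → ¬ p ∣ (normalizer ((S : Subgroup M) : Set M)).index :=
    fun h3 S p h1 h2 => by
      rcases hp p h1 h2 with rfl | rfl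
      exacts [fun e => S.not_dvd_index (e.trans (index_dvd_of_le le_normalizer)),
        not_dvd_index h.2 (h3 S)]
  by_cases h8 : 8 ∣ Nat.card M
  swap
  · exact Or.inr (key fun S => three_dvd_of_four hM S ((l2_of_not_eight hM h8).2 S))
  obtain ⟨S⟩ : Nonempty (Sylow 2 M) := inferInstance
  obtain ⟨c, hc⟩ := h8
  rcases cases_of_eight hM S (H87.card_sylow_eq S (a := 3) hc (by omega)) with
    h2 | ⟨q, h1, h3, hL⟩ | ⟨⟨e⟩⟩
  · rcases walterA M hM h2 with ⟨n, hn, hL⟩ | ⟨q, hq, h8, hL⟩ | ⟨t, E, L, q, hJ⟩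
    · have h1 := (L2.facts hL).1
      have h3 : n < 4 := not_le.1 fun e =>
        h.1 ((pow_dvd_pow 2 e).trans (h1 ▸ (dvd_mul_right _ _).mul_left _))
      interval_cases n <;> simp at h1 <;> omega
    · exact absurd ⟨c, hc⟩ ((L2.not_eight_dvd_iff hL (Nat.odd_iff.2 (by omega))).2 h8)
    · exact Or.inr (key fun S => dvd_trans (by rw [(jobJR' M t E L q hJ).automizer S]; decide)
        (relIndex_dvd_card (centralizer _) _))
  · have h4 := mt (L2.not_eight_dvd_iff hL h1).2 (not_not.2 ⟨c, hc⟩)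
    obtain ⟨F, _, _, hF, ⟨e⟩⟩ := hL
    obtain ⟨X, ⟨f⟩⟩ := (Cfsg.Agent.S0803.result hF).2 (by
      obtain ⟨k, rfl⟩ := h1
      obtain ⟨j, rfl | rfl⟩ : ∃ j, k = 4 * j ∨ k = 4 * j + 3 := ⟨k / 4, by omega⟩
      · rw [show (2 * (4 * j) + 1) ^ 2 = 1 + 16 * (4 * j ^ 2 + j) by ring]; omega
      · rw [show (2 * (4 * j + 3) + 1) ^ 2 = 1 + 16 * (4 * j ^ 2 + 7 * j + 3) by ring]; omega)
    exact Or.inl ⟨X.map e.symm.toMonoidHom, by
      rw [card_map_of_injective e.symm.injective, Nat.card_congr f.toEquiv, Nat.card_perm]; simp; rfl⟩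
  · rw [Nat.card_congr e.toEquiv, nat_card_alternatingGroup] at h
    simp [Nat.factorial] at h

theorem hall_60 (h8 : ¬ 8 ∣ Nat.card G) (h9 : ¬ 9 ∣ Nat.card G) (h25 : ¬ 25 ∣ Nat.card G) :
    ∃ H : Subgroup G, IsPiHall {p | p ∣ 60} H := by
  have hp : ∀ p : ℕ, p.Prime → p ∣ 60 → p = 2 ∨ p = 3 ∨ p = 5 := fun p h1 h2 => by
    have := Nat.le_of_dvd (by decide) h2
    interval_cases p <;> first | decide | omega | exact absurd h1 (by decide)
  refine hall_ind 60 (fun n => ¬ 8 ∣ n ∧ ¬ 9 ∣ n ∧ ¬ 25 ∣ n) (fun a b h h1 => ⟨mt (·.trans h) h1.1,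
    mt (·.trans h) h1.2.1, mt (·.trans h) h1.2.2⟩) (fun _ h => by omega) (fun n h p h1 h2 => ?_)
    (fun M _ _ _ hM h => ?_) G ⟨h8, h9, h25⟩
  · rcases hp p h1 h2 with rfl | rfl | rfl <;> omega
  obtain ⟨⟨q, hq, h3, hL⟩, h4⟩ := l2_of_not_eight hM h.1
  by_cases h5 : 5 ∣ Nat.card M
  · rw [(L2.facts hL).1] at h5
    obtain ⟨F, _, _, hF, ⟨e⟩⟩ := hL
    obtain ⟨X, ⟨f⟩⟩ := (Cfsg.Agent.S0804.result hF).2 (h5.trans (by
      rw [show q ^ 2 - 1 = (q + 1) * (q - 1) from Nat.sq_sub_sq q 1, mul_left_comm q]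
      exact Nat.mul_dvd_mul_left _ (Nat.mul_dvd_mul_left _ (Nat.div_dvd_of_dvd (Nat.gcd_dvd_right _ _)))))
    exact Or.inl ⟨X.map e.symm.toMonoidHom, by
      rw [card_map_of_injective e.symm.injective, Nat.card_congr f.toEquiv, H61.card_alt5]⟩
  refine Or.inr fun S p h1 h2 => ?_
  rcases hp p h1 h2 with rfl | rfl | rfl
  exacts [fun e => S.not_dvd_index (e.trans (index_dvd_of_le le_normalizer)),
    not_dvd_index h.2.1 (three_dvd_of_four hM S (h4 S)), fun e => h5 (e.trans (index_dvd_card _))]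

theorem card_eq_of_hall {m k : ℕ} (h1 : m ∣ Nat.card G) (h2 : m.Coprime (Nat.card G / m))
    (hk : ∀ p : ℕ, p.Prime → (p ∣ k ↔ p ∣ m)) {H : Subgroup G} (hH : IsPiHall {p | p ∣ k} H) :
    Nat.card H = m := by
  have h3 := H.card_mul_index.trans (Nat.mul_div_cancel' h1).symm
  exact Nat.dvd_antisymm (Nat.Coprime.dvd_of_dvd_mul_right (Nat.coprime_of_dvd fun p hp a b =>
      hp.one_lt.ne' (Nat.eq_one_of_dvd_coprimes h2 ((hk p hp).1 (hH.1 p hp a)) b)) (h3 ▸ dvd_mul_right _ _))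
    (Nat.Coprime.dvd_of_dvd_mul_right (Nat.coprime_of_dvd fun p hp a => hH.2 p hp ((hk p hp).2 a))
      (h3 ▸ dvd_mul_right _ _))

theorem not_mul_dvd {m n p : ℕ} (h0 : 0 < m) (h1 : m ∣ n) (h2 : m.Coprime (n / m)) (hp : p.Prime)
    (hm : p ∣ m) : ¬ m * p ∣ n := fun e => hp.one_lt.ne' (Nat.eq_one_of_dvd_coprimes h2 hm
      (Nat.dvd_of_mul_dvd_mul_left h0 (by rwa [Nat.mul_div_cancel' h1])))

theorem exists_of_hallNumber {m : ℕ} (h : IsPrimePow m ∨ m % 4 = 2 ∨ m = 12 ∨ m = 24 ∨ m = 60)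
    (h1 : m ∣ Nat.card G) (h2 : m.Coprime (Nat.card G / m)) : ∃ H : Subgroup G, Nat.card H = m := by
  have h0 : 0 < m := Nat.pos_of_dvd_of_pos h1 Nat.card_pos
  have key := fun p => @not_mul_dvd m _ p h0 h1 h2
  rcases h with h | h | rfl | rfl | rfl
  · obtain ⟨p, k, hp, -, rfl⟩ := (isPrimePow_nat_iff m).1 h
    have := Fact.mk hp
    exact Sylow.exists_subgroup_card_pow_prime p h1
  · have : Group.IsSolvable G := by_contra fun e => by
      have h3 := key 2 Nat.prime_two (by omega)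
      obtain ⟨c, hc⟩ := h1
      have h4 := four_dvd_of_not_solvable e
      rw [hc] at h3 h4
      rw [Nat.mul_dvd_mul_iff_left h0] at h3
      have := (Nat.Coprime.pow_left 2 (Nat.prime_two.coprime_iff_not_dvd.2 h3)).dvd_of_dvd_mul_right h4
      omega
    obtain ⟨H, hH⟩ := H4.exists_isPiHall {p | p ∣ m} G
    exact ⟨H, card_eq_of_hall h1 h2 (fun _ _ => Iff.rfl) hH⟩
  · have h3 := key 2 Nat.prime_two (by decide)
    have h4 := key 3 Nat.prime_three (by decide)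
    obtain ⟨H, hH⟩ := hall_24 (G := G) (by omega) (by omega)
    exact ⟨H, card_eq_of_hall h1 h2 (fun p hp => ⟨fun e => hp.dvd_of_dvd_pow (n := 2)
      (e.trans (by decide)), fun e => e.trans (by decide)⟩) hH⟩
  · have h3 := key 2 Nat.prime_two (by decide)
    have h4 := key 3 Nat.prime_three (by decide)
    obtain ⟨H, hH⟩ := hall_24 (G := G) (by omega) (by omega)
    exact ⟨H, card_eq_of_hall h1 h2 (fun _ _ => Iff.rfl) hH⟩
  · have h3 := key 2 Nat.prime_two (by decide)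
    have h4 := key 3 Nat.prime_three (by decide)
    have h5 := key 5 Nat.prime_five (by decide)
    obtain ⟨H, hH⟩ := hall_60 (G := G) (by omega) (by omega) (by omega)
    exact ⟨H, card_eq_of_hall h1 h2 (fun _ _ => Iff.rfl) hH⟩

open H61 MulAction Matrix MatrixGroups in
theorem card_cases_psl_prime {q d : ℕ} [hq : Fact q.Prime] (hd : q = 2 * d + 1)
    (H : Subgroup PSL(2, ZMod q)) : Nat.card PSL(2, ZMod q) = (q + 1) * (q * d) ∧
      (H = ⊤ ∨ Nat.card H ∣ q * d ∨ Nat.card H ∣ d + 1 ∨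
        (∃ k, (k ∣ d ∨ k ∣ d + 1) ∧ Nat.card H = 2 * k) ∨
          Nat.card H = 12 ∨ Nat.card H = 24 ∨ Nat.card H = 60) := by
  have hF : Nat.card (ZMod q) = q := Nat.card_zmod q
  obtain ⟨p, _, _, y, d', -, h1, m⟩ := main_psl_odd (F := ZMod q) (hF.symm ▸ ⟨d, hd⟩)
  obtain rfl : d = d' := by omega
  have sub : ∀ (k : Subfield (ZMod q)) (e : ℕ), 2 ≤ e → Nat.card k ^ e ≠ Nat.card (ZMod q) :=
    fun k e he h => by
      have := ((Nat.Prime.pow_eq_iff hq.out).1 (h.trans hF)).2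
      omega
  refine ⟨by rw [m.card_eq, hF], or_iff_not_imp_left.2 fun hH => ?_⟩
  rcases dickson_psl_proper p m H hH with ⟨a, ha, h⟩ | ⟨a, ha, h⟩ | ⟨a, b, h2, h3, -, ⟨e⟩⟩ |
    ⟨-, ⟨e⟩⟩ | ⟨-, ⟨e⟩⟩ | ⟨-, ⟨e⟩⟩ | ⟨k, -, e, he, h, -⟩ | ⟨k, -, e, he, h, -⟩
  · exact Or.inl ((card_dvd_of_le h).trans (by rw [(m.of_mem ha (mem_orbit_self y)).card_stab, hF]))
  · exact Or.inr (Or.inl ((m.of_mem (mem_orbit_self _) ha).card_stab_y ▸ card_dvd_of_le h))
  · refine Or.inr (Or.inr (Or.inl ⟨_, ?_, (Nat.card_congr e.toEquiv).trans DihedralGroup.nat_card⟩))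
    rcases m.tor_cases h2 fun e => h3 (by rw [e, inf_bot_eq]) with h | h
    exacts [Or.inl (h.2.2 ▸ card_dvd_of_le inf_le_right), Or.inr (h.2.2.2 ▸ card_dvd_of_le inf_le_right)]
  · exact Or.inr (Or.inr (Or.inr (Or.inl ((Nat.card_congr e.toEquiv).trans card_alt4))))
  · refine Or.inr (Or.inr (Or.inr (Or.inr (Or.inl ?_))))
    rw [Nat.card_congr e.toEquiv, Nat.card_perm]; simp; rfl
  · exact Or.inr (Or.inr (Or.inr (Or.inr (Or.inr ((Nat.card_congr e.toEquiv).trans card_alt5)))))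
  · exact absurd h (sub k e he)
  · exact absurd h (sub k e he)

theorem exists_prime_exact {c b : ℕ} (hc : 0 < c) (hb : 0 < b) (h : c.Coprime b) (n : ℕ) :
    ∃ q i j, n < q ∧ q.Prime ∧ q = 2 * (c * i) + 1 ∧ c * i + 1 = b * j ∧ c.Coprime i ∧ b.Coprime j := by
  obtain ⟨d, h1, h2⟩ := Nat.chineseRemainder (h.pow 2 2) c (b - 1)
  have h3 : c ∣ d := (h1.dvd_iff (dvd_pow_self c two_ne_zero)).2 dvd_rfl
  have h4 : d + 1 ≡ b [MOD b ^ 2] := (Nat.sub_add_cancel hb : b - 1 + 1 = b) ▸ h2.add_right 1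
  have h5 : b ∣ d + 1 := (h4.dvd_iff (dvd_pow_self b two_ne_zero)).2 dvd_rfl
  obtain ⟨q, h6, h7, h8⟩ := Nat.forall_exists_prime_gt_and_modEq n (q := 2 * (c ^ 2 * b ^ 2))
    (a := 2 * d + 1) (by positivity) (by
      refine Nat.Coprime.mul_right (by simp) (Nat.Coprime.mul_right (Nat.Coprime.pow_right _ ?_)
        (Nat.Coprime.pow_right _ ?_))
      · exact Nat.Coprime.of_dvd_right (h3.mul_left 2) (by simp)
      · exact Nat.Coprime.of_dvd_right (h5.mul_left 2) (by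
          rw [show 2 * (d + 1) = 2 * d + 1 + 1 by ring]; simp))
  obtain ⟨e, rfl⟩ : ∃ e, q = 2 * e + 1 :=
    ⟨q / 2, by have : q % 2 = (2 * d + 1) % 2 := h8.of_mul_right _; omega⟩
  have h9 : e ≡ d [MOD c ^ 2 * b ^ 2] := (Nat.ModEq.add_right_cancel' 1 h8).mul_left_cancel' two_ne_zero
  have key : ∀ {a x : ℕ}, 0 < a → x ≡ a [MOD a ^ 2] → ∃ i, x = a * i ∧ a.Coprime i := fun {a x} ha h => by
    obtain ⟨i, rfl⟩ := (h.dvd_iff (dvd_pow_self a two_ne_zero)).2 dvd_rfl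
    have : i ≡ 1 [MOD a] := Nat.ModEq.mul_left_cancel' ha.ne' (by rwa [mul_one, ← pow_two])
    exact ⟨i, rfl, (Nat.coprime_of_mul_modEq_one 1 (by rwa [mul_one])).symm⟩
  obtain ⟨i, rfl, hi⟩ := key hc ((h9.of_mul_right _).trans h1)
  obtain ⟨j, hj, hj'⟩ := key hb (((h9.of_mul_left _).add_right 1).trans h4)
  exact ⟨_, i, j, h6, h7, rfl, hj, hi, hj'⟩

theorem s4044 (m : ℕ) (hm : 2 ≤ m) :
    (∀ (G : Type) [Group G] [Finite G], m ∣ Nat.card G → m.Coprime (Nat.card G / m) →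
        ∃ H : Subgroup G, Nat.card H = m) ↔
    (IsPrimePow m ∨ m % 4 = 2 ∨ m = 12 ∨ m = 24 ∨ m = 60) := by
  refine ⟨fun h => by_contra fun hn => ?_, fun h G _ _ => exists_of_hallNumber h⟩
  simp only [not_or] at hn
  obtain ⟨h1, h2, h3⟩ := hn
  -- `m = s * c * b`, `b` odd, `s = 1` and `c` odd or `s = 2` and `c` even
  obtain ⟨s, c, b, rfl, hc, hb, hcb, hs⟩ : ∃ s c b, m = s * c * b ∧ 1 < c ∧ 1 < b ∧
      (2 * c).Coprime b ∧ (s = 1 ∧ Odd c ∨ s = 2 ∧ Even c) := by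
    have hp := Nat.minFac_prime (by omega : m ≠ 1)
    obtain ⟨a, b, h4, h5⟩ := Nat.exists_eq_pow_mul_and_not_dvd (by omega : m ≠ 0) _ hp.ne_one
    generalize hr : m.minFac = r at hp h4 h5
    have ha : 0 < a := Nat.pos_of_ne_zero fun e => h4 (by
      rw [e, pow_zero, one_mul] at h5
      exact h5 ▸ hr ▸ Nat.minFac_dvd m)
    have hb : 1 < b := by
      rcases b with _ | _ | b
      · simp at h4
      · exact absurd (h5 ▸ (isPrimePow_nat_iff _).2 ⟨r, a, hp, ha, by simp⟩) h1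
      · omega
    have h6 := (hp.coprime_iff_not_dvd.2 h4).pow_left a
    by_cases h7 : r = 2
    · subst h7
      obtain ⟨a, rfl⟩ : ∃ a', a = a' + 2 := ⟨a - 2, by
        by_contra e
        obtain rfl : a = 1 := by omega
        omega⟩
      exact ⟨2, 2 ^ (a + 1), b, by rw [h5]; ring, Nat.one_lt_two_pow (by omega), hb,
        by rwa [← pow_succ'], Or.inr ⟨rfl, (Nat.even_pow' (by omega)).2 even_two⟩⟩
    have h8 : ¬ 2 ∣ m := fun e => h7 (hr ▸ (Nat.minFac_eq_two_iff m).2 e)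
    exact ⟨1, r ^ a, b, by rw [h5]; ring, Nat.one_lt_pow ha.ne' hp.one_lt, hb,
      Nat.Coprime.mul_left (Nat.prime_two.coprime_iff_not_dvd.2 fun e => h8 (h5 ▸ e.mul_left _)) h6,
      Or.inl ⟨rfl, (hp.odd_of_ne_two h7).pow⟩⟩
  obtain ⟨q, i, j, h4, h5, h6, h7, hi, hj⟩ := exists_prime_exact (by omega) (by omega)
    (Nat.Coprime.coprime_mul_left hcb) (s * c * b)
  have := Fact.mk h5
  have hG := (card_cases_psl_prime h6 ⊤).1
  have hq : (s * c * b).Coprime q := (Nat.coprime_of_lt_prime (by omega) h4 h5).symm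
  have hcj : c.Coprime j := Nat.Coprime.coprime_mul_left_right (h7 ▸ by simp : c.Coprime (b * j))
  have hbi : (b * j).Coprime (c * i) := h7 ▸ by simp
  have hb2 : ¬ b ∣ c * i := fun e => hb.ne' (Nat.eq_one_of_dvd_coprimes hbi (dvd_mul_right b j) e)
  have hc2 : ¬ c ∣ b * j := fun e => hc.ne' (Nat.eq_one_of_dvd_coprimes hbi e (dvd_mul_right c i))
  have h8 : (c * b).Coprime (j * i) := Nat.Coprime.mul_left (hcj.mul_right hi)
    (hj.mul_right (Nat.Coprime.coprime_mul_left_right (Nat.Coprime.coprime_mul_right hbi)))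
  obtain ⟨t, ht, h9⟩ : ∃ t, s * t = 2 ∧ (s * c * b).Coprime (t * (j * i)) := by
    rcases hs with ⟨rfl, hs⟩ | ⟨rfl, hs⟩
    · exact ⟨2, rfl, (one_mul c).symm ▸ Nat.Coprime.mul_right (Nat.Coprime.mul_left
        (Nat.coprime_two_right.2 hs) (Nat.Coprime.coprime_mul_right hcb).symm) h8⟩
    · refine ⟨1, rfl, ?_⟩
      rw [one_mul, mul_assoc]
      exact Nat.Coprime.mul_left (Nat.Coprime.of_dvd_left (hs.two_dvd.mul_right b) h8) h8
  have h10 : (q + 1) * (q * (c * i)) = s * c * b * (q * (t * (j * i))) := by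
    rw [show q + 1 = s * t * (b * j) by rw [ht, ← h7, h6]; ring]; ring
  rw [h10] at hG
  obtain ⟨H, hH⟩ := h _ (hG ▸ dvd_mul_right _ _) (by
    rw [hG, Nat.mul_div_cancel_left _ (by omega)]; exact hq.mul_right h9)
  rcases (card_cases_psl_prime h6 H).2 with rfl | e | e | ⟨k, e, e'⟩ | e
  · rw [card_top, hG] at hH
    exact h5.one_lt.ne' (Nat.eq_one_of_mul_eq_one_right ((Nat.mul_eq_left (by omega)).1 hH))
  · exact hb2 ((dvd_mul_left b _).trans (hq.dvd_of_dvd_mul_left (hH ▸ e)))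
  · exact hc2 (((dvd_mul_left c s).mul_right b).trans (h7 ▸ hH ▸ e))
  · rw [hH] at e'
    rcases hs with ⟨rfl, hs⟩ | ⟨rfl, hs⟩
    · exact Nat.not_even_iff_odd.2 (hs.mul (Nat.coprime_two_left.1 (Nat.Coprime.coprime_mul_right hcb)))
        ⟨k, by rw [one_mul] at e'; omega⟩
    obtain rfl : k = c * b := by rw [mul_assoc] at e'; omega
    exact e.elim (fun e => hb2 ((dvd_mul_left b c).trans e)) fun e =>
      hc2 ((dvd_mul_right c b).trans (h7 ▸ e))
  · omega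

end H24
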