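/- Local lemmas for the real class size rows S4187, S4192: lifting of real elements, a TI section,
and the key lemma on an odd element normalising a subgroup of index two of a Sylow 2-subgroup. -/
import Cfsg.Agent.H18.Misc2
import Cfsg.Agent.H18.Elt
import Cfsg.Agent.H83.InvPair
import Cfsg.Agent.H83.BaerSuzuki
import Cfsg.Agent.H2.Fitting
import Cfsg.Agent.H31.CITPair
import Cfsg.Agent.H4.Product
import Cfsg.Agent.S0205
import Cfsg.Agent.S3863

set_option autoImplicit false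

namespace H24.RC

open Subgroup H98 Cfsg

universe u

variable {G : Type*} [Group G]

theorem eq_one_of_odd {x : G} (h : Odd (orderOf x)) {k : ℕ} (hk : x ^ 2 ^ k = 1) : x = 1 :=
  orderOf_eq_one_iff.1 (Nat.eq_one_of_dvd_coprimes ((Nat.coprime_two_left.2 h).pow_left k)
    (orderOf_dvd_of_pow_eq_one hk) dvd_rfl)

theorem eq_one_of_odd_mem {P : Subgroup G} (hP : IsPGroup 2 P) {x : G} (h : Odd (orderOf x))
    (hx : x ∈ P) : x = 1 := by
  obtain ⟨k, hk⟩ := H18.exists_pow_eq_one_of_mem hP hx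
  exact eq_one_of_odd h hk

theorem eq_one_of_odd_sq {P : Subgroup G} (hP : IsPGroup 2 P) {x : G} (h : Odd (orderOf x))
    (hx : x * x ∈ P) : x = 1 := by
  obtain ⟨k, hk⟩ := H18.exists_pow_eq_one_of_mem hP hx
  rw [← sq, ← pow_mul, ← pow_succ'] at hk
  exact eq_one_of_odd h hk

theorem mem_of_odd_pow {H : Subgroup G} {x : G} (h : Odd (orderOf x)) {k : ℕ}
    (hk : x ^ 2 ^ k ∈ H) : x ∈ H :=
  zpowers_le.2 hk (mem_zpowers_pow_iff.2 ((Nat.coprime_two_left.2 h).pow_left k))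

theorem lift_real [Finite G] {H : Type*} [Group H] (f : G →* H) (hf : Function.Surjective f)
    (hk : IsPGroup 2 f.ker) {y t : H} (hy : Odd (orderOf y)) (ht : t * y * t⁻¹ = y⁻¹) :
    ∃ x n : G, f x = y ∧ f n = t ∧ Odd (orderOf x) ∧ n * x * n⁻¹ = x⁻¹ := by
  obtain ⟨x, rfl, hx⟩ := H18.exists_lift_not_dvd f hf Nat.prime_two (y := y)
    (by rwa [← even_iff_two_dvd, Nat.not_even_iff_odd])
  obtain ⟨k, hk'⟩ := hk.exists_card_eq
  have hcop : (orderOf x).Coprime (Nat.card f.ker) :=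
    hk' ▸ ((Nat.Prime.coprime_iff_not_dvd Nat.prime_two).2 hx).symm.pow_right k
  have := Finite.of_surjective f hf
  have h1 : t ∈ normalizer (zpowers (f x) : Set H) :=
    mem_normalizer_of_cj_le (by
      rw [cj, MonoidHom.map_zpowers, zpowers_le]
      exact (congrArg (· ∈ _) ht).mpr (inv_mem (mem_zpowers _)))
  rw [← H18.map_normalizer_zpowers_of_coprime _ hf hcop] at h1
  obtain ⟨n, hn, rfl⟩ := h1
  refine ⟨x, n, rfl, rfl, by rwa [← even_iff_two_dvd, Nat.not_even_iff_odd] at hx, ?_⟩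
  rw [← mul_eq_one_iff_eq_inv, ← orderOf_eq_one_iff]
  refine Nat.eq_one_of_dvd_coprimes hcop (orderOf_dvd_of_mem_zpowers (mul_mem
    (conj_mem_of_mem_normalizer hn (mem_zpowers x)) (mem_zpowers x)))
    (Subgroup.orderOf_dvd_natCard _ ?_)
  rw [MonoidHom.mem_ker, map_mul, map_mul, map_mul, map_inv, ht, inv_mul_cancel]

theorem eq_one_of_conj {g s : G} (h : g⁻¹ * s * g = 1) : s = 1 := by
  calc s = g * (g⁻¹ * s * g) * g⁻¹ := by group
    _ = 1 := by rw [h]; group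

theorem syl_cj {S : Subgroup G} (hS : IsSyl 2 S ⊤) (g : G) : IsSyl 2 (cj g S) ⊤ :=
  hS.cj_of_mem (mem_top g)

/-- Elementary abelian TI Sylow subgroups normalised by no real element of odd order. -/
theorem ti_two [Finite G] {S T : Subgroup G} (hS : IsSyl 2 S ⊤) (hT : IsSyl 2 T ⊤) (hne : T ≠ S)
    (hsq : ∀ s ∈ S, s * s = 1)
    (hTI : ∀ g : G, cj g S ≠ S → ∀ s ∈ S, s ∈ cj g S → s = 1)
    (hreal : ∀ y t : G, Odd (orderOf y) → t * y * t⁻¹ = y⁻¹ → y ∈ normalizer (S : Set G) → y = 1) :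
    ∃ u ∈ S, (∀ s ∈ S, s = 1 ∨ s = u) ∧
      ∃ x : G, x ≠ 1 ∧ Odd (orderOf x) ∧ u * x * u⁻¹ = x⁻¹ := by
  have TI : ∀ U U' : Subgroup G, IsSyl 2 U ⊤ → IsSyl 2 U' ⊤ → ∀ s ∈ U, s ∈ U' → s ≠ 1 →
      U = U' := by
    intro U U' hU hU' s hs hs' h1
    obtain ⟨g, -, rfl⟩ := hS.exists_cj_eq hU
    obtain ⟨g', -, rfl⟩ := hS.exists_cj_eq hU'
    by_contra hn
    refine h1 ?_
    have := hTI (g⁻¹ * g') (fun e => hn (by rw [← e, cj_cj, mul_inv_cancel_left, e])) _
      (mem_cj.1 hs) (by rw [← cj_cj, mem_cj]; simpa [mul_assoc] using hs')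
    exact eq_one_of_conj this
  obtain ⟨g0, -, hg0⟩ := hS.exists_cj_eq hT
  obtain ⟨c, hcT, hc1⟩ : ∃ c ∈ T, c ≠ 1 := by
    by_contra! h
    have h0 : T = ⊥ := (eq_bot_iff_forall _).2 h
    rw [← hg0, cj_eq_bot_iff] at h0
    exact hne (by rw [← hg0, h0, cj_bot])
  have hcc : c * c = 1 := by
    rw [← hg0, mem_cj] at hcT
    have := hsq _ hcT
    calc c * c = g0 * (g0⁻¹ * c * g0 * (g0⁻¹ * c * g0)) * g0⁻¹ := by group
      _ = 1 := by rw [this]; group
  have key : ∀ a ∈ S, a ≠ 1 → Odd (orderOf (a * c)) := by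
    intro a ha ha1
    by_contra ho
    obtain ⟨h2, hza, hzc⟩ := H83.half_pow_spec (hsq a ha) hcc (orderOf_pos _).ne'
      (Nat.not_odd_iff_even.1 ho)
    set z := (a * c) ^ (orderOf (a * c) / 2)
    have hz := H83.mul_self_of_orderOf_two h2
    have sub : ∀ U : Subgroup G, IsSyl 2 U ⊤ → ∀ b ∈ U, b ≠ 1 → b * b = 1 → Commute z b →
        z ∈ U := by
      intro U hU b hb hb1 hbb hzb
      obtain ⟨U', hU', hle⟩ := exists_isSyl_le (H := ⊤) (H83.isPGroup_closure_pair hz hbb (k := 1)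
        (by rw [pow_one, hzb.mul_pow, sq, sq, hz, hbb, mul_one])) le_top
      rw [TI U U' hU hU' b hb (hle (subset_closure (by simp))) hb1]
      exact hle (subset_closure (by simp))
    exact hne (TI T S hT hS z (sub T hT c hcT hc1 hcc hzc) (sub S hS a ha ha1 (hsq a ha) hza)
      (H83.ne_one_of_orderOf_two h2))
  have swap : ∀ a ∈ S, a ≠ 1 → ∃ s : G, s * s = 1 ∧ s * a * s⁻¹ = c ∧ cj s S = T := by
    intro a ha ha1
    obtain ⟨k, hk⟩ := H83.exists_zpow_conj_of_odd (hsq a ha) hcc (key a ha ha1)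
    have e : (a * c) ^ k * a * a * ((a * c) ^ k * a)⁻¹ = c := Eq.trans (by group) hk
    refine ⟨(a * c) ^ k * a, ?_, e, TI _ _ (syl_cj hS _) hT c
      ((congrArg (· ∈ _) e).mp (conj_mem_cj ha)) hcT hc1⟩
    have := H83.mul_zpow_mul_self_of_inverts (hsq a ha) (H83.left_inverts_mul (hsq a ha) hcc) k
    calc _ = a⁻¹ * (a * (a * c) ^ k * (a * (a * c) ^ k)) * a := by group
      _ = 1 := by rw [this]; group
  obtain ⟨u, huS, hu1⟩ : ∃ u ∈ S, u ≠ 1 := by
    exact ⟨g0⁻¹ * c * g0, mem_cj.1 (hg0 ▸ hcT), fun e => hc1 (eq_one_of_conj e)⟩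
  refine ⟨u, huS, fun s hs => ?_, u * c, fun e => ?_, key u huS hu1,
    H83.left_inverts_mul (hsq u huS) hcc⟩
  · by_cases hs1 : s = 1
    · exact Or.inl hs1
    right
    obtain ⟨a, ha, ea, ha'⟩ := swap u huS hu1
    obtain ⟨b, hb, eb, hb'⟩ := swap s hs hs1
    have hai : a⁻¹ = a := inv_eq_of_mul_eq_one_right ha
    have hn : a * b ∈ normalizer (S : Set G) := by
      rw [← H98.cj_eq_self_iff, ← cj_cj, hb', ← ha', cj_cj, ha, cj_one]
    obtain ⟨j, m, hm, e⟩ := Nat.exists_eq_two_pow_mul_odd (orderOf_pos (a * b)).ne'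
    have h2 : (a * b) ^ 2 ^ j = 1 := by
      refine hreal _ a ?_ ?_ (pow_mem hn _)
      · rw [orderOf_pow_of_dvd (by positivity) (Dvd.intro _ e.symm), e,
          Nat.mul_div_cancel_left _ (by positivity)]
        exact hm
      · rw [← conj_pow, H83.left_inverts_mul ha hb, inv_pow]
    have hab : a * b ∈ S := hS.le_of_le_normalizer' (isPGroup_zpowers h2) le_top
      (zpowers_le.2 hn) (mem_zpowers _)
    have e1 : a * b * s * (a * b)⁻¹ = u := by
      calc _ = a * (b * s * b⁻¹) * a⁻¹ := by group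
        _ = (a * a) * u * (a * a)⁻¹ := by rw [eb, ← ea]; group
        _ = u := by rw [ha]; group
    have hc : a * b * s = s * (a * b) := by
      have h1 := inv_eq_of_mul_eq_one_right (hsq _ (mul_mem hab hs))
      rw [mul_inv_rev, inv_eq_of_mul_eq_one_right (hsq _ hs),
        inv_eq_of_mul_eq_one_right (hsq _ hab)] at h1
      exact h1.symm
    rw [← e1, hc]; group
  · have : c = u := by rw [← inv_eq_of_mul_eq_one_right (hsq u huS)]; exact eq_inv_of_mul_eq_one_right e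
    exact hne (TI T S hT hS c hcT (this ▸ huS) hc1)

/-- The same modulo a normal `2`-subgroup. -/
theorem ti_two_mod [Finite G] {S T Y : Subgroup G} [Y.Normal] (hS : IsSyl 2 S ⊤)
    (hT : IsSyl 2 T ⊤) (hne : T ≠ S) (hY : Y ≤ S) (hsq : ∀ s ∈ S, s * s ∈ Y)
    (hTI : ∀ g : G, cj g S ≠ S → ∀ s ∈ S, s ∈ cj g S → s ∈ Y)
    (hreal : ∀ y t : G, Odd (orderOf y) → t * y * t⁻¹ = y⁻¹ → y ∈ normalizer (S : Set G) → y = 1) :
    ∃ u ∈ S, (∀ s ∈ S, s ∈ Y ∨ u⁻¹ * s ∈ Y) ∧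
      ∃ x : G, x ≠ 1 ∧ Odd (orderOf x) ∧ u * x * u⁻¹ = x⁻¹ := by
  let f := QuotientGroup.mk' Y
  have hf : Function.Surjective f := QuotientGroup.mk'_surjective Y
  have hk : f.ker = Y := QuotientGroup.ker_mk' Y
  have hY2 : IsPGroup 2 Y := hS.isPGroup.to_le hY
  have top : (⊤ : Subgroup G).map f = ⊤ := map_top_of_surjective f hf
  have back : ∀ U : Subgroup G, IsSyl 2 U ⊤ → ∀ x, f x ∈ U.map f → x ∈ U := by
    intro U hU x hx
    have : Y ≤ U := hU.le_of_le_normalizer hY2 le_top (by rw [normalizer_eq_top]; exact le_top)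
    rwa [← mem_comap, comap_map_eq_self (hk.symm ▸ this)] at hx
  obtain ⟨u, ⟨u0, hu0, rfl⟩, h2, x, hx1, hxo, hux⟩ := ti_two (top ▸ hS.map f) (top ▸ hT.map f)
    (fun e : T.map f = S.map f => hne (le_antisymm
      (fun x hx => back S hS x (e.le (mem_map_of_mem f hx)))
      fun x hx => back T hT x (e.ge (mem_map_of_mem f hx))))
    (by
      rintro _ ⟨s, hs, rfl⟩
      rw [← map_mul, ← MonoidHom.mem_ker, hk]
      exact hsq s hs)
    (by
      rintro g hg _ ⟨s, hs, rfl⟩ h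
      obtain ⟨g, rfl⟩ := hf g
      rw [← map_cj] at hg h
      rw [← MonoidHom.mem_ker, hk]
      exact hTI g (fun e => hg (by rw [e])) s hs (back _ (syl_cj hS g) s h))
    (by
      intro y t hy ht hn
      obtain ⟨x, n, rfl, rfl, hx, e⟩ := lift_real f hf (hk.symm ▸ hY2) hy ht
      rw [hreal x n hx e (mem_normalizer_of_cj_le fun s hs => back S hS s ?_), map_one]
      rw [← cj_eq_self hn, ← map_cj]
      exact mem_map_of_mem f hs)
  obtain ⟨x, n, rfl, hn, hx, e⟩ := lift_real f hf (hk.symm ▸ hY2) hxo hux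
  refine ⟨n, back S hS n (hn ▸ mem_map_of_mem f hu0), fun s hs => ?_, x,
    fun e => hx1 (by rw [e, map_one]), hx, e⟩
  rcases h2 _ (mem_map_of_mem f hs) with h | h
  · left; rwa [← hk]
  · right; rw [← hk, MonoidHom.mem_ker, map_mul, map_inv, hn, h, inv_mul_cancel]

/-- A Sylow intersection of index two, normalised by a real element of odd order. -/
theorem exists_data [Finite G] {S S₀ : Subgroup G} (hS : IsSyl 2 S ⊤) (hS₀ : IsSyl 2 S₀ ⊤)
    (hne₀ : S₀ ≠ S) (hsq₀ : ∀ s ∈ S, s * s ∈ S₀)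
    (hreal : ∀ y t : G, Odd (orderOf y) → t * y * t⁻¹ = y⁻¹ → y ∈ normalizer (S : Set G) → y = 1) :
    ∃ Y ≤ S, ∃ u ∈ S, (∀ s ∈ S, s ∈ Y ∨ u⁻¹ * s ∈ Y) ∧
      ∃ x ∈ normalizer (Y : Set G), x ≠ 1 ∧ Odd (orderOf x) ∧ u * x * u⁻¹ = x⁻¹ := by
  obtain ⟨Y, ⟨S₁, hS₁, hne, hsq, rfl⟩, hmax⟩ := (wellFounded_gt (α := Subgroup G)).has_min
    {Y | ∃ S₁, IsSyl 2 S₁ ⊤ ∧ S₁ ≠ S ∧ (∀ s ∈ S, s * s ∈ S₁) ∧ Y = S ⊓ S₁}
    ⟨_, S₀, hS₀, hne₀, hsq₀, rfl⟩
  set Y := S ⊓ S₁ with hYdef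
  set N := normalizer (Y : Set G) with hN
  have hsqY : ∀ s ∈ S, s * s ∈ Y := fun s hs => ⟨mul_mem hs hs, hsq s hs⟩
  have hSN : S ≤ N := fun s hs => mem_normalizer_of_cj_le (by
    rintro _ ⟨y, hy, rfl⟩
    have : (MulAut.conj s).toMonoidHom y = (s * y * (s * y)) * y⁻¹ * (s⁻¹ * s⁻¹) := by
      simp [mul_assoc]
    rw [this]
    exact mul_mem (mul_mem (hsqY _ (mul_mem hs hy.1)) (inv_mem hy)) (hsqY _ (inv_mem hs)))
  have hlt : Y < S₁ := lt_of_le_of_ne inf_le_right fun e =>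
    hne (hS₁.eq_of_le hS.isPGroup (e ▸ inf_le_left) le_top).symm
  have hlt' := lt_inf_normalizer hS₁.isPGroup hlt
  obtain ⟨T, hT, hle⟩ := exists_isSyl_le (hS₁.isPGroup.to_le inf_le_left : IsPGroup 2 ↥(S₁ ⊓ N))
    inf_le_right
  have hSN' : IsSyl 2 S N := hS.of_le hSN le_top
  haveI : (Y.subgroupOf N).Normal := normal_in_normalizer
  obtain ⟨u, hu, h2, x, hx1, hxo, hux⟩ := ti_two_mod (Y := Y.subgroupOf N) hSN'.subgroupOf_top
    hT.subgroupOf_top
    (fun e => hlt'.not_ge fun s hs => by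
      have : (⟨s, hs.2⟩ : N) ∈ T.subgroupOf N := hle hs
      rw [e] at this
      exact ⟨this, hs.1⟩)
    (fun s hs => hs.1) (fun s hs => hsqY s hs)
    (by
      intro g hg s hs h
      have hg' : cj (g : G) S ≠ S := fun e => hg (by
        ext y
        rw [mem_cj, mem_subgroupOf, mem_subgroupOf]
        nth_rw 2 [← e]
        rw [mem_cj]
        rfl)
      have hYg : Y ≤ cj (g : G) S := by
        rw [← cj_eq_self g.2]; exact cj_mono _ inf_le_left
      have := hmax (S ⊓ cj (g : G) S) ⟨_, syl_cj hS g, hg', fun s hs => hYg (hsqY s hs), rfl⟩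
      have e : Y = S ⊓ cj (g : G) S := by
        by_contra hn
        exact this (lt_of_le_of_ne (le_inf inf_le_left hYg) hn)
      rw [mem_subgroupOf, e]
      exact ⟨hs, mem_cj.2 (mem_subgroupOf.1 (mem_cj.1 h))⟩)
    (by
      intro y t hy ht hn
      refine Subtype.ext (hreal y t (by rwa [orderOf_coe]) (congrArg Subtype.val ht)
        (mem_normalizer_of_cj_le ?_))
      rintro _ ⟨s, hs, rfl⟩
      exact conj_mem_of_mem_normalizer hn (x := ⟨s, hSN hs⟩) hs)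
  exact ⟨Y, inf_le_left, u, hu, fun s hs => h2 ⟨s, hSN hs⟩ hs, x, x.2,
    fun e => hx1 (Subtype.ext e), by rwa [orderOf_coe], congrArg Subtype.val hux⟩

theorem eq_top_of_odd_index [Finite G] (hp : commutator G = ⊤) (K : Subgroup G) [K.Normal]
    (h : Odd K.index) : K = ⊤ := by
  have := Cfsg.Agent.S0205.result (G := G ⧸ K) h
  by_contra hn
  have : Nontrivial (G ⧸ K) := by
    rw [← Finite.one_lt_card_iff_nontrivial]
    exact one_lt_index_of_ne_top hn
  refine (Group.IsSolvable.commutator_lt_top_of_nontrivial (G ⧸ K)).ne ?_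
  have e := congrArg (map (QuotientGroup.mk' K)) hp
  rwa [commutator_def, map_commutator, map_top_of_surjective _ (QuotientGroup.mk'_surjective K)]
    at e

/-- The extended centralizer of an element. -/
def ext (x : G) : Subgroup G where
  carrier := {g | g * x * g⁻¹ = x ∨ g * x * g⁻¹ = x⁻¹}
  one_mem' := by simp
  mul_mem' := by
    rintro a b ha hb
    have e : a * b * x * (a * b)⁻¹ = a * (b * x * b⁻¹) * a⁻¹ := by group
    have e' : a * x⁻¹ * a⁻¹ = (a * x * a⁻¹)⁻¹ := by group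
    rcases hb with hb | hb
    · rwa [Set.mem_setOf_eq, e, hb]
    · rw [Set.mem_setOf_eq, e, hb, e']
      rcases ha with ha | ha <;> simp [ha]
  inv_mem' := by
    rintro a (ha | ha)
    · left; rw [inv_inv]; nth_rw 1 [← ha]; group
    · right
      rw [← inv_inj, inv_inv] at ha
      nth_rw 1 [← ha]; group

theorem mem_ext {x g : G} : g ∈ ext x ↔ g * x * g⁻¹ = x ∨ g * x * g⁻¹ = x⁻¹ := Iff.rfl

theorem lemG_final [Finite G] (hp : commutator G = ⊤) {S : Subgroup G} {u x : G}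
    (hS : IsSyl 2 S ⊤) (hSE : S ≤ ext x) (hx : Odd (orderOf x)) (hux : u * x * u⁻¹ = x⁻¹)
    (hc : ∀ g : G, ∃ n ∈ normalizer (S : Set G), g * x * g⁻¹ = n * x * n⁻¹) : x = 1 := by
  have h1 : S ≤ (ext x).normalCore := by
    intro s hs g
    obtain ⟨n, hn, e⟩ := hc g⁻¹
    have e1 : ∀ y : G, n⁻¹ * s * n * x * (n⁻¹ * s * n)⁻¹ = y →
        g * s * g⁻¹ * x * (g * s * g⁻¹)⁻¹ = g * n * y * (g * n)⁻¹ := by
      rintro _ rfl
      calc _ = g * s * (g⁻¹ * x * g⁻¹⁻¹) * s⁻¹ * g⁻¹ := by group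
        _ = _ := by rw [e]; group
    have e2 : g * n * x * (g * n)⁻¹ = x := by
      calc _ = g * (n * x * n⁻¹) * g⁻¹ := by group
        _ = x := by rw [← e]; group
    rcases hSE (conj_mem_of_mem_normalizer' hn hs) with h | h
    · exact Or.inl ((e1 _ h).trans e2)
    · exact Or.inr ((e1 _ h).trans (by rw [← conj_inv, e2]))
  have h2 : (ext x).normalCore = ⊤ := by
    refine eq_top_of_odd_index hp _ ?_
    rw [← Nat.not_even_iff_odd, even_iff_two_dvd]
    exact fun h => hS.not_dvd_relIndex (by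
      rw [relIndex_top_right]; exact h.trans (index_dvd_of_le h1))
  have h3 : ∀ g : G, g ∈ ext x := fun g => normalCore_le _ (h2 ▸ mem_top g)
  have h4 : commutator G ≤ centralizer {x} := by
    rw [commutator_def, commutator_le]
    intro a _ b _
    rw [mem_centralizer_singleton_iff, ← mul_inv_eq_iff_eq_mul, commutatorElement_def]
    have key : ∀ a b : G, a * (b * x * b⁻¹) * a⁻¹ = b * (a * x * a⁻¹) * b⁻¹ := fun a b => by
      rcases h3 a with ha | ha <;> rcases h3 b with hb | hb <;>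
        simp only [ha, hb, ← conj_inv, inv_inv]
    calc _ = a * b * (a⁻¹ * (b⁻¹ * x * b⁻¹⁻¹) * a⁻¹⁻¹) * (a * b)⁻¹ := by group
      _ = x := by rw [key]; group
  have h5 := mem_centralizer_singleton_iff.1 (h4 (hp ▸ mem_top u))
  rw [h5, mul_inv_cancel_right] at hux
  exact eq_one_of_odd hx (k := 1) (by rw [pow_one, sq]; nth_rw 1 [hux]; exact inv_mul_cancel x)

theorem lemG : ∀ (L : Type u) [Group L] [Finite L], commutator L = ⊤ →
    ∀ (S Y : Subgroup L) (u x : L), IsSyl 2 S ⊤ → Y ≤ S → u ∈ S →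
    (∀ s ∈ S, s ∈ Y ∨ u⁻¹ * s ∈ Y) → x ∈ normalizer (Y : Set L) → Odd (orderOf x) →
    u * x * u⁻¹ = x⁻¹ → (∀ g : L, ∃ n ∈ normalizer (S : Set L), g * x * g⁻¹ = n * x * n⁻¹) →
    x = 1 := by
  refine @H18.induction_card _ ?_
  intro L _ _ ih hp S Y u x hS hY hu h2 hxY hx hux hc
  by_contra hx1
  have hY2 : IsPGroup 2 Y := hS.isPGroup.to_le hY
  have hq : ∀ (K : Subgroup L) [K.Normal], K ≠ ⊥ → x ∈ K := by
    intro K _ hK
    let f := QuotientGroup.mk' K
    have hf : Function.Surjective f := QuotientGroup.mk'_surjective K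
    have top : (⊤ : Subgroup L).map f = ⊤ := map_top_of_surjective f hf
    rw [← QuotientGroup.eq_one_iff]
    refine ih (L ⧸ K) (H18.card_quotient_lt hK) ?_ (S.map f) (Y.map f) (f u) (f x)
      (top ▸ hS.map f) (map_mono hY) (mem_map_of_mem f hu) ?_
      (map_le_normalizer_map f le_rfl (mem_map_of_mem f hxY))
      (hx.of_dvd_nat (orderOf_map_dvd f x)) (by rw [← map_inv, ← map_inv, ← hux]; simp) ?_
    · have e := congrArg (map f) hp
      rwa [commutator_def, map_commutator, top] at e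
    · rintro _ ⟨s, hs, rfl⟩
      refine (h2 s hs).imp (mem_map_of_mem f) fun h => ?_
      rw [← map_inv, ← map_mul]
      exact mem_map_of_mem f h
    · intro g
      obtain ⟨g, rfl⟩ := hf g
      obtain ⟨n, hn, e⟩ := hc g
      exact ⟨f n, map_le_normalizer_map f le_rfl (mem_map_of_mem f hn), by
        simpa using congrArg f e⟩
  have fin : (∀ y ∈ Y, y * x = x * y) → False := fun h => by
    refine hx1 (lemG_final hp hS (fun s hs => ?_) hx hux hc)
    rcases h2 s hs with h' | h'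
    · exact Or.inl (by rw [h s h', mul_inv_cancel_right])
    · right
      calc _ = u * (u⁻¹ * s * x * (u⁻¹ * s)⁻¹) * u⁻¹ := by group
        _ = _ := by rw [h _ h', mul_inv_cancel_right, hux]
  have hcomm : ∀ y ∈ Y, y * x * y⁻¹ * x⁻¹ ∈ Y := fun y hy => by
    rw [mul_assoc, mul_assoc, ← mul_assoc x]
    exact mul_mem hy (conj_mem_of_mem_normalizer hxY (inv_mem hy))
  by_cases hC : centralizer (normalClosure {x} : Set L) = ⊥
  swap
  · refine fin fun y hy => ?_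
    have h1 : Commute (y * x * y⁻¹) x⁻¹ := Commute.inv_right (hq _ hC _
      (Normal.conj_mem inferInstance _ (subset_normalClosure (Set.mem_singleton x)) y))
    have := eq_one_of_odd_mem hY2 (Odd.of_dvd_nat (by
      rw [H83.orderOf_conj, orderOf_inv]; exact hx.mul hx) h1.orderOf_mul_dvd_mul_orderOf)
      (hcomm y hy)
    rwa [mul_inv_eq_one, mul_inv_eq_iff_eq_mul] at this
  have hO : pCore 2 L = ⊥ := by
    by_contra h
    exact hx1 (eq_one_of_odd_mem (H2.pCore_isPGroup 2 L) hx (hq _ h))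
  have hSY : ∀ s ∈ S, ∀ y ∈ Y, s * y * s⁻¹ ∈ Y := by
    intro s hs y hy
    rcases h2 s hs with h | h
    · exact mul_mem (mul_mem h hy) (inv_mem h)
    rcases h2 _ (mul_mem (mul_mem hs (hY hy)) (inv_mem hs)) with h' | h'
    · exact h'
    have : s⁻¹ ∈ Y := by simpa [mul_assoc] using mul_mem (inv_mem (mul_mem h hy)) h'
    exact mul_mem (mul_mem (inv_mem_iff.1 this) hy) this
  by_cases ha : ∃ t ∈ S, t ∉ Y ∧ ∀ s ∈ S, s * t = t * s
  · obtain ⟨t, ht, htY, htc⟩ := ha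
    have h0 := (h2 t ht).resolve_left htY
    have htC : t ∈ centralizer (Y : Set L) := fun y hy => htc y (hY hy)
    have hc1 : t * (x * t⁻¹ * x⁻¹) ∈ centralizer (Y : Set L) := mul_mem htC
      (conj_mem_of_mem_normalizer (normalizer_le_normalizer_centralizer Y hxY) (inv_mem htC))
    have hy1 := hSY u hu _ (hcomm _ h0)
    set c := t * (x * t⁻¹ * x⁻¹) with hcdef
    set y₁ := u * (u⁻¹ * t * x * (u⁻¹ * t)⁻¹ * x⁻¹) * u⁻¹ with hy1def
    have e : x ^ 2 = c⁻¹ * y₁ := by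
      have : y₁ = t * x * t⁻¹ * (u * x * u⁻¹)⁻¹ := by rw [hy1def]; group
      rw [this, hux, hcdef, sq]; group
    obtain ⟨k, hk⟩ := H18.exists_pow_eq_one_of_mem hY2 hy1
    have hcy : Commute c⁻¹ y₁ := (inv_mem hc1 y₁ hy1).symm
    have : x ∈ centralizer (Y : Set L) := mem_of_odd_pow hx (k := k + 1) (by
      rw [pow_succ', pow_mul, e, hcy.mul_pow, hk, mul_one]
      exact pow_mem (inv_mem hc1) _)
    exact fin this
  push Not at ha
  have hZ : ∀ t ∈ S, (∀ s ∈ S, s * t = t * s) → t ∈ Y := fun t ht h => by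
    by_contra hn
    obtain ⟨s, hs, e⟩ := ha t ht hn
    exact e (h s hs)
  have hZn : ∀ n ∈ normalizer (S : Set L), ∀ w ∈ S, (∀ s ∈ S, s * w = w * s) →
      n⁻¹ * w * n ∈ S ∧ ∀ s ∈ S, s * (n⁻¹ * w * n) = n⁻¹ * w * n * s := fun n hn w hw h =>
    ⟨conj_mem_of_mem_normalizer' hn hw, fun s hs => by
      calc _ = n⁻¹ * (n * s * n⁻¹ * w) * n := by group
        _ = _ := by rw [h _ (conj_mem_of_mem_normalizer hn hs)]; group⟩
  have hi : ∀ w ∈ S, (∀ s ∈ S, s * w = w * s) → ∀ g : L,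
      g * x * g⁻¹ * w * (g * x * g⁻¹)⁻¹ ∈ S := by
    intro w hw h g
    obtain ⟨n, hn, e⟩ := hc g
    obtain ⟨h1, h1'⟩ := hZn n hn w hw h
    have := conj_mem_of_mem_normalizer hn (hY (conj_mem_of_mem_normalizer hxY (hZ _ h1 h1')))
    rw [e]
    simpa [mul_assoc] using this
  let B : Subgroup L :=
    { carrier := {b | ∃ z ∈ Y, z * z = 1 ∧ (∀ y ∈ Y, y * z = z * y) ∧ b = z * x * z⁻¹ * x⁻¹}
      one_mem' := ⟨1, one_mem _, by simp, by simp, by simp⟩
      mul_mem' := by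
        rintro _ _ ⟨a, ha, ha2, hac, rfl⟩ ⟨b, hb, hb2, hbc, rfl⟩
        refine ⟨a * b, mul_mem ha hb, ?_, fun y hy => ?_, ?_⟩
        · rw [mul_assoc, ← mul_assoc b, hac b hb, mul_assoc, hb2, mul_one, ha2]
        · rw [← mul_assoc, hac y hy, mul_assoc, hbc y hy, mul_assoc]
        · have h1 := hbc _ (conj_mem_of_mem_normalizer hxY (inv_mem ha))
          have h2 : a⁻¹ * b⁻¹ = b⁻¹ * a⁻¹ := by rw [← mul_inv_rev, hac b hb, mul_inv_rev]
          calc _ = a * (x * a⁻¹ * x⁻¹ * b) * x * b⁻¹ * x⁻¹ := by group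
            _ = a * b * x * (a⁻¹ * b⁻¹) * x⁻¹ := by rw [h1]; group
            _ = _ := by rw [h2]; group
      inv_mem' := by
        rintro _ ⟨a, ha, ha2, hac, rfl⟩
        refine ⟨a, ha, ha2, hac, ?_⟩
        have h1 := hac _ (conj_mem_of_mem_normalizer hxY ha)
        have hi : a⁻¹ = a := inv_eq_of_mul_eq_one_right ha2
        calc _ = x * a * x⁻¹ * a⁻¹ := by group
          _ = a * (x * a * x⁻¹) := by rw [hi, h1]
          _ = _ := by rw [hi]; group }
  have hBY : B ≤ Y := by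
    rintro _ ⟨a, ha, -, -, rfl⟩
    exact hcomm a ha
  have hB : B = ⊥ := by
    by_contra hB
    have hn : S ≤ normalizer (B : Set L) := fun s hs => mem_normalizer_of_cj_le (by
      rintro _ ⟨b, hb, rfl⟩
      obtain ⟨a, ha, ha2, hac, rfl⟩ := id hb
      have hfix : ∀ y ∈ Y, y * (a * x * a⁻¹ * x⁻¹) * y⁻¹ = a * x * a⁻¹ * x⁻¹ := fun y hy => by
        have h1 := hac _ (conj_mem_of_mem_normalizer' hxY hy)
        have h3 : x⁻¹ * y * x * a⁻¹ = a⁻¹ * (x⁻¹ * y * x) := by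
          rw [eq_inv_mul_iff_mul_eq, ← mul_assoc, ← h1, mul_inv_cancel_right]
        calc _ = (y * a) * x * a⁻¹ * x⁻¹ * y⁻¹ := by group
          _ = a * x * (x⁻¹ * y * x * a⁻¹) * x⁻¹ * y⁻¹ := by rw [hac y hy]; group
          _ = _ := by rw [h3]; group
      change s * _ * s⁻¹ ∈ B
      rcases h2 s hs with h | h
      · rwa [hfix s h]
      have e1 : s * (a * x * a⁻¹ * x⁻¹) * s⁻¹ = u * (a * x * a⁻¹ * x⁻¹) * u⁻¹ := by
        nth_rw 2 [← hfix _ h]; group
      have hN : x⁻¹ * u ∈ normalizer (Y : Set L) := mul_mem (inv_mem hxY)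
        (mem_normalizer_of_cj_le (by rintro _ ⟨y, hy, rfl⟩; exact hSY u hu y hy))
      rw [e1, ← inv_mem_iff]
      refine ⟨x⁻¹ * u * a * (x⁻¹ * u)⁻¹, conj_mem_of_mem_normalizer hN ha, ?_, fun y hy => ?_, ?_⟩
      · rw [conj_mul, ha2]; group
      · calc _ = x⁻¹ * u * ((x⁻¹ * u)⁻¹ * y * (x⁻¹ * u) * a) * (x⁻¹ * u)⁻¹ := by group
          _ = _ := by rw [hac _ (conj_mem_of_mem_normalizer' hN hy)]; group
      · calc _ = (u * x * u⁻¹) * (u * a * u⁻¹) * (u * x * u⁻¹)⁻¹ * (u * a⁻¹ * u⁻¹) := by group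
          _ = _ := by rw [hux]; group)
    obtain ⟨b, hb, hb1, hb2, hbc, -⟩ := H31.exists_fixed_invol hS.isPGroup (hY2.to_le hBY) hn hB
    have hbS := hY (hBY hb)
    obtain ⟨z, -, -, -, e⟩ := hb
    refine hb1 (mem_bot.1 (hO ▸ H83.mem_pCore_of_baer_suzuki fun g => ?_))
    have h1 := conj_mem_cj (g := x⁻¹ * g) (hi b hbS hbc (x⁻¹ * g)⁻¹)
    have h3 := conj_mem_cj (g := x⁻¹ * g) (hi b hbS hbc ((x⁻¹ * g)⁻¹ * z))
    obtain ⟨k, hk⟩ := H18.exists_pow_eq_one_of_mem (isPGroup_cj _ hS.isPGroup) (mul_mem h3 h1)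
    refine H83.isPGroup_closure_pair hb2 (by rw [conj_mul, hb2]; group) (k := k + 1) ?_
    rw [pow_succ', pow_mul, ← hk]
    congr 1
    calc _ = b * (g * b * g⁻¹) * b⁻¹ * (g * b * g⁻¹) := by
          rw [inv_eq_of_mul_eq_one_right hb2, sq]; group
      _ = (z * x * z⁻¹ * x⁻¹) * (g * b * g⁻¹) * (z * x * z⁻¹ * x⁻¹)⁻¹ * (g * b * g⁻¹) := by rw [← e]
      _ = _ := by group
  have hS0 : S ≠ ⊥ := fun h => by
    rw [mem_bot.1 (h.le hu), one_mul, inv_one, mul_one] at hux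
    exact hx1 (eq_one_of_odd hx (k := 1)
      (by rw [pow_one, sq]; nth_rw 1 [hux]; exact inv_mul_cancel x))
  obtain ⟨w, hw, hw1, hw2, hwc, -⟩ :=
    H31.exists_fixed_invol hS.isPGroup hS.isPGroup le_normalizer hS0
  refine hw1 (mem_bot.1 (hC ▸ ?_))
  rw [normalClosure, centralizer_closure]
  intro y hy
  obtain ⟨x', hx', hy'⟩ := Group.mem_conjugatesOfSet_iff.1 hy
  rw [Set.mem_singleton_iff.1 hx'] at hy'
  obtain ⟨g, rfl⟩ := isConj_iff.1 hy'
  obtain ⟨n, hn, e⟩ := hc g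
  obtain ⟨h1, h1'⟩ := hZn n hn w hw hwc
  have : n⁻¹ * w * n * x * (n⁻¹ * w * n)⁻¹ * x⁻¹ ∈ B :=
    ⟨_, hZ _ h1 h1', by
      calc _ = n⁻¹ * (w * w) * n := by group
        _ = 1 := by rw [hw2]; group, fun y hy => h1' y (hY hy), rfl⟩
  rw [hB, mem_bot, mul_inv_eq_one, mul_inv_eq_iff_eq_mul] at this
  rw [e]
  calc _ = n * (x * (n⁻¹ * w * n)) * n⁻¹ := by group
    _ = _ := by rw [← this]; group

/-- The perfect case. -/
theorem perfect_case {L : Type u} [Group L] [Finite L] (hp : commutator L = ⊤) {S S₀ : Subgroup L}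
    (hS : IsSyl 2 S ⊤) (hS₀ : IsSyl 2 S₀ ⊤) (hne : S₀ ≠ S) (hsq : ∀ s ∈ S, s * s ∈ S₀)
    (hco : ∀ y t : L, Odd (orderOf y) → t * y * t⁻¹ = y⁻¹ →
      (centralizer {y}).index.Coprime (normalizer (S : Set L)).index) : False := by
  obtain ⟨Y, hY, u, hu, h2, x, hxY, hx1, hx, hux⟩ := exists_data hS hS₀ hne hsq (by
    intro y t hy ht hn
    obtain ⟨t', ⟨j, hj⟩, ht'⟩ := (Cfsg.Agent.S3863.result y (isConj_iff.2 ⟨t, ht⟩)).1
    obtain ⟨g, -, hg⟩ := hS.exists_le_cj (isPGroup_zpowers (x := t') (k := j)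
      (hj ▸ pow_orderOf_eq_one t')) le_top
    obtain ⟨c, hc, n, hn', rfl⟩ := H4.exists_mul_of_coprime_index (hco y t hy ht) g
    rw [← cj_cj, cj_eq_self hn'] at hg
    have hyn : y ∈ normalizer (cj c S : Set L) := by
      rw [← H98.cj_eq_self_iff, cj_cj, ← mem_centralizer_singleton_iff.1 hc, ← cj_cj,
        cj_eq_self hn]
    have h1 := hg (mem_zpowers t')
    refine eq_one_of_odd_sq (isPGroup_cj c hS.isPGroup) hy ?_
    have e : y * y = y * t'⁻¹ * y⁻¹ * t' := by rw [← ht']; group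
    exact e ▸ mul_mem (conj_mem_of_mem_normalizer hyn (inv_mem h1)) h1)
  refine hx1 (lemG L hp S Y u x hS hY hu h2 hxY hx hux fun g => ?_)
  obtain ⟨n, hn, c, hc, rfl⟩ := H4.exists_mul_of_coprime_index (hco x u hx hux).symm g
  refine ⟨n, hn, ?_⟩
  calc _ = n * (c * x) * c⁻¹ * n⁻¹ := by group
    _ = _ := by rw [mem_centralizer_singleton_iff.1 hc]; group

end H24.RC
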