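/- Groups whose prime graph on real class sizes is disconnected (rows S4187, S4192). -/
import Cfsg.Agent.H24.RealCl
import Cfsg.Agent.H24.ClassCount
import Cfsg.Agent.H2.PrimeCore
import Cfsg.Agent.H2.MinNormal
import Cfsg.Agent.H4.HallBasic
import Cfsg.Agent.H25.RealCl
import Cfsg.Agent.S3861

set_option autoImplicit false

namespace H24.RC

open Subgroup H98 Cfsg

universe u

variable {G : Type u} [Group G] [Finite G]

/-- The class size. -/
noncomputable abbrev cl (g : G) : ℕ := (centralizer ({g} : Set G)).index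

omit [Finite G] in
theorem cl_conj (g x : G) : cl (g * x * g⁻¹) = cl x := by
  rw [cl, cl, ← H24.card_isConj_eq_index, ← H24.card_isConj_eq_index]
  have h : IsConj x (g * x * g⁻¹) := isConj_iff.2 ⟨g, rfl⟩
  exact Nat.card_congr (Equiv.subtypeEquivRight fun y => ⟨h.trans, h.symm.trans⟩)

omit [Finite G] in
theorem real_of_sq {x : G} (h : x * x = 1) : IsConj x x⁻¹ := by
  rw [inv_eq_of_mul_eq_one_right h]

omit [Finite G] in
theorem comm_of_sq {a b : G} (ha : a * a = 1) (hb : b * b = 1) (h : a * b * (a * b) = 1) :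
    a * b = b * a := by
  have h1 := inv_eq_of_mul_eq_one_right h
  rw [mul_inv_rev, inv_eq_of_mul_eq_one_right ha, inv_eq_of_mul_eq_one_right hb] at h1
  exact h1.symm

theorem sq_of_odd {x : G} (h : IsConj x x⁻¹) (ho : Odd (cl x)) : x * x = 1 := by
  rw [← sq]; exact (Cfsg.Agent.S3863.result x h).2.1 ho

/-- An involution does not translate a class of odd size into itself. -/
theorem eq_one_of_transl {t w : G} (ht : t * t = 1) (ho : Odd (cl w))
    (h : ∀ g : G, ∃ k : G, t * (g * w * g⁻¹) = k * w * k⁻¹) : t = 1 := by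
  classical
  let f : {y // IsConj w y} → {y // IsConj w y} := fun y => ⟨t * y.1, by
    obtain ⟨g, hg⟩ := isConj_iff.1 y.2
    obtain ⟨k, hk⟩ := h g
    exact isConj_iff.2 ⟨k, by rw [← hk, hg]⟩⟩
  have hf : Function.Involutive f := fun y => Subtype.ext (by
    change t * (t * y.1) = y.1
    rw [← mul_assoc, ht, one_mul])
  letI := Fintype.ofFinite {y // IsConj w y}
  obtain ⟨y, hy⟩ := Equiv.Perm.exists_fixed_point_of_prime (p := 2) (n := 1) (σ := hf.toPerm)
    (by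
      rw [← Nat.card_eq_fintype_card, H24.card_isConj_eq_index, ← even_iff_two_dvd]
      exact Nat.not_even_iff_odd.2 ho)
    (Equiv.ext fun y => hf y)
  exact mul_eq_right.1 (congrArg Subtype.val hy)

theorem transl {v a : G} (h : (cl v).Coprime (cl a)) (g k : G) :
    ∃ c : G, g * v * g⁻¹ * (k * a * k⁻¹) = c * (v * a) * c⁻¹ := by
  obtain ⟨c, hc, d, hd, e⟩ := H4.exists_mul_of_coprime_index h (g⁻¹ * k)
  have hk : k = g * c * d := by rw [mul_assoc, ← e, mul_inv_cancel_left]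
  refine ⟨g * c, ?_⟩
  calc _ = g * (v * c) * c⁻¹ * g⁻¹ * (g * c * (d * a) * d⁻¹ * c⁻¹ * g⁻¹) := by rw [hk]; group
    _ = _ := by
      rw [← mem_centralizer_singleton_iff.1 hc, mem_centralizer_singleton_iff.1 hd]; group

theorem cl_eq_one_of_all_odd (h : ∀ x : G, IsConj x x⁻¹ → Odd (cl x)) {z w : G}
    (hz : IsConj z z⁻¹) (hw : IsConj w w⁻¹) (h1 : (cl z).Coprime (cl w))
    (h2 : (cl z).Coprime (cl (z * w))) : cl z = 1 := by
  have hz2 := sq_of_odd hz (h z hz)
  rw [index_eq_one, eq_top_iff]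
  intro g _
  have hg2 : g * z * g⁻¹ * (g * z * g⁻¹) = 1 := by rw [conj_mul, hz2]; group
  have hr : IsConj (g * z * g⁻¹ * z) (g * z * g⁻¹ * z)⁻¹ :=
    isConj_iff.2 ⟨_, H83.left_inverts_mul hg2 hz2⟩
  have := eq_one_of_transl (sq_of_odd hr (h _ hr)) (h w hw) fun k => by
    obtain ⟨c, hc⟩ := transl h1 1 k
    obtain ⟨d, hd⟩ := transl h2 g c
    refine ⟨d, ?_⟩
    rw [one_mul, inv_one, mul_one] at hc
    rw [mul_assoc _ z, hc, hd, ← mul_assoc z, hz2, one_mul]
  rw [mul_eq_one_iff_eq_inv, inv_eq_of_mul_eq_one_right hz2, mul_inv_eq_iff_eq_mul] at this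
  exact mem_centralizer_singleton_iff.2 this

theorem solvable_of_normal_syl {S : Subgroup G} (hS : IsSyl 2 S ⊤) [S.Normal] :
    Group.IsSolvable G := by
  haveI := Cfsg.Agent.S0205.result (G := G ⧸ S) (by
    rw [← Nat.not_even_iff_odd, even_iff_two_dvd]
    exact fun h => hS.not_dvd_relIndex (by rwa [relIndex_top_right]))
  haveI := hS.isPGroup.isNilpotent
  exact Group.isSolvable_of_ker_le_range S.subtype (QuotientGroup.mk' S) (by simp)

theorem le_pPrimeCore [Group.IsSolvable G] {S : Subgroup G} (hS : IsPGroup 2 S) {q : ℕ}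
    (hq : q.Prime) (hq2 : q ≠ 2) (h : ¬ q ∣ (normalizer (S : Set G)).index) :
    S ≤ pPrimeCore q G := by
  haveI := Fact.mk hq
  obtain ⟨P, hP⟩ := H18.exists_sylow_le_of_not_dvd h
  let f := QuotientGroup.mk' (pPrimeCore q G)
  have hf : Function.Surjective f := QuotientGroup.mk'_surjective _
  have hP' : IsSyl q ((P : Subgroup G).map f) ⊤ :=
    map_top_of_surjective f hf ▸ (isSyl_sylow P).map f
  have hO := H2.pCore_isPGroup q (G ⧸ pPrimeCore q G)
  have hOP := hP'.le_of_le_normalizer hO le_top (by rw [normalizer_eq_top]; exact le_top)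
  have hd : Disjoint (S.map f) (pCore q (G ⧸ pPrimeCore q G)) :=
    IsPGroup.disjoint_of_ne 2 q hq2.symm _ _ (hS.map f) hO
  intro s hs
  rw [← QuotientGroup.eq_one_iff]
  have hs' := mem_map_of_mem f hs
  refine disjoint_def.1 hd hs' (H2.centralizer_pCore_le (H2.pPrimeCore_quotient_pPrimeCore q G)
    fun o ho => ?_)
  rw [← mul_inv_eq_iff_eq_mul, ← mul_inv_eq_one]
  refine disjoint_def.1 hd (mul_mem (conj_mem_of_mem_normalizer
    (map_le_normalizer_map f hP (hOP ho)) hs') (inv_mem hs')) ?_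
  rw [mul_assoc, mul_assoc, ← mul_assoc _ o⁻¹]
  exact mul_mem ho (Normal.conj_mem inferInstance _ (inv_mem ho) _)

theorem exists_perfect : ∃ L : Subgroup G, L.Normal ∧ ⁅L, L⁆ = L ∧
    (L = ⊥ → Group.IsSolvable G) := by
  obtain ⟨_, ⟨n, rfl⟩, h⟩ := (wellFounded_lt (α := Subgroup G)).has_min
    (Set.range (derivedSeries G)) ⟨_, 0, rfl⟩
  refine ⟨_, derivedSeries_normal G n, ?_, fun e => ⟨n, e⟩⟩
  haveI := derivedSeries_normal G n
  by_contra hn
  exact h _ ⟨n + 1, rfl⟩ (lt_of_le_of_ne (commutator_le_left _ _) hn)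

/-- The real elements whose class size meets the component without the prime two. -/
structure Hyp (Z : G → Prop) : Prop where
  real : ∀ z, Z z → IsConj z z⁻¹
  odd : ∀ z, Z z → Odd (cl z)
  cop : ∀ z, Z z → ∀ g, IsConj g g⁻¹ → ¬ Z g → (cl z).Coprime (cl g)
  dvd : ∀ z, Z z → ∀ g, IsConj g g⁻¹ → cl z ∣ cl g → Z g

namespace Hyp

variable {Z : G → Prop} (h : Hyp Z)
include h

theorem sq {z : G} (hz : Z z) : z * z = 1 := sq_of_odd (h.real z hz) (h.odd z hz)

theorem conj {z : G} (hz : Z z) (g : G) : Z (g * z * g⁻¹) :=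
  h.dvd z hz _ (real_of_sq (by rw [conj_mul, h.sq hz]; group)) (cl_conj g z).symm.dvd

theorem cop_odd {z y t : G} (hz : Z z) (hy : Odd (orderOf y)) (ht : t * y * t⁻¹ = y⁻¹) :
    (cl z).Coprime (cl y) := by
  by_cases hy' : Z y
  · have := eq_one_of_odd hy (k := 1) (by rw [pow_one, _root_.sq, h.sq hy'])
    have e : centralizer ({y} : Set G) = ⊤ := by
      rw [this, eq_top_iff]; intro g _; simp [mem_centralizer_singleton_iff]
    rw [cl, cl, e, index_top]
    exact Nat.coprime_one_right _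
  · exact h.cop z hz y (isConj_iff.2 ⟨t, ht⟩) hy'

theorem f1 {w y t : G} (hw : Z w) (hy : y * w = w * y) (ht : t * w = w * t)
    (ho : Odd (orderOf y)) (e : t * y * t⁻¹ = y⁻¹) : y = 1 := by
  have hw2 := h.sq hw
  have hc : Commute w y := hy.symm
  have h1 : Z (w * y) := by
    refine h.dvd w hw _ (isConj_iff.2 ⟨t, ?_⟩) (index_dvd_of_le fun g hg => ?_)
    · calc _ = (t * w) * t⁻¹ * (t * y * t⁻¹) := by group
        _ = _ := by
          rw [ht, e, ← hy, mul_inv_rev, inv_eq_of_mul_eq_one_right hw2]; group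
    · obtain ⟨k, hk⟩ := ho
      have e1 : (w * y) ^ orderOf y = w := by
        rw [hc.mul_pow, pow_orderOf_eq_one, mul_one, hk, pow_succ, pow_mul, _root_.sq, hw2,
          one_pow, one_mul]
      rw [mem_centralizer_singleton_iff] at hg ⊢
      rw [← e1]
      exact (show Commute g (w * y) from hg).pow_right _
  have := h.sq h1
  rw [← _root_.sq, hc.mul_pow, _root_.sq, hw2, one_mul] at this
  exact eq_one_of_odd ho (k := 1) this

theorem syl {w : G} (hw : Z w) : ∃ S : Subgroup G, IsSyl 2 S ⊤ ∧ S ≤ centralizer {w} ∧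
    centralizer {w} ≤ normalizer (S : Set G) := by
  obtain ⟨Q, hQ⟩ := H18.exists_sylow_le_of_not_dvd (p := 2) (H := centralizer {w}) (by
    rw [← even_iff_two_dvd, Nat.not_even_iff_odd]; exact h.odd w hw)
  refine ⟨Q, isSyl_sylow Q, hQ, ?_⟩
  obtain ⟨P, hP⟩ := (isSyl_sylow_of_le Q hQ).exists_sylow
  rw [← normal_subgroupOf_iff_le_normalizer hQ, ← hP, ← Cfsg.Agent.S3861.result P]
  intro y hy ho hc
  obtain ⟨t, ht⟩ := isConj_iff.1 hc
  exact hy (Subtype.ext (h.f1 hw (mem_centralizer_singleton_iff.1 y.2)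
    (mem_centralizer_singleton_iff.1 t.2) (by rwa [orderOf_coe]) (congrArg Subtype.val ht)))

theorem case_one {z : G} (hz : Z z) (hO : z ∉ pCore 2 G) : Group.IsSolvable G := by
  have hz2 := h.sq hz
  let R : Subgroup G :=
    { carrier := {r | ∀ g : G, ∃ k : G, r * (g * z * g⁻¹) = k * z * k⁻¹}
      one_mem' := fun g => ⟨g, one_mul _⟩
      mul_mem' := fun {a b} ha hb g => by
        obtain ⟨k, hk⟩ := hb g
        obtain ⟨l, hl⟩ := ha k
        exact ⟨l, by rw [mul_assoc, hk, hl]⟩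
      inv_mem' := fun {a} ha g => by
        obtain ⟨n, hn⟩ := mem_powers_iff_mem_zpowers.2 (inv_mem (mem_zpowers a))
        rw [← hn]
        clear hn
        induction n with
        | zero => exact ⟨g, by simp⟩
        | succ n ih =>
          obtain ⟨k, hk⟩ := ih
          obtain ⟨l, hl⟩ := ha k
          exact ⟨l, by simp only at hk ⊢; rw [pow_succ', mul_assoc, hk, hl]⟩ }
  haveI : R.Normal := ⟨fun r hr a g => by
    obtain ⟨k, hk⟩ := hr (a⁻¹ * g)
    refine ⟨a * k, ?_⟩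
    calc _ = a * (r * (a⁻¹ * g * z * (a⁻¹ * g)⁻¹)) * a⁻¹ := by group
      _ = _ := by rw [hk]; group⟩
  have hodd : ∀ r ∈ R, Odd (orderOf r) := fun r hr => by
    by_contra ho
    have h2 := H83.orderOf_pow_half (orderOf_pos r).ne' (Nat.not_odd_iff_even.1 ho)
    exact H83.ne_one_of_orderOf_two h2 (eq_one_of_transl (H83.mul_self_of_orderOf_two h2)
      (h.odd z hz) (pow_mem hr _ : _ ∈ R))
  have hinv : ∀ r ∈ R, ∀ g : G, g * z * g⁻¹ * r * (g * z * g⁻¹)⁻¹ = r⁻¹ := fun r hr g => by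
    obtain ⟨k, hk⟩ := hr g
    have h1 := h.sq (h.conj hz k)
    rw [← hk] at h1
    rw [inv_eq_of_mul_eq_one_right (h.sq (h.conj hz g)), eq_inv_iff_mul_eq_one,
      mul_eq_one_comm, ← h1]
    group
  have hinv1 : ∀ r ∈ R, z * r * z⁻¹ = r⁻¹ := fun r hr => by simpa using hinv r hr 1
  have hmem : ∀ w : G, (cl w).Coprime (cl z) → IsConj z (w * z) → w ∈ R := fun w hw hc g => by
    obtain ⟨c, hc'⟩ := transl hw 1 g
    obtain ⟨k, hk⟩ := isConj_iff.1 hc
    rw [one_mul, inv_one, mul_one, ← hk] at hc'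
    exact ⟨c * k, by rw [hc']; group⟩
  have hhalf : ∀ r : G, Odd (orderOf r) → z * r * z⁻¹ = r⁻¹ →
      ∃ k ∈ zpowers r, k * z * k⁻¹ = r * z := by
    intro r ⟨m, hm⟩ hr
    refine ⟨r ^ (m + 1), pow_mem (mem_zpowers r) _, ?_⟩
    have e1 : z * (r ^ (m + 1))⁻¹ * z⁻¹ = r ^ (m + 1) := by
      rw [← conj_inv, ← conj_pow, hr, inv_pow, inv_inv]
    calc _ = r ^ (m + 1) * (z * (r ^ (m + 1))⁻¹ * z⁻¹) * z := by group
      _ = r ^ (2 * m + 1) * r * z := by rw [e1]; group
      _ = _ := by rw [← hm, pow_orderOf_eq_one, one_mul]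
  obtain ⟨y, -, -, hy, hy2, e⟩ := H83.exists_inverted_odd_prime hz2
    fun hn => hO (H2.le_pCore hn (subset_normalClosure (Set.mem_singleton z)))
  have hyo := hy.odd_of_ne_two hy2
  have hyR : y ∈ R := by
    obtain ⟨k, -, hk⟩ := hhalf y hyo e
    exact hmem y (h.cop_odd hz hyo e).symm (isConj_iff.2 ⟨k, hk⟩)
  have hΩ : ∀ g : G, g * z * g⁻¹ * z ∈ R := fun g => by
    have hg2 := h.sq (h.conj hz g)
    by_cases hw : Z (g * z * g⁻¹ * z)
    · exfalso
      have hc := comm_of_sq hg2 hz2 (h.sq hw)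
      have h1 := h.f1 hw (y := y) (t := z) (by
        rw [eq_comm, ← mul_inv_eq_iff_eq_mul]
        calc _ = g * z * g⁻¹ * (z * y * z⁻¹) * (g * z * g⁻¹)⁻¹ := by group
          _ = y := by rw [e, ← conj_inv, hinv y hyR g, inv_inv])
        (by rw [← mul_assoc, ← hc]) hyo e
      rw [h1, orderOf_one] at hy
      exact Nat.not_prime_one hy
    · exact hmem _ (h.cop z hz _ (isConj_iff.2 ⟨_, H83.left_inverts_mul hg2 hz2⟩) hw).symm
        (isConj_iff.2 ⟨g, by rw [mul_assoc _ z z, hz2, mul_one]⟩)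
  obtain ⟨S, hS, hSC, hCS⟩ := h.syl hz
  haveI := (normal_subgroupOf_iff_le_normalizer hSC).2 hCS
  haveI := solvable_of_normal_syl (hS.of_le hSC le_top).subgroupOf_top
  haveI : Group.IsSolvable (G ⧸ R) := Group.isSolvable_of_surjective
    (f := (QuotientGroup.mk' R).comp (centralizer {z}).subtype) (by
      intro g
      obtain ⟨g, rfl⟩ := QuotientGroup.mk'_surjective R g
      obtain ⟨k, hk, ek⟩ := hhalf _ (hodd _ (hΩ g)) (hinv1 _ (hΩ g))
      rw [mul_assoc _ z z, hz2, mul_one] at ek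
      refine ⟨⟨k⁻¹ * g, mem_centralizer_singleton_iff.2 ?_⟩, ?_⟩
      · calc _ = k⁻¹ * (g * z * g⁻¹) * g := by group
          _ = _ := by rw [← ek]; group
      · have : k ∈ R := zpowers_le.2 (hΩ g) hk
        simp [this])
  haveI : Group.IsSolvable R := Group.isSolvable_of_comm fun a b => Subtype.ext (by
    have := hinv1 _ (mul_mem a.2 b.2)
    rw [← conj_mul, hinv1 _ a.2, hinv1 _ b.2, ← mul_inv_rev, inv_inj] at this
    exact this.symm)
  exact Group.isSolvable_of_ker_le_range R.subtype (QuotientGroup.mk' R) (by simp)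

theorem case_two {z : G} (hz : Z z) (hO : ∀ z, Z z → z ∈ pCore 2 G) : Group.IsSolvable G := by
  have hcomm : ∀ a b, Z a → Z b → a * b = b * a := fun a b ha hb => by
    obtain ⟨S, hS, hSC, -⟩ := h.syl hb
    exact mem_centralizer_singleton_iff.1 (hSC (hS.le_of_le_normalizer (H2.pCore_isPGroup 2 G)
      le_top (by rw [normalizer_eq_top]; exact le_top) (hO a ha)))
  have hcomm' : ∀ a b, (Z a ∨ a ∈ center G) → (Z b ∨ b ∈ center G) → a * b = b * a := by
    rintro a b (ha | ha) (hb | hb)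
    · exact hcomm a b ha hb
    · exact mem_center_iff.1 hb a
    · exact (mem_center_iff.1 ha b).symm
    · exact mem_center_iff.1 hb a
  have hzc : ∀ a b, Z a → b ∈ center G → a * b * (a * b) = 1 → Z (a * b) := fun a b ha hb e =>
    h.dvd a ha _ (real_of_sq e) (index_dvd_of_le fun g hg => by
      rw [mem_centralizer_singleton_iff] at hg ⊢
      rwa [← mul_assoc, mul_assoc a, ← mem_center_iff.1 hb g, ← mul_assoc, mul_left_inj] at hg)
  let V : Subgroup G :=
    { carrier := {v | v * v = 1 ∧ (Z v ∨ v ∈ center G)}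
      one_mem' := ⟨one_mul 1, Or.inr (one_mem _)⟩
      inv_mem' := fun {a} ha => by rwa [inv_eq_of_mul_eq_one_right ha.1]
      mul_mem' := by
        rintro a b ⟨ha2, ha⟩ ⟨hb2, hb⟩
        have hab := hcomm' a b ha hb
        have e : a * b * (a * b) = 1 := by
          rw [mul_assoc, ← mul_assoc b, ← hab, mul_assoc, hb2, mul_one, ha2]
        refine ⟨e, ?_⟩
        rcases ha with ha | ha <;> rcases hb with hb | hb
        · by_cases hv : Z (a * b)
          · exact Or.inl hv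
          right
          rw [mem_center_iff]
          intro g
          have c1 := (h.cop a ha _ (real_of_sq e) hv).symm
          have c2 := (h.cop b hb _ (real_of_sq e) hv).symm
          have hc : Commute (g * (a * b) * g⁻¹) (a * b) := by
            rw [← conj_mul]
            exact Commute.mul_left (Commute.mul_right (hcomm _ _ (h.conj ha g) ha)
              (hcomm _ _ (h.conj ha g) hb)) (Commute.mul_right (hcomm _ _ (h.conj hb g) ha)
              (hcomm _ _ (h.conj hb g) hb))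
          have := eq_one_of_transl (t := g * (a * b) * g⁻¹ * (a * b)) (by
            rw [← _root_.sq, hc.mul_pow, conj_pow, _root_.sq, e]; group) (h.odd a ha) fun k => by
              obtain ⟨c, hc⟩ := transl c1 1 k
              obtain ⟨d, hd⟩ := transl c2 g c
              refine ⟨d, ?_⟩
              rw [one_mul, inv_one, mul_one] at hc
              have e1 : a * b * a = b := by rw [hab, mul_assoc, ha2, mul_one]
              rw [mul_assoc _ (a * b), hc, e1, hd, mul_assoc a, hb2, mul_one]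
          rwa [mul_eq_one_iff_eq_inv, inv_eq_of_mul_eq_one_right e, mul_inv_eq_iff_eq_mul] at this
        · exact Or.inl (hzc a b ha hb e)
        · exact Or.inl (hab ▸ hzc b a hb ha (hab ▸ e))
        · exact Or.inr (mul_mem ha hb) }
  haveI : V.Normal := ⟨fun v hv g => ⟨by rw [conj_mul, hv.1]; group,
    hv.2.imp (fun h' => h.conj h' g) fun h' => Normal.conj_mem inferInstance _ h' g⟩⟩
  have hV2 : IsPGroup 2 V := isPGroup_iff_forall.2 fun v hv => ⟨1, by rw [pow_one, _root_.sq, hv.1]⟩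
  obtain ⟨L, hL, hLL, hfin⟩ := exists_perfect (G := G)
  have hp : commutator L = ⊤ := by
    apply map_injective L.subtype_injective
    rw [map_subtype_commutator, hLL, ← MonoidHom.range_eq_map, range_subtype]
  have sylL : ∀ S : Subgroup G, IsSyl 2 S ⊤ → IsSyl 2 (S ⊓ L) L := fun S hS =>
    hS.inf_of_le_normalizer le_top (by rw [normalizer_eq_top]; exact le_top)
  obtain ⟨S, hS, hSC, hCS⟩ := h.syl hz
  have hT := sylL S hS
  by_cases hc : V ≤ V ⊓ centralizer (S ⊓ L : Subgroup G)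
  · haveI : ((S ⊓ L).subgroupOf L).Normal := by
      rw [normal_subgroupOf_iff_le_normalizer inf_le_right]
      intro g hg
      refine mem_normalizer_of_cj_le (le_inf (hS.le_of_le_normalizer'
        (isPGroup_cj g hT.isPGroup) le_top (le_trans ?_ hCS)) (cj_le_of_le_of_mem inf_le_right hg))
      rintro _ ⟨s, hs, rfl⟩
      have := (hc (Normal.conj_mem' inferInstance z (⟨h.sq hz, Or.inl hz⟩ : z ∈ V) g)).2 s hs
      rw [mem_centralizer_singleton_iff]
      calc g * s * g⁻¹ * z = g * (s * (g⁻¹ * z * g)) * g⁻¹ := by group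
        _ = z * (g * s * g⁻¹) := by rw [this]; group
    haveI := solvable_of_normal_syl hT.subgroupOf_top
    refine hfin ?_
    by_contra hn
    haveI := (nontrivial_iff_ne_bot L).2 hn
    exact (Group.IsSolvable.commutator_lt_top_of_nontrivial L).ne hp
  exfalso
  have hnV : ∀ H : Subgroup G, H ≤ normalizer (V : Set G) := fun H => by
    rw [normalizer_eq_top]; exact le_top
  obtain ⟨c, hcV, hcQ, -, hcc⟩ := H31.exists_central_mod (R := (S ⊓ L) ⊔ V)
    (IsPGroup.to_sup_of_normal_right hT.isPGroup hV2) le_sup_right (hnV _)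
    (sup_le (le_normalizer_inf (hnV _) (le_normalizer_centralizer le_normalizer))
      (le_normalizer_of_le_centralizer fun a ha b hb => hcomm' b a hb.1.2 ha.2)) hc
  have hcZ : Z c := hcV.2.resolve_right fun h' => hcQ ⟨hcV, fun s _ => mem_center_iff.1 h' s⟩
  obtain ⟨S₀, hS₀, hSC₀, hCS₀⟩ := h.syl hcZ
  refine perfect_case hp hT.subgroupOf_top (sylL S₀ hS₀).subgroupOf_top (fun e => hcQ ⟨hcV, ?_⟩)
    (fun s hs => ⟨?_, (s * s).2⟩) fun y t hy ht => ?_
  · intro s hs
    have : (⟨s, hs.2⟩ : L) ∈ (S₀ ⊓ L).subgroupOf L := e.ge hs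
    exact mem_centralizer_singleton_iff.1 (hSC₀ this.1)
  · obtain ⟨hd, hd'⟩ := hcc s (mem_sup_left hs)
    have h1 := hd' s hs
    obtain ⟨k, hk⟩ := H18.exists_pow_eq_one_of_mem hT.isPGroup (mul_mem hs hs)
    refine hS₀.le_of_le_normalizer' (isPGroup_zpowers hk) le_top (zpowers_le.2 (hCS₀ ?_))
      (mem_zpowers _)
    rw [mem_centralizer_singleton_iff, ← mul_inv_eq_iff_eq_mul]
    set d := c⁻¹ * (s * c * (s : G)⁻¹) with hdef
    have e1 : s * c * (s : G)⁻¹ = c * d := by rw [hdef]; group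
    change (s : G) * s * c * ((s : G) * s)⁻¹ = c
    calc _ = s * (s * c * (s : G)⁻¹) * (s : G)⁻¹ := by group
      _ = s * c * (s : G)⁻¹ * (s * d) * (s : G)⁻¹ := by rw [e1]; nth_rw 2 [← e1]; group
      _ = c * d * (s * d) * (s : G)⁻¹ := by rw [e1]
      _ = c * (d * d) := by rw [h1]; group
      _ = c := by rw [hd.1, mul_one]
  · refine Nat.Coprime.coprime_dvd_left (H18.index_centralizer_normal_dvd L y)
      (Nat.Coprime.coprime_dvd_right (dvd_trans (index_dvd_of_le ?_)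
        (H4.relIndex_dvd_index_of_normal_right (centralizer {z}) L))
        (h.cop_odd hz (by rwa [orderOf_coe]) (congrArg Subtype.val ht)).symm)
    intro g hg
    refine mem_normalizer_of_cj_le ?_
    rintro _ ⟨s, hs, rfl⟩
    exact ⟨conj_mem_of_mem_normalizer (hCS hg) hs.1, (g * s * g⁻¹).2⟩

theorem solvable {z : G} (hz : Z z) : Group.IsSolvable G := by
  by_cases hO : ∀ z, Z z → z ∈ pCore 2 G
  · exact h.case_two hz hO
  · push Not at hO
    obtain ⟨z, hz, hO⟩ := hO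
    exact h.case_one hz hO

theorem two_pow {z : G} (hz : Z z) (N : Subgroup G) [N.Normal]
    (hN : ∀ K : Subgroup G, (∀ g : G, (∃ k, g ^ 2 ^ k = 1) → g ∈ K) → N ≤ K) (x : N)
    (hx : IsConj x x⁻¹) : Odd (cl x) ∨ ∃ j : ℕ, cl x = 2 ^ j := by
  have hx' : IsConj (x : G) (x : G)⁻¹ := N.subtype.map_isConj hx
  have hd := H18.index_centralizer_normal_dvd N x
  by_cases hZ : Z x
  · exact Or.inl ((h.odd _ hZ).of_dvd_nat hd)
  right
  haveI := h.solvable hz
  refine ⟨_, Nat.eq_prime_pow_of_unique_prime_dvd index_ne_zero_of_finite fun {q} hq hqd => ?_⟩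
  by_contra hq2
  haveI := Fact.mk hq
  obtain ⟨S, hS, -, hCS⟩ := h.syl hz
  have h1 : S ≤ pPrimeCore q G := le_pPrimeCore hS.isPGroup hq hq2 fun h' =>
    hq.one_lt.ne' (Nat.eq_one_of_dvd_coprimes (h.cop z hz x hx' hZ)
      (h'.trans (index_dvd_of_le hCS)) (hqd.trans hd))
  have h2 : N ≤ pPrimeCore q G := hN _ fun g ⟨k, hk⟩ => by
    obtain ⟨a, -, ha⟩ := hS.exists_cj_le (isPGroup_zpowers hk) le_top
    simpa [mul_assoc] using Normal.conj_mem' inferInstance _
      (h1 (ha (conj_mem_cj (mem_zpowers g)))) a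
  exact H2.not_dvd_card_pPrimeCore q G
    (hqd.trans ((index_dvd_card _).trans (card_dvd_of_le h2)))

end Hyp

omit [Finite G] in
theorem hyp_of {π₁ π₂ : Set ℕ}
    (hcover : ∀ q : ℕ, q.Prime → (∃ x : G, IsConj x x⁻¹ ∧ q ∣ cl x) → q ∈ π₁ ∨ q ∈ π₂)
    (hno : ∀ a ∈ π₁, ∀ b ∈ π₂, ∀ x : G, IsConj x x⁻¹ → a ∣ cl x → ¬ b ∣ cl x)
    (h2 : ∀ x : G, IsConj x x⁻¹ → (∃ b ∈ π₂, b ∣ cl x) → Odd (cl x)) :
    Hyp fun z : G => IsConj z z⁻¹ ∧ ∃ b ∈ π₂, b ∣ cl z where
  real := fun _ hz => hz.1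
  odd := fun z hz => h2 z hz.1 hz.2
  cop := fun z ⟨hz, b, hb, hbz⟩ g hg hn => Nat.coprime_of_dvd fun q hq h1 h2 => by
    rcases hcover q hq ⟨z, hz, h1⟩ with h | h
    · exact hno q h b hb z hz h1 hbz
    · exact hn ⟨hg, q, h, h2⟩
  dvd := fun z ⟨_, b, hb, hbz⟩ g hg hd => ⟨hg, b, hb, hbz.trans hd⟩

/-- From a disconnected graph to the predicate. -/
theorem exists_hyp {π₁ π₂ : Set ℕ} (h₁ : π₁.Nonempty) (h₂ : π₂.Nonempty)
    (hcover : ∀ q : ℕ, q.Prime → (∃ x : G, IsConj x x⁻¹ ∧ q ∣ cl x) → q ∈ π₁ ∨ q ∈ π₂)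
    (hsub : ∀ q ∈ π₁ ∪ π₂, q.Prime ∧ ∃ x : G, IsConj x x⁻¹ ∧ q ∣ cl x)
    (hno : ∀ a ∈ π₁, ∀ b ∈ π₂, ∀ x : G, IsConj x x⁻¹ → a ∣ cl x → ¬ b ∣ cl x) :
    (∃ x : G, IsConj x x⁻¹ ∧ 2 ∣ cl x) ∧ ∃ Z : G → Prop, Hyp Z ∧ ∃ z, Z z ∧ cl z ≠ 1 := by
  have hcover' : ∀ q : ℕ, q.Prime → (∃ x : G, IsConj x x⁻¹ ∧ q ∣ cl x) → q ∈ π₂ ∨ q ∈ π₁ :=
    fun q hq h => (hcover q hq h).symm
  have hno' : ∀ a ∈ π₂, ∀ b ∈ π₁, ∀ x : G, IsConj x x⁻¹ → a ∣ cl x → ¬ b ∣ cl x :=
    fun a ha b hb x hx h1 h2 => hno b hb a ha x hx h2 h1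
  obtain ⟨a, ha⟩ := h₁
  obtain ⟨b, hb⟩ := h₂
  obtain ⟨hap, w, hw, haw⟩ := hsub a (Or.inl ha)
  obtain ⟨hbp, z, hz, hbz⟩ := hsub b (Or.inr hb)
  have hw1 : cl w ≠ 1 := fun e => hap.one_lt.ne' (Nat.dvd_one.1 (e ▸ haw))
  have hz1 : cl z ≠ 1 := fun e => hbp.one_lt.ne' (Nat.dvd_one.1 (e ▸ hbz))
  have h2 : ∃ x : G, IsConj x x⁻¹ ∧ 2 ∣ cl x := by
    by_contra! hn
    have ho : ∀ x : G, IsConj x x⁻¹ → Odd (cl x) := fun x hx => by
      rw [← Nat.not_even_iff_odd, even_iff_two_dvd]; exact hn x hx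
    have H2 := hyp_of hcover hno fun x hx _ => ho x hx
    have H1 := hyp_of hcover' hno' fun x hx _ => ho x hx
    have hz2 := sq_of_odd hz (ho z hz)
    have hw2 := sq_of_odd hw (ho w hw)
    have hr : IsConj (z * w) (z * w)⁻¹ := isConj_iff.2 ⟨_, H83.left_inverts_mul hz2 hw2⟩
    have hc := comm_of_sq hz2 hw2 (sq_of_odd hr (ho _ hr))
    have hzw := H2.cop z ⟨hz, b, hb, hbz⟩ w hw fun ⟨_, c, hc, hcw⟩ => hno a ha c hc w hw haw hcw
    by_cases hv : IsConj (z * w) (z * w)⁻¹ ∧ ∃ b ∈ π₂, b ∣ cl (z * w)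
    · obtain ⟨-, c, hc', hcv⟩ := hv
      exact hw1 (cl_eq_one_of_all_odd ho hw hz hzw.symm (hc ▸ H1.cop w ⟨hw, a, ha, haw⟩ _ hr
        fun ⟨_, d, hd, hdv⟩ => hno d hd c hc' _ hr hdv hcv))
    · exact hz1 (cl_eq_one_of_all_odd ho hz hw hzw (H2.cop z ⟨hz, b, hb, hbz⟩ _ hr hv))
  refine ⟨h2, ?_⟩
  rcases hcover 2 Nat.prime_two h2 with h | h
  · exact ⟨_, hyp_of hcover hno fun x hx ⟨c, hc, hcx⟩ => by
      rw [← Nat.not_even_iff_odd, even_iff_two_dvd]
      exact fun h' => hno 2 h c hc x hx h' hcx, z, ⟨hz, b, hb, hbz⟩, hz1⟩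
  · exact ⟨_, hyp_of hcover' hno' fun x hx ⟨c, hc, hcx⟩ => by
      rw [← Nat.not_even_iff_odd, even_iff_two_dvd]
      exact fun h' => hno' 2 h c hc x hx h' hcx, w, ⟨hw, a, ha, haw⟩, hw1⟩

end H24.RC
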