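/- Tower A8S (S3152), slot NX: case A (a). -/
import Cfsg.Agent.H63.A8Def

set_option autoImplicit false

namespace H24.A8NX

open H64.SG (Cz Cs Ns Is2 Inv2)
open H63.A8 Subgroup

universe u

variable {G : Type u} [Group G]

theorem zp2 {c : G} (h : Is2 c) : IsPGroup 2 (zpowers c) := by
  obtain ⟨k, hk⟩ := h
  rintro ⟨_, i, rfl⟩
  exact ⟨k, Subtype.ext (by
    change (c ^ i) ^ 2 ^ k = 1
    rw [← zpow_natCast, ← zpow_mul, mul_comm, zpow_mul, zpow_natCast, hk, one_zpow])⟩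

theorem is2_of_four {c : G} (h : c * c * (c * c) = 1) : Is2 c :=
  ⟨2, by rw [← h, show 2 ^ 2 = 4 from rfl]; simp only [pow_succ, pow_zero, one_mul, mul_assoc]⟩

/-- Two `2`-elements with a central commutator lie in a `2`-group. -/
theorem p2 [Finite G] {c d s : G} (hc : Is2 c) (hd : Is2 d) (hs : Is2 s) (sc : s * c * s⁻¹ = c)
    (ds : d * s * d⁻¹ = s) (h : d * c * d⁻¹ = s * c) : ∃ P : Subgroup G, IsPGroup 2 P ∧ c ∈ P ∧ d ∈ P := by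
  have nrm : ∀ (K : Subgroup G) (y : G), K ≤ K.comap (MulAut.conj y).toMonoidHom →
      zpowers y ≤ normalizer (K : Set G) := fun K y hK =>
    zpowers_le.2 (mem_normalizer_fintype fun n hn => hK hn)
  have h1 : IsPGroup 2 (zpowers s ⊔ zpowers c : Subgroup G) :=
    (zp2 hs).to_sup_of_normal_right' (zp2 hc) (nrm _ _ (zpowers_le.2 (by
      change s * c * s⁻¹ ∈ zpowers c
      rw [sc]; exact mem_zpowers c)))
  have hs' : s ∈ zpowers s ⊔ zpowers c := mem_sup_left (mem_zpowers s)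
  have hc' : c ∈ zpowers s ⊔ zpowers c := mem_sup_right (mem_zpowers c)
  refine ⟨_, (zp2 hd).to_sup_of_normal_right' h1 (nrm _ _ (sup_le (zpowers_le.2 ?_) (zpowers_le.2 ?_))),
    mem_sup_right hc', mem_sup_left (mem_zpowers d)⟩
  · change d * s * d⁻¹ ∈ zpowers s ⊔ zpowers c
    rw [ds]; exact hs'
  · change d * c * d⁻¹ ∈ zpowers s ⊔ zpowers c
    rw [h]; exact mul_mem hs' hc'

theorem cz_comm {t g : G} (h : g ∈ Cz t) : t * g = g * t := (mem_centralizer_singleton_iff.1 h).symm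

theorem cs_comm {f : A8 →* G} {g : G} (h : g ∈ Cs f.range) (a : A8) : f a * g = g * f a :=
  mem_centralizer_iff.1 h _ ⟨a, rfl⟩

variable {f : A8 →* G} {t : G}

theorem one_or (k : KA f t) {w : G} (hw : w ∈ Cz t) (hc : w ∈ Cs f.range) (h2 : w * w = 1) :
    w = 1 ∨ w = t := by
  simpa using k.dec w hw h2 1 fun a => by simp [← cs_comm hc a]

/-- The inner part of a `2`-group. -/
theorem cyq' (k : KA f t) {π : Cz t →* S8} (hπ : ∀ g : Cz t, Act f g (π g)) {P : Subgroup G}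
    (hP : IsPGroup 2 P) : ∃ r ∈ Cz t, r ∈ Cs f.range ∧ Is2 r ∧
      ∀ g : Cz t, g.1 ∈ P → π g ∈ alternatingGroup (Fin 8) → ∃ (i : ℕ) (a : A8), g.1 = r ^ i * f a := by
  obtain ⟨r, h1, h2, h3, h4⟩ := k.cyq (P ⊓ ((alternatingGroup (Fin 8)).comap π).map (Cz t).subtype)
    (inf_le_right.trans (map_subtype_le _)) hP.to_inf_left
    (by rintro _ ⟨-, g, hg, rfl⟩; exact ⟨⟨π g, hg⟩, hπ g⟩)
  exact ⟨r, h1, h2, h3, fun g hg he => h4 g ⟨hg, g, he, rfl⟩⟩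

theorem claimA [Finite G] (p : PA f t) (k : KA f t) {π : Cz t →* S8} (hπ : ∀ g : Cz t, Act f g (π g))
    {c d : Cz t} (hc : π c ∈ alternatingGroup (Fin 8)) (hd : π d ∈ alternatingGroup (Fin 8))
    (c2 : Is2 c.1) (d2 : Is2 d.1) (h : d.1 * c.1 * d.1⁻¹ = t * c.1) : False := by
  obtain ⟨P, hP, hcP, hdP⟩ := p2 c2 d2 (s := t) ⟨1, by simpa [pow_two] using p.inv.1⟩
    (by rw [cz_comm c.2, mul_inv_cancel_right]) (by rw [← cz_comm d.2, mul_inv_cancel_right]) h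
  obtain ⟨r, -, hr, -, H⟩ := cyq' k hπ hP
  obtain ⟨i, a, ha⟩ := H c hcP hc
  obtain ⟨j, b, hb⟩ := H d hdP hd
  have h1 : ∀ (m : ℕ) (x : A8), Commute (f x) (r ^ m) := fun m x => Commute.pow_right (cs_comm hr x) m
  have h2 : r ^ j * f b * (r ^ i * f a) * (r ^ j * f b)⁻¹ = f (b * a * b⁻¹) * r ^ i := by
    have e1 : r ^ j * f b * (r ^ i * f a) = f (b * a) * r ^ i * r ^ j := by
      rw [map_mul, ← (h1 j b).eq, ← (h1 i a).eq, mul_assoc, ← mul_assoc (r ^ j), ← (h1 j a).eq,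
        mul_assoc, ← pow_add, add_comm, pow_add]
      simp only [mul_assoc]
    rw [e1, mul_inv_rev, ← map_inv, mul_assoc, mul_assoc, ← mul_assoc (r ^ j), ← (h1 j _).eq,
      mul_inv_cancel_right, ← (h1 i _).eq, ← mul_assoc, ← map_mul]
  rw [ha, hb, h2, ← (h1 i a).eq, ← mul_assoc, mul_left_inj] at h
  exact k.nt ⟨b * a * b⁻¹ * a⁻¹, by rw [map_mul, h, map_inv, mul_inv_cancel_right]⟩

theorem exists_sq {w : G} (n : ℕ) (h : w ^ 2 ^ n = 1) (h2 : w * w ≠ 1) :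
    ∃ m : ℕ, w ^ m * w ^ m ≠ 1 ∧ w ^ m * w ^ m * (w ^ m * w ^ m) = 1 := by
  induction n generalizing w with
  | zero => exact absurd (by simpa using h) fun h1 : w = 1 => h2 (by rw [h1, one_mul])
  | succ n ih =>
    by_cases h4 : w * w * (w * w) = 1
    · exact ⟨1, by simpa using h2, by simpa using h4⟩
    · obtain ⟨m, hm⟩ := ih (w := w * w) (by rwa [← pow_two, ← pow_mul, ← pow_succ']) h4
      exact ⟨2 * m, by simpa only [pow_mul, pow_two] using hm⟩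

theorem exists_root (k : KA f t) {π : Cz t →* S8} (hπ : ∀ g : Cz t, Act f g (π g))
    {c d : Cz t} (hc : π c ∈ alternatingGroup (Fin 8)) (c2 : Is2 c.1)
    (h : d.1 * c.1 * d.1⁻¹ = t * c.1) : ∃ w ∈ Cs f.range, w * w = t := by
  obtain ⟨r, hr1, hr, ⟨n, hn⟩, H⟩ := cyq' k hπ (zp2 c2)
  obtain ⟨i, a, ha⟩ := H c (mem_zpowers _) hc
  by_cases h2 : r ^ i * r ^ i = 1
  · have h3 : d.1 * r ^ i = r ^ i * d.1 := by
      rcases one_or k (pow_mem hr1 i) (pow_mem hr i) h2 with h3 | h3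
      · rw [h3, mul_one, one_mul]
      · rw [h3, cz_comm d.2]
    have h4 : t * r ^ i = r ^ i * t := cz_comm (pow_mem hr1 i)
    rw [ha, ← mul_assoc, h3, ← mul_assoc, h4, mul_assoc, mul_assoc, mul_assoc, mul_right_inj,
      ← mul_assoc, hπ d a] at h
    exact absurd ⟨_ * a⁻¹, by rw [map_mul, h, map_inv, mul_inv_cancel_right]⟩ k.nt
  · obtain ⟨m, h3, h4⟩ := exists_sq (w := r ^ i) n (by rw [← pow_mul, mul_comm, pow_mul, hn, one_pow]) h2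
    have h5 := pow_mem (pow_mem hr1 i) m
    have h6 := pow_mem (pow_mem hr i) m
    exact ⟨_, h6, (one_or k (mul_mem h5 h5) (mul_mem h6 h6) h4).resolve_left h3⟩

/-- `(0 1)(2 3)` -/
def x₀ : A8 := ⟨Equiv.swap 0 1 * Equiv.swap 2 3, Equiv.Perm.mem_alternatingGroup.2 (by simp)⟩
/-- `(0 1)(4 5)` -/
def a₀ : A8 := ⟨Equiv.swap 0 1 * Equiv.swap 4 5, Equiv.Perm.mem_alternatingGroup.2 (by simp)⟩
/-- `(0 2)(1 3)` -/
def b₀ : A8 := ⟨Equiv.swap 0 2 * Equiv.swap 1 3, Equiv.Perm.mem_alternatingGroup.2 (by simp)⟩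
/-- `(4 5 6)` -/
def ρ₀ : A8 := ⟨Equiv.swap 4 5 * Equiv.swap 5 6, Equiv.Perm.mem_alternatingGroup.2 (by simp)⟩
/-- `(4 5)(6 7)` -/
def v₀ : A8 := ⟨Equiv.swap 4 5 * Equiv.swap 6 7, Equiv.Perm.mem_alternatingGroup.2 (by simp)⟩

theorem ty_x : Ty 4 x₀ := ⟨by decide, by decide⟩

theorem facts : (a₀ * x₀ = x₀ * a₀ ∧ b₀ * x₀ = x₀ * b₀ ∧ ρ₀ * x₀ = x₀ * ρ₀ ∧ v₀ * x₀ = x₀ * v₀) ∧
    (a₀ * a₀ * (a₀ * a₀) = 1 ∧ b₀ * b₀ * (b₀ * b₀) = 1 ∧ a₀ * b₀ * (a₀ * b₀) * (a₀ * b₀ * (a₀ * b₀)) = 1) ∧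
    (b₀ * a₀ * b₀⁻¹ = x₀ * a₀ ∧ a₀ * b₀ * a₀⁻¹ = x₀ * b₀ ∧ a₀ * (a₀ * b₀) * a₀⁻¹ = x₀ * (a₀ * b₀)) ∧
    ρ₀ ^ 3 = 1 ∧ ρ₀ * v₀ * ρ₀⁻¹ * v₀⁻¹ * (ρ₀ * v₀ * ρ₀⁻¹ * v₀⁻¹) = 1 ∧
    ρ₀ * v₀ * ρ₀⁻¹ * v₀⁻¹ ≠ 1 ∧ ρ₀ * v₀ * ρ₀⁻¹ * v₀⁻¹ ≠ x₀ := by
  decide

theorem main [Finite G] (P : KP) (K : JKA.{u}) (p : PA f t) {g : G} (hg : g * t * g⁻¹ = f x₀) : False := by
  have k := K G f t p
  have p' := k.cj g
  rw [hg] at p'
  have k' := K G _ _ p'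
  obtain ⟨π, hπ, hπ1, -⟩ := k'.pi
  obtain ⟨⟨xa, xb, xρ, xv⟩, ⟨a4, b4, ab4⟩, ⟨e1, e2, e3⟩, ρ3, v2, v1, vx⟩ := facts
  have mem : ∀ {y : A8}, y * x₀ = x₀ * y → f y ∈ Cz (f x₀) := fun h =>
    mem_centralizer_singleton_iff.2 (by rw [← map_mul, h, map_mul])
  have par : ∀ y z : Cz (f x₀), π y ∉ alternatingGroup (Fin 8) → π z ∉ alternatingGroup (Fin 8) →
      π (y * z) ∈ alternatingGroup (Fin 8) := fun y z hy hz => by
    rw [map_mul, mul_mem_iff_of_index_two alternatingGroup.index_eq_two]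
    exact iff_of_false hy hz
  obtain ⟨c, d, hc, hd, c4, d4, e, ev⟩ : ∃ (c d : A8) (hc : c * x₀ = x₀ * c) (_ : d * x₀ = x₀ * d),
      c * c * (c * c) = 1 ∧ d * d * (d * d) = 1 ∧ d * c * d⁻¹ = x₀ * c ∧
      π ⟨f c, mem hc⟩ ∈ alternatingGroup (Fin 8) := by
    by_cases h1 : π ⟨f a₀, mem xa⟩ ∈ alternatingGroup (Fin 8)
    · exact ⟨a₀, b₀, xa, xb, a4, b4, e1, h1⟩
    by_cases h2 : π ⟨f b₀, mem xb⟩ ∈ alternatingGroup (Fin 8)
    · exact ⟨b₀, a₀, xb, xa, b4, a4, e2, h2⟩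
    refine ⟨a₀ * b₀, a₀, by rw [mul_assoc, xb, ← mul_assoc, xa, mul_assoc], xa, ab4, a4, e3, ?_⟩
    convert par _ _ h1 h2 using 2
    exact Subtype.ext (map_mul f _ _)
  have c2 : Is2 (f c) := is2_of_four (by simp only [← map_mul, c4, map_one])
  have d4' : f d * f d * (f d * f d) = 1 := by simp only [← map_mul, d4, map_one]
  have e' : f d * f c * (f d)⁻¹ = f x₀ * f c := by rw [← map_inv, ← map_mul, ← map_mul, e, map_mul]
  obtain ⟨w, hw, hw2⟩ := exists_root k' hπ (c := ⟨f c, mem hc⟩) (d := ⟨f d, mem hd⟩) ev c2 e'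
  -- the square root of `t` in `C(L)`
  have hr : ∀ y : A8, f y * (g⁻¹ * w * g) = g⁻¹ * w * g * f y := fun y => by
    have := cs_comm hw y
    simp only [MonoidHom.comp_apply, MulEquiv.coe_toMonoidHom, MulAut.conj_apply] at this
    calc f y * (g⁻¹ * w * g) = g⁻¹ * (g * f y * g⁻¹ * w) * g := by group
      _ = g⁻¹ * w * g * f y := by rw [this]; group
  have hr2 : g⁻¹ * w * g * (g⁻¹ * w * g) = t := by
    calc g⁻¹ * w * g * (g⁻¹ * w * g) = g⁻¹ * (w * w) * g := by group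
      _ = t := by rw [hw2, ← hg]; group
  generalize g⁻¹ * w * g = r at hr hr2
  have hrs : r ∈ Cz (f x₀) := mem_centralizer_singleton_iff.2 (hr x₀).symm
  have rev : π ⟨r, hrs⟩ ∈ alternatingGroup (Fin 8) := by
    by_contra h1
    by_cases h2 : π ⟨f d, mem hd⟩ ∈ alternatingGroup (Fin 8)
    · exact claimA p' k' hπ ev h2 c2 (is2_of_four d4') e'
    refine claimA p' k' hπ ev (par _ _ h2 h1) c2 (is2_of_four ?_) ?_
    · change f d * r * (f d * r) * (f d * r * (f d * r)) = 1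
      have h3 : f d * r * (f d * r) = f d * f d * t := by
        rw [mul_assoc, ← mul_assoc r, ← hr, mul_assoc, hr2, mul_assoc]
      have h4 : t * (f d * f d) = f d * f d * t := by rw [← map_mul, cs_comm p.cen]
      rw [h3, mul_assoc (f d * f d), ← mul_assoc t, h4, mul_assoc (f d * f d) t, p.inv.1, mul_one, d4']
    · change f d * r * f c * (f d * r)⁻¹ = f x₀ * f c
      rw [mul_assoc (f d), ← hr, ← e']
      group
  have hts : t ∈ Cz (f x₀) := hr2 ▸ mul_mem hrs hrs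
  have hπt : π ⟨r, hrs⟩ * π ⟨r, hrs⟩ = π ⟨t, hts⟩ := by
    rw [← map_mul]; exact congrArg π (Subtype.ext hr2)
  have tev : π ⟨t, hts⟩ ∈ alternatingGroup (Fin 8) := hπt ▸ mul_mem rev rev
  have hc' : IsConj (f x₀) t := (isConj_iff.2 ⟨g, hg⟩).symm
  have ty4 : Ty 4 (π ⟨t, hts⟩) := by
    rcases P.cls (π ⟨t, hts⟩) (by rw [← map_mul, ← map_one π]; exact congrArg π (Subtype.ext p.inv.1))
      with h | h | h | h | h
    · rcases one_or k' hts ((hπ1 _).1 h) p.inv.1 with h1 | h1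
      · exact absurd h1 p.inv.2
      · exact absurd ⟨x₀, h1.symm⟩ k.nt
    · exact absurd tev (P.od _ (Or.inl h))
    · exact h
    · exact absurd tev (P.od _ (Or.inr h))
    · rcases k'.dec t hts p.inv.1 ⟨_, tev⟩ (hπ ⟨t, hts⟩) with h1 | h1
      · exact absurd (h1 ▸ hc') (p'.nz ⟨_, tev⟩ h)
      · exact absurd (h1 ▸ hc') (p'.ntz ⟨_, tev⟩ h)
  have hρ : π ⟨f ρ₀, mem xρ⟩ = 1 := by
    refine P.r42 _ _ rev (hπt ▸ ty4) ?_ ?_
    · rw [← map_pow, ← map_one π]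
      exact congrArg π (Subtype.ext (by simp [← map_pow, ρ3]))
    · rw [← map_mul, ← map_mul]
      exact congrArg π (Subtype.ext (hr ρ₀))
  have hv := (hπ1 (⟨f ρ₀, mem xρ⟩ * ⟨f v₀, mem xv⟩ * ⟨f ρ₀, mem xρ⟩⁻¹ * ⟨f v₀, mem xv⟩⁻¹)).1
    (by rw [map_mul, map_mul, map_mul, map_inv, map_inv, hρ]; group)
  have hv' := (⟨f ρ₀, mem xρ⟩ * ⟨f v₀, mem xv⟩ * ⟨f ρ₀, mem xρ⟩⁻¹ * ⟨f v₀, mem xv⟩⁻¹ : Cz (f x₀)).2
  simp only [Subgroup.coe_mul, Subgroup.coe_inv, ← map_inv, ← map_mul] at hv hv'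
  rcases one_or k' hv' hv (by rw [← map_mul, v2, map_one]) with h | h
  · exact v1 (p.inj (h.trans (map_one f).symm))
  · exact vx (p.inj h)

theorem jobNX (P : KP) (K : JKA.{u}) : JNX.{u} := fun G _ _ f t p a ha hc => by
  obtain ⟨b, hb⟩ := P.cj 4 a x₀ (by decide) ha ty_x
  obtain ⟨g, hg⟩ := isConj_iff.1 hc
  refine main P K p (g := f b * g) ?_
  have : b * a * b⁻¹ = x₀ := Subtype.ext hb
  rw [← this, map_mul, map_mul, map_inv, ← hg]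
  group

end H24.A8NX

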