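/- Row S4294 (Amitsur): the quaternion algebra of the icosians splits over `ℚ(√5, η)`, and
`C₅ ⋊ C₈` has zero divisors. -/
import Cfsg.Agent.S3359
import Cfsg.Agent.S4293

set_option autoImplicit false

namespace H24.Amit

open Polynomial

/-- If `-5` is a square modulo `n` then `n` is a sum of two squares in `ℚ(√5)`. -/
theorem two_sq {K : Type*} [CommRing K] [Algebra ℚ K] {s : K} (hs : s ^ 2 = 5) (n : ℕ) :
    0 < n → (∃ k : ℤ, (n : ℤ) ∣ k ^ 2 + 5) → ∃ a b : K, (n : K) = a ^ 2 + b ^ 2 := by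
  induction n using Nat.strong_induction_on with
  | _ n ih =>
  rintro hn ⟨k, hk⟩
  by_cases h3 : n < 3
  · interval_cases n
    · exact ⟨1, 0, by simp⟩
    · exact ⟨1, 1, by norm_num⟩
  obtain ⟨m, hm⟩ : (n : ℤ) ∣ (k.bmod n) ^ 2 + 5 := by
    have := Int.dvd_bmod_sub_self (x := k) (m := n)
    have h := dvd_add (this.mul_right (k.bmod n + k)) hk
    rwa [show (k.bmod n - k) * (k.bmod n + k) + (k ^ 2 + 5) = (k.bmod n) ^ 2 + 5 by ring] at h
  have h1 := Int.le_bmod (x := k) hn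
  have h2 := Int.bmod_lt (x := k) hn
  generalize k.bmod n = r at hm h1 h2
  have h4 : 4 * r ^ 2 ≤ (n : ℤ) ^ 2 := by
    have : 2 * r ≤ n ∧ -n ≤ 2 * r := by omega
    nlinarith
  have h5 : (3 : ℤ) ≤ n := by omega
  have h6 : 0 < m := by nlinarith [sq_nonneg r]
  lift m to ℕ using h6.le
  obtain ⟨a, b, h⟩ := ih m (by zify; nlinarith) (by omega) ⟨r, hm ▸ dvd_mul_left _ _⟩
  have h7 : algebraMap ℚ K (m : ℚ)⁻¹ * m = 1 := by
    rw [← map_natCast (algebraMap ℚ K), ← map_mul, inv_mul_cancel₀ (by norm_cast at h6 ⊢; omega), map_one]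
  have h8 : (r : K) ^ 2 + 5 = n * m := by exact_mod_cast congrArg (Int.cast (R := K)) hm
  generalize algebraMap ℚ K (m : ℚ)⁻¹ = c at h7
  refine ⟨c * (r * a - s * b), c * (r * b + s * a), ?_⟩
  linear_combination (-n * (c * m + 1)) * h7 - c ^ 2 * m * h8 - c ^ 2 * (a ^ 2 + b ^ 2) * hs +
    c ^ 2 * ((r : K) ^ 2 + 5) * h

/-- Gauss: the cyclotomic polynomial of a prime `q ≡ 3 (4)` is a norm from `ℚ(√-q)`. -/
theorem gauss {q : ℕ} [hq : Fact q.Prime] (h3 : q % 4 = 3) :
    ∃ (U V : ℚ[X]) (c : ℚ), c ≠ 0 ∧ U ^ 2 + q * V ^ 2 = C (c ^ 2) * cyclotomic q ℚ := by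
  obtain ⟨d, hd⟩ : ∃ d, q = 2 * (d + 1) + 1 := ⟨q / 2 - 1, by omega⟩
  let L := CyclotomicField q ℚ
  haveI : IsCyclotomicExtension {q} ℚ L := CyclotomicField.isCyclotomicExtension q ℚ
  have hζ := IsCyclotomicExtension.zeta_spec q ℚ L
  set ζ := IsCyclotomicExtension.zeta q ℚ L
  have h2 : ringChar (ZMod q) ≠ 2 := by rw [ZMod.ringChar_zmod_n]; omega
  have hg := gaussSum_sq ((MulChar.ringHomComp_ne_one_iff (Int.castRingHom L).injective_int).2
    (quadraticChar_ne_one h2)) ((quadraticChar_isQuadratic _).comp _)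
    (AddChar.zmodChar_primitive_of_primitive_root q hζ)
  rw [MulChar.ringHomComp_apply, quadraticChar_neg_one h2, ZMod.card,
    ZMod.χ₄_nat_three_mod_four h3] at hg
  obtain ⟨g, hg⟩ : ∃ g : L, g ^ 2 = -q := ⟨_, hg.trans (by rw [map_neg, map_one, neg_one_mul])⟩
  haveI := IsCyclotomicExtension.finiteDimensional {q} ℚ L
  let f : (degreeLT ℚ (d + 2) × degreeLT ℚ (d + 1)) →ₗ[ℚ] L :=
    ((aeval ζ).toLinearMap ∘ₗ Submodule.subtype _).coprod
      (LinearMap.mulLeft ℚ g ∘ₗ (aeval ζ).toLinearMap ∘ₗ Submodule.subtype _)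
  haveI := fun n => (degreeLTEquiv ℚ n).symm.finiteDimensional
  obtain ⟨⟨⟨U, hU⟩, ⟨V, hV⟩⟩, h0, h1⟩ := (Submodule.ne_bot_iff _).1
    (LinearMap.ker_ne_bot_of_finrank_lt (f := f) (by
      rw [IsCyclotomicExtension.finrank L (cyclotomic.irreducible_rat hq.out.pos),
        Nat.totient_prime hq.out, Module.finrank_prod, (degreeLTEquiv ℚ _).finrank_eq,
        (degreeLTEquiv ℚ _).finrank_eq, Module.finrank_fin_fun, Module.finrank_fin_fun]
      omega))
  have h4 : aeval ζ U + g * aeval ζ V = 0 := h0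
  have hU' : U.natDegree ≤ d + 1 := natDegree_le_iff_coeff_eq_zero.2 fun n hn =>
    (degree_lt_iff_coeff_zero _ _).1 (mem_degreeLT.1 hU) n hn
  have hV0 : V.coeff (d + 1) = 0 := (degree_lt_iff_coeff_zero _ _).1 (mem_degreeLT.1 hV) _ le_rfl
  have hV' : V.natDegree ≤ d + 1 := natDegree_le_iff_coeff_eq_zero.2 fun n hn =>
    (degree_lt_iff_coeff_zero _ _).1 (mem_degreeLT.1 hV) n hn.le
  obtain ⟨W, hW⟩ : cyclotomic q ℚ ∣ U ^ 2 + q * V ^ 2 := by
    rw [cyclotomic_eq_minpoly_rat hζ hq.out.pos]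
    refine minpoly.dvd _ _ ?_
    simp only [map_add, map_mul, map_pow, map_natCast]
    linear_combination (aeval ζ U - g * aeval ζ V) * h4 + aeval ζ V ^ 2 * hg
  have h5 : U ^ 2 + q * V ^ 2 ≠ 0 := fun e => h1 (by
    have key : ∀ x : ℚ, U.eval x = 0 ∧ V.eval x = 0 := fun x => by
      have := congrArg (eval x) e
      simp only [eval_add, eval_mul, eval_pow, eval_natCast, eval_zero] at this
      have hq0 : (0 : ℚ) < q := by exact_mod_cast hq.out.pos
      have := (add_eq_zero_iff_of_nonneg (sq_nonneg _) (by positivity)).1 this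
      simpa [hq0.ne'] using this
    exact Prod.ext (Subtype.ext (Polynomial.funext fun x => by simpa using (key x).1))
      (Subtype.ext (Polynomial.funext fun x => by simpa using (key x).2)))
  have hΦ : (cyclotomic q ℚ).natDegree = d + 1 + (d + 1) := by
    rw [natDegree_cyclotomic, Nat.totient_prime hq.out]; omega
  have h6 : W.natDegree = 0 := by
    have : (U ^ 2 + q * V ^ 2).natDegree ≤ d + 1 + (d + 1) := natDegree_add_le_of_degree_le
      (natDegree_pow_le.trans (by omega)) (natDegree_mul_le.trans (by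
        have := natDegree_pow_le (p := V) (n := 2)
        rw [natDegree_natCast]; omega))
    rw [hW, (cyclotomic.monic q ℚ).natDegree_mul' (fun e => h5 (by rw [hW, e, mul_zero]))] at this
    omega
  obtain ⟨w, rfl⟩ := natDegree_eq_zero.1 h6
  have h7 := congrArg (coeff · (d + 1 + (d + 1))) hW
  simp only [sq, coeff_add, coeff_natCast_mul, coeff_mul_add_eq_of_natDegree_le hU' hU',
    coeff_mul_add_eq_of_natDegree_le hV' hV', hV0, coeff_mul_C] at h7
  rw [← hΦ, (cyclotomic.monic q ℚ).coeff_natDegree] at h7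
  have h8 : w = U.coeff (d + 1) ^ 2 := by linear_combination -h7
  exact ⟨U, V, U.coeff (d + 1), fun e => h5 (by rw [hW, h8, e]; simp), by rw [hW, h8, mul_comm]⟩

theorem four_sq {K : Type*} [CommRing K] [IsDomain K] [Algebra ℚ K] {s η : K} (hs : s ^ 2 = 5)
    {m : ℕ} (hm : m.Coprime 20) (h1 : η ^ m = 1) (h2 : η ≠ 1) :
    ∃ a b c d : K, a ≠ 0 ∧ a ^ 2 + b ^ 2 + c ^ 2 + d ^ 2 = 0 := by
  obtain ⟨n, rfl⟩ : ∃ n, m = 2 * n + 1 := Nat.coprime_two_right.1
    (hm.coprime_dvd_right (by norm_num))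
  obtain ⟨k, hk1, hk2⟩ := Nat.chineseRemainder hm (2 * n) 3
  obtain ⟨q, -, hq, h3⟩ := Nat.forall_exists_prime_gt_and_modEq 0 (q := (2 * n + 1) * 20) (a := k)
    (by omega) (Nat.Coprime.mul_right
      (by rw [Nat.Coprime, hk1.gcd_eq]; simp) (by rw [Nat.Coprime, hk2.gcd_eq]; norm_num))
  haveI := Fact.mk hq
  have h4 : q % 20 = 3 := (h3.of_mul_left _).trans hk2
  have h5 : η ^ q = η ^ (2 * n) := by
    rw [pow_eq_pow_mod q h1, pow_eq_pow_mod (2 * n) h1, ((h3.of_mul_right _).trans hk1 :)]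
  obtain ⟨U, V, c, hc, h6⟩ := gauss (q := q) (by omega)
  obtain ⟨r, hr⟩ := ZMod.isSquare_of_jacobiSym_eq_one (a := -5) (p := q) (by
    rw [jacobiSym.mod_right _ (Nat.odd_iff.2 (by omega)), show q % (4 * (-5 : ℤ).natAbs) = 3 from h4]
    norm_num)
  obtain ⟨r, rfl⟩ := ZMod.intCast_surjective r
  obtain ⟨a, b, h7⟩ := two_sq hs q hq.pos ⟨r, (ZMod.intCast_zmod_eq_zero_iff_dvd _ q).1 (by
    push_cast at hr ⊢; linear_combination -hr)⟩
  have h8 := congrArg (aeval η) h6
  have h9 := congrArg (aeval η) (cyclotomic_prime_mul_X_sub_one ℚ q)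
  simp only [map_add, map_mul, map_pow, map_natCast, aeval_C, map_sub, aeval_X, map_one] at h8 h9
  have h10 : η * aeval η (cyclotomic q ℚ) = -1 := mul_right_cancel₀ (sub_ne_zero.2 h2) (by
    linear_combination η * h9 + η * h5 + h1)
  haveI := algebraRat.charZero K
  refine ⟨algebraMap ℚ K c, η ^ (n + 1) * aeval η U, a * η ^ (n + 1) * aeval η V,
    b * η ^ (n + 1) * aeval η V, by simpa using hc, ?_⟩
  linear_combination η * h8 + algebraMap ℚ K c ^ 2 * h10 - η * aeval η V ^ 2 * h7 +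
    η * (aeval η U ^ 2 + (a ^ 2 + b ^ 2) * aeval η V ^ 2) * h1

variable {D : Type*} [DivisionRing D]

/-- The norm form of a quaternion subalgebra of a division ring is anisotropic. -/
theorem aniso (h2 : (2 : D) ≠ 0) {i j : D} (hi : i * i = -1) (hj : j * j = -1)
    (hij : j * i = -(i * j)) (K : Subring D) (hK : ∀ a ∈ K, ∀ b ∈ K, a * b = b * a)
    (hKi : ∀ a ∈ K, i * a = a * i) (hKj : ∀ a ∈ K, j * a = a * j) {a b c d : D} (ha : a ∈ K)
    (hb : b ∈ K) (hc : c ∈ K) (hd : d ∈ K) (h : a * a + b * b + c * c + d * d = 0) : a = 0 := by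
  have r : ∀ {x y : D}, x * y = y * x → ∀ w, x * (y * w) = y * (x * w) := fun e w => by
    rw [← mul_assoc, e, mul_assoc]
  have hi' : ∀ w, i * (i * w) = -w := fun w => by rw [← mul_assoc, hi, neg_one_mul]
  have hj' : ∀ w, j * (j * w) = -w := fun w => by rw [← mul_assoc, hj, neg_one_mul]
  have hij' : ∀ w, j * (i * w) = -(i * (j * w)) := fun w => by
    rw [← mul_assoc, hij, neg_mul, mul_assoc]
  have key : ∀ {b c d : D}, b ∈ K → c ∈ K → d ∈ K → a + (b * i + c * j + d * (i * j)) = 0 →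
      a = 0 := fun {b c d} hb hc hd e => by
    set y := a + (b * i + c * j + d * (i * j)) with hy
    have : 2 * (2 * a) = y - i * y * i - j * y * j - i * j * y * (i * j) := by
      simp only [hy, mul_add, add_mul, mul_assoc, hi, hj, hij, hi', hj', hij', mul_neg, neg_mul,
        r (hKi a ha), r (hKi b hb), r (hKi c hc), r (hKi d hd), r (hKj a ha), r (hKj b hb),
        r (hKj c hc), r (hKj d hd), mul_one, neg_neg, two_mul]
      abel
    simpa [e, h2] using this
  have : (a + (b * i + c * j + d * (i * j))) * (a + (-b * i + -c * j + -d * (i * j))) =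
      a * a + b * b + c * c + d * d := by
    simp only [mul_add, add_mul, mul_assoc, hi, hj, hij, hi', hj', hij', mul_neg, neg_mul,
      r (hKi b hb), r (hKi c hc), r (hKi d hd), r (hKj b hb), r (hKj c hc), r (hKj d hd),
      hKi a ha, hKj a ha, r (hKi a ha), hKi b hb, hKj b hb, hKi c hc, hKj c hc, mul_one,
      neg_neg, r (hK b hb a ha), r (hK c hc a ha),
      r (hK d hd a ha), r (hK c hc b hb), r (hK d hd b hb), r (hK d hd c hc)]
    abel
  rcases mul_eq_zero.1 (this.trans h) with e | e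
  · exact key hb hc hd e
  · exact key (neg_mem hb) (neg_mem hc) (neg_mem hd) e

/-- `C₅ ⋊ C₈` does not embed. -/
theorem no_forty [CharZero D] {z u : D} (hz : 1 + z + z ^ 2 + z ^ 3 + z ^ 4 = 0)
    (hu : u * z = z ^ 2 * u) (h4 : u ^ 4 = -1) : False := by
  have h5 : z ^ 5 = 1 := by
    rw [show z ^ 5 = (z - 1) * (1 + z + z ^ 2 + z ^ 3 + z ^ 4) + 1 by noncomm_ring, hz]; simp
  have hk : ∀ k, u * z ^ k = z ^ (2 * k % 5) * u := fun k => by
    rw [← pow_eq_pow_mod _ h5, pow_mul]; exact (SemiconjBy.pow_right hu k).eq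
  obtain ⟨a, b, s, hab, has, hbs, h1, h2, ua, ub, us⟩ : ∃ a b s : D, b * a = a * b ∧
      a * s = s * a ∧ b * s = s * b ∧ b * b = -5 - a * a ∧ s * s = 5 ∧ u * a = b * u ∧
      u * b = -(a * u) ∧ u * s = -(s * u) := by
    refine ⟨z - z ^ 4, z ^ 2 - z ^ 3, z - z ^ 2 - z ^ 3 + z ^ 4, by noncomm_ring, by noncomm_ring,
      by noncomm_ring, ?_, ?_, ?_, ?_, ?_⟩
    · rw [← sub_eq_zero, ← mul_zero (z ^ 4 - z ^ 3 + z ^ 2 - 5 * z + 5), ← hz]; noncomm_ring
    · rw [← sub_eq_zero, ← mul_zero (z ^ 4 - 3 * z ^ 3 + z ^ 2 + 5 * z - 5), ← hz]; noncomm_ring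
    all_goals simp only [mul_sub, mul_add, hk, hu, Nat.reduceMul, Nat.reduceMod]; noncomm_ring
  have r : ∀ {x y x' y' : D}, x * y = x' * y' → ∀ w, x * (y * w) = x' * (y' * w) :=
    fun e w => by rw [← mul_assoc, e, mul_assoc]
  have r' : ∀ {x y x' y' : D}, x * y = -(x' * y') → ∀ w, x * (y * w) = -(x' * (y' * w)) :=
    fun e w => by rw [← mul_assoc, e, neg_mul, mul_assoc]
  have u4 : u * (u * (u * u)) = -1 := by rw [← h4]; noncomm_ring
  have u4' : ∀ w, u * (u * (u * (u * w))) = -w := fun w => by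
    rw [← neg_one_mul w, ← u4]; noncomm_ring
  have h1' : ∀ w, b * (b * w) = -(5 * w) - a * (a * w) := fun w => by
    rw [← mul_assoc, h1]; noncomm_ring
  have h2' : ∀ w, s * (s * w) = 5 * w := fun w => by rw [← mul_assoc, h2]
  set α := a - u * (u * b) with hα
  set β := s + s * (u - u * (u * u)) with hβ
  have e1 : α * α = -5 := by
    simp only [hα, mul_sub, sub_mul, mul_assoc, mul_neg, neg_mul, ua, ub, r ua, r' ub, hab, r hab,
      u4, u4', h1, h1', neg_neg]
    noncomm_ring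
    simp
  have e2 : (α - β) * (α + β) = 0 := by
    simp only [hα, hβ, mul_sub, sub_mul, mul_add, add_mul, mul_assoc, mul_neg, neg_mul, ua, ub, us,
      r ua, r' ub, r' us, hab, r hab, has, hbs, r has, r hbs, u4, u4', h1, h1', h2, h2', neg_neg]
    noncomm_ring
    simp
  have e3 : u * u * α = -(α * (u * u)) := by
    simp only [hα, mul_sub, sub_mul, mul_assoc, mul_neg, neg_mul, ua, ub, r ua, r' ub, u4, u4',
      neg_neg]
    noncomm_ring
  have e4 : u * u * β = β * (u * u) := by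
    simp only [hβ, mul_sub, sub_mul, mul_add, add_mul, mul_assoc, mul_neg, neg_mul, us, r' us,
      neg_neg]
  have e5 : u * u * α = α * (u * u) := by
    rcases mul_eq_zero.1 e2 with e | e
    · rwa [sub_eq_zero.1 e]
    · rw [eq_neg_of_add_eq_zero_left e, mul_neg, neg_mul, e4]
  have hu0 : u ≠ 0 := fun e => by simp [e] at u4
  have e6 : α = 0 := by simpa [hu0] using CharZero.eq_neg_self_iff.1 (e5.symm.trans e3)
  simp [e6] at e1

theorem icos (h2 : (2 : D) ≠ 0) {x y : D} (hx : x * x = -1 - x) (hy : y * y = -1)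
    (hz : 1 + x * y + (x * y) ^ 2 + (x * y) ^ 3 + (x * y) ^ 4 = 0) :
    ∃ t j : D, t * t + t - 1 = 0 ∧ (∀ a, Commute a x → Commute a y → Commute a t ∧ Commute a j) ∧
      Commute t y ∧ Commute t j ∧ j * j = -1 ∧ j * y = -(y * j) := by
  have hx' : ∀ w, x * (x * w) = -w - x * w := fun w => by rw [← mul_assoc, hx]; noncomm_ring
  have hy' : ∀ w, y * (y * w) = -w := fun w => by rw [← mul_assoc, hy, neg_one_mul]
  set t := x * y + y * x + y with ht
  have h5 : (x * y) ^ 5 = 1 := by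
    generalize x * y = z at hz
    rw [show z ^ 5 = (z - 1) * (1 + z + z ^ 2 + z ^ 3 + z ^ 4) + 1 by noncomm_ring, hz]; simp
  have h1 : t = x * y + (x * y) ^ 4 := by
    have : x * y * (y * x + y) = 1 := by
      simp only [mul_add, mul_assoc, hy', hy, mul_neg, hx]; noncomm_ring
    rw [← mul_one (_ ^ 4), ← this, ← mul_assoc, ← pow_succ, h5, one_mul, ← add_assoc]
  have h3 : t * t + t - 1 = 0 := by
    rw [h1]
    generalize x * y = z at hz
    rw [← mul_zero (z ^ 4 - z ^ 3 + 2 * z - 1), ← hz]; noncomm_ring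
  have tx : Commute t x := by
    simp only [Commute, SemiconjBy, ht, mul_add, add_mul, mul_assoc, hx, hx']; noncomm_ring
  have ty : Commute t y := by
    simp only [Commute, SemiconjBy, ht, mul_add, add_mul, mul_assoc, hy, hy']; noncomm_ring
  have tj : Commute t (x * y - y * x) := (tx.mul_right ty).sub_right (ty.mul_right tx)
  have h4 : (x * y - y * x) * (x * y - y * x) = t * t - 3 := by
    simp only [ht, mul_add, add_mul, mul_sub, sub_mul, mul_assoc, hx, hx', hy, hy', mul_neg,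
      show (3 : D) = 1 + 1 + 1 by norm_num]
    noncomm_ring
  refine ⟨t, t * (x * y - y * x), h3, fun a h h' => ?_, ty, (Commute.refl t).mul_right tj, ?_, ?_⟩
  · have := ((h.mul_right h').add_right (h'.mul_right h)).add_right h'
    exact ⟨this, this.mul_right ((h.mul_right h').sub_right (h'.mul_right h))⟩
  · rw [tj.symm.mul_mul_mul_comm, h4, ← sub_eq_zero, ← mul_zero (t * t - t - 1), ← h3]
    noncomm_ring
  · rw [← mul_assoc y, ← ty.eq, mul_assoc, mul_assoc, ← mul_neg]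
    simp only [mul_sub, sub_mul, mul_assoc, hy, hy']
    noncomm_ring

open Subgroup Equiv in
theorem amitsur (H : Subgroup Dˣ) [Finite H] (hH : ¬ Group.IsSolvable H) :
    Nonempty (H ≃* H90.SL5) := by
  obtain ⟨φ, f, M, hφ, -, h1, hA, h3, h4, h5, -, h6, -⟩ := (H90.Free.of_FC
    (Cfsg.Agent.S4293.result H (by rintro rfl; exact hH inferInstance))).nonsolvable_structure hH
  let ι : H →* D := (Units.coeHom D).comp H.subtype
  have hι : Function.Injective ι := Units.val_injective.comp H.subtype_injective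
  have ne : ∀ g : H90.SL5, g ≠ 1 → ι (φ g) - 1 ≠ 0 := fun g hg e =>
    hg ((map_eq_one_iff _ hφ).1 ((map_eq_one_iff _ hι).1 (sub_eq_zero.1 e)))
  have hm : ι (φ (-1)) = -1 := (mul_self_eq_one_iff.1 (by
    rw [← map_mul, ← map_mul]; simp)).resolve_left fun e => ne (-1) (by decide) (sub_eq_zero.2 e)
  have h2 : (2 : D) ≠ 0 := fun e => ne (-1) (by decide) (by
    rw [hm, ← neg_eq_zero, ← e]; norm_num)
  have cyc : ∀ {g : D} (n : ℕ), g ^ n = 1 → g - 1 ≠ 0 → ∑ i ∈ Finset.range n, g ^ i = 0 :=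
    fun n e e' => (mul_eq_zero.1 ((geom_sum_mul _ n).trans (sub_eq_zero.2 e))).resolve_right e'
  let x : H90.SL5 := ⟨!![0, 1; -1, -1], by decide⟩
  let y : H90.SL5 := ⟨!![0, -1; 1, 0], by decide⟩
  have hy : ι (φ y) * ι (φ y) = -1 := by rw [← hm, ← map_mul, ← map_mul]; congr 2; decide
  obtain ⟨t, j, ht, hc, ty, tj, hj, hyj⟩ := icos h2 (x := ι (φ x)) (by
    have := cyc (g := ι (φ x)) 3 (by rw [← map_pow, ← map_pow, show x ^ 3 = 1 by decide]; simp)
      (ne x fun e => absurd (congrArg (·.1 0 0) e) (by decide))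
    simp only [Finset.sum_range_succ, Finset.sum_range_zero] at this
    rw [← sub_eq_zero, ← this]; noncomm_ring) hy (by
    have := cyc (g := ι (φ (x * y))) 5
      (by rw [← map_pow, ← map_pow, show (x * y) ^ 5 = 1 by decide]; simp) (ne _ (by decide))
    simpa [Finset.sum_range_succ] using this)
  haveI : CharZero D := by
    obtain ⟨p, hp⟩ := CharP.exists D
    rcases eq_or_ne p 0 with rfl | h0
    · exact CharP.charP_to_charZero D
    haveI := NeZero.mk h0
    obtain ⟨a, b, h⟩ := CharP.sq_add_sq D p (-1)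
    refine (one_ne_zero (aniso h2 hy hj hyj (Subring.center D) (fun a _ b hb => (hb.comm a).symm.eq)
      (fun a ha => (ha.comm _).symm.eq) (fun a ha => (ha.comm _).symm.eq) (one_mem _)
      (natCast_mem _ a) (natCast_mem _ b) (zero_mem _) ?_)).elim
    rw [one_mul, add_assoc 1, ← sq, ← sq, h]; simp
  have hM : ∀ η ∈ M, η = 1 := fun η hη => by
    by_contra h0
    have hcm : ∀ g, Commute (ι η) (ι (φ g)) := fun g =>
      Commute.map (((h1 ▸ h3) hη _ ⟨g, rfl⟩).symm) ι
    obtain ⟨h7, h8⟩ := hc _ (hcm x) (hcm y)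
    let K := Algebra.adjoin ℚ {t, ι η}
    have hK : IsMulCommutative K := Algebra.isMulCommutative_adjoin ℚ (by
      rintro _ (rfl | rfl) _ (rfl | rfl) <;> simp [h7.eq])
    have hK' : ∀ w, Commute t w → Commute (ι η) w → ∀ a ∈ K.toSubring, w * a = a * w :=
      fun w e e' a ha => Algebra.adjoin_le (S := Subalgebra.centralizer ℚ {w}) (by
        rintro _ (rfl | rfl) _ rfl
        exacts [e.symm, e'.symm]) ha w rfl
    open scoped IsMulCommutative in
    obtain ⟨a, b, c, d, h9, h10⟩ := four_sq (K := K)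
      (s := 2 * ⟨t, Algebra.subset_adjoin (by simp)⟩ + 1)
      (η := ⟨ι η, Algebra.subset_adjoin (by simp)⟩) (m := orderOf η) (Subtype.ext (by
        change (2 * t + 1) ^ 2 = 5
        rw [show (2 * t + 1) ^ 2 = 4 * (t * t + t - 1) + (1 + 1 + 1 + 1 + 1) by noncomm_ring, ht]
        norm_num))
      ((h4.coprime_dvd_left (M.orderOf_dvd_natCard hη)).pow_right 2 |>.coprime_dvd_right
        (by norm_num))
      (Subtype.ext (by change ι η ^ _ = 1; rw [← map_pow, pow_orderOf_eq_one, map_one]))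
      fun e => h0 ((map_eq_one_iff _ hι).1 (congrArg Subtype.val e))
    exact h9 (Subtype.ext (aniso h2 hy hj hyj K.toSubring (fun a ha b hb => setLike_mul_comm ha hb)
      (hK' _ ty (hcm y)) (hK' _ tj h8) a.2 b.2 c.2 d.2
      (by simpa [sq] using congrArg Subtype.val h10)))
  have hk : ∀ c, f c = 1 ↔ ι c = 1 ∨ ι c = -1 := fun c => ⟨fun e => (h5 c e).imp
    (fun e => by rw [hM c e, map_one]) fun e => by
      have := congrArg ι (hM _ e)
      rw [map_mul, hm, map_one, neg_one_mul] at this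
      exact neg_eq_iff_eq_neg.1 this, fun e => (h1 ▸ fun g _ => hι (by
        rcases e with e | e <;> simp [e]) : c ∈ f.ker)⟩
  refine ⟨(MulEquiv.ofBijective φ ⟨hφ, MonoidHom.range_eq_top.1 ?_⟩).symm⟩
  by_contra h0
  obtain ⟨g, hg⟩ : ∃ g, Perm.sign (f g) ≠ 1 := by
    by_contra! e
    exact h0 (eq_top_iff.2 ((h6.ge.trans (sup_le le_rfl fun a ha => hM a ha ▸ one_mem _)).trans'
      fun g _ => e g))
  have hs : ∀ σ, ∃ a, f a = σ := fun σ => by
    by_cases e : Perm.sign σ = 1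
    · obtain ⟨a, -, h⟩ := hA.ge e
      exact ⟨a, h⟩
    · obtain ⟨a, -, h⟩ := hA.ge (show Perm.sign (σ * f g⁻¹) = 1 by
        simp [(Int.units_eq_one_or _).resolve_left e, (Int.units_eq_one_or _).resolve_left hg])
      exact ⟨a * g, by simp [h]⟩
  obtain ⟨z, hz⟩ := hs (finRotate 5)
  obtain ⟨u, hu⟩ := hs (swap 1 2 * swap 2 4 * swap 4 3)
  have z5 : ι (z ^ 6) ^ 5 = 1 := by
    rw [← map_pow, ← pow_mul, mul_comm, pow_mul, map_pow]
    rcases (hk (z ^ 5)).1 (by rw [map_pow, hz]; decide) with e | e <;> rw [e] <;> norm_num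
  refine no_forty (z := ι (z ^ 6)) (u := ι u) (by
    simpa [Finset.sum_range_succ] using cyc 5 z5 fun e => absurd ((hk _).2 (Or.inl
      (sub_eq_zero.1 e))) (by rw [map_pow, hz]; decide)) ?_ ?_
  · have h7 : ι (u * z ^ 6 * u⁻¹) ^ 5 = 1 := by
      rw [← map_pow, conj_pow, map_mul, map_mul, map_pow, z5, mul_one, ← map_mul]; simp
    have h8 : ι (u * z ^ 6 * u⁻¹) = ι (u * z ^ 6 * u⁻¹ * ((z ^ 6) ^ 2)⁻¹) * ι (z ^ 6) ^ 2 := by
      rw [← map_pow, ← map_mul]; simp
    rcases (hk (u * z ^ 6 * u⁻¹ * ((z ^ 6) ^ 2)⁻¹)).1 (by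
      simp only [map_mul, map_inv, map_pow, hz, hu]; decide +kernel) with e | e
    · rw [← one_mul (_ ^ 2), ← e, ← h8, ← map_mul, ← map_mul]; simp
    · rw [h8, e, neg_one_mul, Odd.neg_pow (by decide), ← pow_mul, mul_comm, pow_mul, z5] at h7
      exact absurd (CharZero.neg_eq_self_iff.1 (by simpa using h7 : -(1 : D) = 1)) one_ne_zero
  · refine (map_pow ι u 4 ▸ (hk (u ^ 4)).1 (by rw [map_pow, hu]; decide)).resolve_left fun e => ?_
    exact absurd ((hk (u ^ 2)).2 (mul_self_eq_one_iff.1 (by rw [map_pow, ← pow_add, e])))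
      (by rw [map_pow, hu]; decide)

end H24.Amit
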