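import Cfsg.Agent.H24.CxSpec

set_option autoImplicit false

namespace H24.Cx

open Subgroup Cfsg

universe u v

theorem vanHK_of (av : JobAV.{u}) (nc : JobNC.{u}) (step : JobStep.{u}) (jn : JobN.{u})
    (jm : JobM.{u}) (o : JobO.{u}) (kc : JobKC.{u}) (pl : JobPL.{u}) (st : JobST.{u})
    (b2u : JobB2U.{u}) (b2 : JobB2.{u}) (sat : JobSat.{u}) (sk : SecK.{u}) (sl : JobSecL.{u})
    (lo : JobLocO.{u}) (tho : JobThmO.{u}) (h1 : JobH1.{u}) (ca : JobChA.{u}) (cb : JobChB.{u})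
    (cc : JobChC.{u}) : VanHK.{u} :=
  have N := jn step nc
  have PL := pl nc o kc
  have ST := st o
  have O := tho av sk (lo sk sat (jm step N (b2 av step N PL ST (b2u step o PL ST))))
  cc av sk (sl av sk) (ca sk O) (cb sk (sl av sk) O) h1

theorem central_sc {Ω : Type u} [Group Ω] {S : Subgroup Ω} {F : FusionSystem S} {A : Subgroup Ω}
    (hA : F.IsCentral A) : F.StronglyClosed A := by
  refine ⟨hA.1, fun R hR φ hφ x => ?_⟩
  obtain ⟨ψ, -, a, b⟩ := hA.2 R φ hφ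
  rw [← a x]
  have := b ⟨x, hR x.2⟩
  exact (show ψ (inclusion le_sup_left x) = x from this) ▸ hR x.2

theorem final (fwd : JobFwd.{u, v}) (back : JobBack.{u, v}) (ext : JobExt.{u, v})
    (fc : JobFusC.{u, max u v}) (fk : FusK.{u, max u v}) (hk : VanHK.{max u v})
    {Ω : Type u} [Group Ω] {S : Subgroup Ω} [Finite S] (p : ℕ) [Fact p.Prime] (hS : IsPGroup p S)
    (F : FusionSystem S) (hF : F.IsSaturated p) (A : Subgroup Ω) (hA : F.IsCentral A) {Ω' : Type v}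
    [Group Ω'] {S' : Subgroup Ω'} [Finite S'] (θ : S →* Ω') (E : FusionSystem S')
    (hE : F.IsFactorSystem A θ E) : F.IsExotic p ↔ E.IsExotic p :=
  ⟨fun h => ⟨H94.isSaturated_factor hS hF (central_sc hA) hE, fun r =>
      h.2 (back ext (fc fk hk) p Ω S F A Ω' S' θ E hS hF hA hE r)⟩,
    fun h => ⟨hF, fun r => h.2 (fwd p Ω S F A Ω' S' θ E hS hF hA hE r)⟩⟩

end H24.Cx
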