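import Cfsg.Agent.H24.CxKit0

/-! Tower CX, kit part 2: exact sequences, isomorphisms, filtrations, localisation, cones. -/

set_option autoImplicit false

namespace H24.Cx

open Subgroup Cfsg H98

universe u

variable {p : ℕ} {G : Type u} [Group G] {Γ Γ' Y Y' P Q E S : Subgroup G}
  {C C' : Subgroup G → Prop} {X : Type u} [MulAction G X]
  {W : Type u} [AddCommGroup W] [DistribMulAction G W]
  {U U' V V' : Subgroup G → AddSubgroup W} {D : AddSubgroup W} {n : ℕ} {f : List X → W}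

theorem ne_nil_of_length {l : List X} (h : l.length = n + 1) : l ≠ [] := by
  rintro rfl; simp at h

theorem Face.sm {m l : List X} (h : Face m l) (g : G) : Face (sm g m) (sm g l) := by
  induction h with
  | head x l => exact Face.head _ _
  | cons x _ ih => exact ih.cons _

/-- Representatives of the orbits of a group on a type. -/
theorem exists_rep {α : Type*} (act : G → α → α) (h1 : ∀ a, act 1 a = a)
    (h2 : ∀ g h a, act g (act h a) = act (g * h) a) (Γ : Subgroup G) :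
    ∃ (r : α → α) (t : α → G), (∀ a, t a ∈ Γ ∧ act (t a) (r a) = a) ∧
      ∀ g ∈ Γ, ∀ a, r (act g a) = r a := by
  let s : Setoid α := ⟨fun a b => ∃ g ∈ Γ, act g b = a, fun a => ⟨1, one_mem _, h1 a⟩,
    fun ⟨g, a, b⟩ => ⟨g⁻¹, inv_mem a, by rw [← b, h2, inv_mul_cancel, h1]⟩,
    fun ⟨g, a, b⟩ ⟨k, c, e⟩ => ⟨g * k, mul_mem a c, by rw [← h2, e, b]⟩⟩
  have k : ∀ a, ∃ g ∈ Γ, act g (Quotient.mk s a).out = a := fun a => s.symm (Quotient.mk_out a)
  choose t ht using k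
  exact ⟨fun a => (Quotient.mk s a).out, t, ht, fun g hg a =>
    congrArg Quotient.out (Quotient.sound ⟨g, hg, rfl⟩)⟩

variable (hX : Good p G X) (hp : Pair p Γ Y)
include hX hp

/-- A value on a face lies in the group of the whole list. -/
theorem face_mem {N : Subgroup G → AddSubgroup W}
    (hN : ∀ P Q, Rel p Γ Y P → Rel p Γ Y Q → P ≤ Q → N Q ≤ N P) {e : List X → W}
    (h0 : n = 0 → e [] = 0) (h : ∀ m, m.length = n → On Y m → m ≠ [] → e m ∈ N (st Γ m))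
    {l : List X} (hl : l.length = n + 1) (ho : On Y l) : d e l ∈ N (st Γ l) := by
  refine d_mem fun m hm => ?_
  have k : m.length = n := by have := hm.length; omega
  by_cases c : m = []
  · subst c
    rw [h0 k.symm]; exact zero_mem _
  · exact hN _ _ (hX.rel hp ho (ne_nil_of_length hl)) (hX.rel hp (ho.subset hm.subset) c)
      (st_anti hm.subset) (h m k (ho.subset hm.subset) c)

theorem Coch.d (hs : Sys p Γ Y U V) (h : Coch Γ Y U V n f) : Coch Γ Y U V (n + 1) (d f) := by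
  refine ⟨fun l a b => face_mem hX hp hs.antiU h.nil (fun m c e _ => h.mem m c e) a b,
    fun g hg l a b => ?_, fun e => by omega⟩
  have := face_mem hX hp hs.antiV (n := n) (e := fun m => f m - g • f (sm g⁻¹ m))
    (fun e => by simp [sm_nil, h.nil e]) (fun m c e _ => by
      have := h.eqv g hg (sm g⁻¹ m) ((sm_length _ _).trans c) (e.sm hp (inv_mem hg))
      rwa [sm_sm, mul_inv_cancel, sm_one] at this) ((sm_length g l).trans a) (b.sm hp hg)
  rwa [d_sub, ← d_smul, ← d_sm, sm_sm, inv_mul_cancel, sm_one] at this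

theorem Coch.res (hs : Sys p Γ Y U V) (h : Coch Γ Y U V (n + 1) f) (h1 : Γ' ≤ Γ) (h2 : Y ≤ Y')
    (h3 : Y' ≤ Γ') : Coch Γ' Y' U V (n + 1) f := by
  have k : ∀ l : List X, l.length = n + 1 → On Y l → Rel p Γ Y (st Γ' l) := fun l a b =>
    ⟨(le_st (h2.trans h3)).2 b, (st_le _ _).trans h1, hX.isP _ (ne_nil_of_length a)⟩
  refine ⟨fun l a b => hs.antiU _ _ (k l a (b.mono h2)) (hX.rel hp (b.mono h2) (ne_nil_of_length a))
    (st_mono h1 l) (h.mem l a (b.mono h2)), fun g hg l a b => ?_, h.nil⟩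
  have a' := (sm_length g l).trans a
  have b' := (b.mono h2).sm hp (h1 hg)
  exact hs.antiV _ _ (k _ a' b') (hX.rel hp b' (ne_nil_of_length a')) (st_mono h1 _)
    (h.eqv g (h1 hg) l a (b.mono h2))

theorem Cyc.res (hs : Sys p Γ Y U V) (h : Cyc Γ Y V n f) (h1 : Γ' ≤ Γ) (h2 : Y ≤ Y')
    (h3 : Y' ≤ Γ') : Cyc Γ' Y' V n f := fun l a b =>
  hs.antiV _ _ ⟨(le_st (h2.trans h3)).2 (b.mono h2), (st_le _ _).trans h1,
    hX.isP _ (ne_nil_of_length a)⟩ (hX.rel hp (b.mono h2) (ne_nil_of_length a)) (st_mono h1 l)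
    (h l a (b.mono h2))

theorem Coch.lift (hs : Sys p Γ Y U V) (hs' : Sys p Γ Y U U') (h : Coch Γ Y U U' n f) :
    ∃ f', Coch Γ Y U V n f' ∧ ∀ l, l.length = n → On Y l → f l - f' l ∈ U' (st Γ l) := by
  rcases n with _ | n
  · exact ⟨fun _ => 0, coch_zero, fun l a _ => by
      rw [List.length_eq_zero_iff.1 a, h.nil rfl, sub_zero]; exact zero_mem _⟩
  obtain ⟨r, t, h1, h2⟩ := exists_rep (sm (G := G) (X := X)) sm_one sm_sm Γ
  have k : ∀ l : List X, l.length = n + 1 → On Y l → (r l).length = n + 1 ∧ On Y (r l) :=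
    fun l a b => by
      have e : r l = sm (t l)⁻¹ l := by
        conv_rhs => rw [← (h1 l).2]
        rw [sm_sm, (h1 l).2, inv_mul_cancel, sm_one]
      exact e ▸ ⟨(sm_length _ _).trans a, b.sm hp (inv_mem (h1 l).1)⟩
  refine ⟨fun l => t l • f (r l), ⟨fun l a b => ?_, fun g hg l a b => ?_, fun e => by omega⟩,
    fun l a b => ?_⟩
  · obtain ⟨c, e⟩ := k l a b
    have := hs.eqU _ (h1 l).1 _ (hX.rel hp e (ne_nil_of_length c)) _ (h.mem _ c e)
    rwa [← st_sm (h1 l).1, (h1 l).2] at this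
  · obtain ⟨c, e⟩ := k l a b
    have R := hX.rel hp e (ne_nil_of_length c)
    have h3 := (h1 (sm g l)).2
    rw [h2 g hg] at h3 ⊢
    have m : (t (sm g l))⁻¹ * g * t l ∈ st Γ (r l) :=
      ⟨mul_mem (mul_mem (inv_mem (h1 _).1) hg) (h1 l).1, sm_eq_self.1 (by
        rw [← sm_sm, ← sm_sm, (h1 l).2, ← h3, sm_sm, h3, inv_mul_cancel, sm_one])⟩
    have := hs.eqV _ (h1 (sm g l)).1 _ R _ (neg_mem (hs.triv _ R _ m _ (h.mem _ c e)))
    rwa [← st_sm (h1 _).1, h3, neg_sub, smul_sub, mul_smul, mul_smul, smul_inv_smul] at this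
  · obtain ⟨c, e⟩ := k l a b
    have := h.eqv _ (h1 l).1 _ c e
    rwa [(h1 l).2] at this

theorem Coch.weak (hs : Sys p Γ Y U U') (e : ∀ P, Rel p Γ Y P → V P ≤ U' P)
    (h : Coch Γ Y U V n f) : Coch Γ Y U U' n f := by
  refine ⟨h.mem, fun g hg l a b => ?_, h.nil⟩
  by_cases c : l = []
  · subst c
    rw [sm_nil, h.nil a.symm, smul_zero, sub_zero]; exact zero_mem _
  · exact e _ (hX.rel hp (b.sm hp hg) (by simpa [sm] using c)) (h.eqv g hg l a b)

theorem Coch.incl (hs : Sys p Γ Y U U') (h : Coch Γ Y U' V n f) : Coch Γ Y U V n f := by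
  refine ⟨fun l a b => ?_, h.eqv, h.nil⟩
  by_cases c : l = []
  · subst c
    rw [h.nil a.symm]; exact zero_mem _
  · exact hs.le _ (hX.rel hp b c) (h.mem l a b)

theorem van_ext (hs : Sys p Γ Y U V) (hs' : Sys p Γ Y U U') (e : ∀ P, Rel p Γ Y P → V P ≤ U' P)
    (h1 : Van X Γ Y U' V n) (h2 : Van X Γ Y U U' n) : Van X Γ Y U V n := by
  intro f hf hc
  obtain ⟨e1, a1, b1⟩ := h2 f (hf.weak hX hp hs' e) fun l a b =>
    e _ (hX.rel hp b (ne_nil_of_length a)) (hc l a b)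
  obtain ⟨e2, a2, b2⟩ := a1.lift hX hp hs hs'
  have c := hf.sub (a2.d hX hp hs)
  obtain ⟨e3, a3, b3⟩ := h1 (fun l => f l - d e2 l) ⟨fun l a b => by
      have := add_mem (b1 l a b) (face_mem hX hp hs'.antiV (e := fun m => e1 m - e2 m)
        (fun k => by rw [a1.nil k, a2.nil k, sub_zero]) (fun m c k _ => b2 m c k) a b)
      rwa [d_sub, sub_add_sub_cancel] at this, c.eqv, c.nil⟩
    fun l a b => by rw [d_sub, dd, sub_zero]; exact hc l a b
  refine ⟨fun l => e2 l + e3 l, a2.add (a3.incl hX hp hs'), fun l a b => ?_⟩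
  rw [d_add, ← sub_sub]
  exact b3 l a b

theorem van_sub (hs : Sys p Γ Y U V) (hs' : Sys p Γ Y U U') (e : ∀ P, Rel p Γ Y P → V P ≤ U' P)
    (h1 : Van X Γ Y U U' n) (h2 : Van X Γ Y U V (n + 1)) : Van X Γ Y U' V (n + 1) := by
  intro f hf hc
  obtain ⟨e1, a1, b1⟩ := h2 f (hf.incl hX hp hs') hc
  obtain ⟨e2, a2, b2⟩ := h1 e1 (a1.weak hX hp hs' e) fun l a b => by
    have := sub_mem (hf.mem l a b) (e _ (hX.rel hp b (ne_nil_of_length a)) (b1 l a b))
    rwa [sub_sub_cancel] at this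
  obtain ⟨e3, a3, b3⟩ := a2.lift hX hp hs hs'
  have c := a1.sub (a3.d hX hp hs)
  refine ⟨fun l => e1 l - d e3 l, ⟨fun l a b => ?_, c.eqv, c.nil⟩, fun l a b => ?_⟩
  · have := add_mem (b2 l a b) (face_mem hX hp hs'.antiV (e := fun m => e2 m - e3 m)
      (fun k => by rw [a2.nil k, a3.nil k, sub_zero]) (fun m c k _ => b3 m c k) a b)
    rwa [d_sub, sub_add_sub_cancel] at this
  · rw [d_sub, dd, sub_zero]; exact b1 l a b

theorem van_quot (hs : Sys p Γ Y U V) (hs' : Sys p Γ Y U U') (e : ∀ P, Rel p Γ Y P → V P ≤ U' P)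
    (h1 : Van X Γ Y U V n) (h2 : Van X Γ Y U' V (n + 1)) : Van X Γ Y U U' n := by
  intro f hf hc
  obtain ⟨f1, a1, b1⟩ := hf.lift hX hp hs hs'
  have c := a1.d hX hp hs
  obtain ⟨e2, a2, b2⟩ := h2 (d f1) ⟨fun l a b => by
      have := sub_mem (hc l a b) (face_mem hX hp hs'.antiV (e := fun m => f m - f1 m)
        (fun k => by omega) (fun m c k _ => b1 m c k) a b)
      rwa [d_sub, sub_sub_cancel] at this, c.eqv, c.nil⟩
    fun l _ _ => by rw [dd]; exact zero_mem _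
  obtain ⟨e3, a3, b3⟩ := h1 _ (a1.sub (a2.incl hX hp hs')) fun l a b => by
    rw [d_sub]; exact b2 l a b
  refine ⟨e3, a3.weak hX hp hs' e, fun l a b => ?_⟩
  have := add_mem (add_mem (b1 l a b) (a2.mem l a b))
    (e _ (hX.rel hp b (ne_nil_of_length a)) (b3 l a b))
  rwa [show f l - f1 l + e2 l + (f1 l - e2 l - d e3 l) = f l - d e3 l by abel] at this

theorem van_zero (hs : Sys p Γ Y U V) (h : ∀ P, Rel p Γ Y P → U P ≤ V P) : Van X Γ Y U V n :=
  fun f hf _ => ⟨fun _ => 0, coch_zero, fun l a b =>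
    sub_mem (h _ (hX.rel hp b (ne_nil_of_length a)) (hf.mem l a b)) (d_mem fun _ _ => zero_mem _)⟩

section iso
variable {G' W' : Type u} [Group G'] [MulAction G' X] [AddCommGroup W'] [DistribMulAction G' W']
  {Δ Z : Subgroup G'} {A B : Subgroup G' → AddSubgroup W'}

omit hX hp in
/-- A correspondence between two coefficient systems on the same set. -/
structure Corr (Γ Y : Subgroup G) (U V : Subgroup G → AddSubgroup W) (Δ Z : Subgroup G')
    (A B : Subgroup G' → AddSubgroup W') (c : List X → W → W' → Prop) : Prop where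
  on : ∀ l : List X, On Y l ↔ On Z l
  zero : ∀ l, c l 0 0
  sub : ∀ l a a' b b', c l a a' → c l b b' → c l (a - b) (a' - b')
  anti : ∀ m l, Face m l → m ≠ [] → On Y l → ∀ a a', c m a a' → c l a a'
  eq1 : ∀ g ∈ Γ, ∃ g' ∈ Δ, (∀ l : List X, sm g l = sm g' l) ∧
    ∀ l, l ≠ [] → On Y l → ∀ a a', c l a a' → c (sm g l) (g • a) (g' • a')
  eq2 : ∀ g' ∈ Δ, ∃ g ∈ Γ, (∀ l : List X, sm g' l = sm g l) ∧
    ∀ l, l ≠ [] → On Y l → ∀ a a', c l a a' → c (sm g' l) (g • a) (g' • a')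
  ex1 : ∀ l, l ≠ [] → On Y l → ∀ a ∈ U (st Γ l), ∃ a' ∈ A (st Δ l), c l a a'
  ex2 : ∀ l, l ≠ [] → On Y l → ∀ a' ∈ A (st Δ l), ∃ a ∈ U (st Γ l), c l a a'
  iff : ∀ l, l ≠ [] → On Y l → ∀ a ∈ U (st Γ l), ∀ a' ∈ A (st Δ l), c l a a' →
    (a ∈ V (st Γ l) ↔ a' ∈ B (st Δ l))

omit hX hp in
theorem Corr.symm {c : List X → W → W' → Prop} (h : Corr Γ Y U V Δ Z A B c) :
    Corr Δ Z A B Γ Y U V fun l a' a => c l a a' where
  on l := (h.on l).symm
  zero := h.zero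
  sub l _ _ _ _ := h.sub l _ _ _ _
  anti m l a b e _ _ := h.anti m l a b ((h.on l).2 e) _ _
  eq1 g hg := (h.eq2 g hg).imp fun _ a => ⟨a.1, a.2.1, fun l b e _ _ => a.2.2 l b ((h.on l).2 e) _ _⟩
  eq2 g hg := (h.eq1 g hg).imp fun _ a => ⟨a.1, a.2.1, fun l b e _ _ => a.2.2 l b ((h.on l).2 e) _ _⟩
  ex1 l a b := h.ex2 l a ((h.on l).2 b)
  ex2 l a b := h.ex1 l a ((h.on l).2 b)
  iff l a b _ e _ k m := (h.iff l a ((h.on l).2 b) _ k _ e m).symm

omit hX hp in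
theorem Corr.d {c : List X → W → W' → Prop} (h : Corr Γ Y U V Δ Z A B c) {f' : List X → W'}
    (h0 : n = 0 → f [] = 0 ∧ f' [] = 0)
    (k : ∀ m, m.length = n → On Y m → m ≠ [] → c m (f m) (f' m)) {l : List X}
    (hl : l.length = n + 1) (ho : On Y l) : c l (d f l) (d f' l) := by
  let N : AddSubgroup (W × W') :=
    { carrier := {w | c l w.1 w.2}
      zero_mem' := h.zero l
      add_mem' := fun {a b} ha hb => by
        simpa using h.sub l _ _ _ _ ha (h.sub l _ _ _ _ (h.zero l) hb)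
      neg_mem' := fun {a} ha => by simpa using h.sub l _ _ _ _ (h.zero l) ha }
  have : Cx.d (fun m => (f m, f' m)) l ∈ N := d_mem fun m hm => by
    have e : m.length = n := by have := hm.length; omega
    by_cases q : m = []
    · subst q
      rw [(h0 e.symm).1, (h0 e.symm).2]; exact zero_mem _
    · exact h.anti m l hm q ho _ _ (k m e (ho.subset hm.subset) q)
  have e1 := d_map (AddMonoidHom.fst W W') (fun m => (f m, f' m)) l
  have e2 := d_map (AddMonoidHom.snd W W') (fun m => (f m, f' m)) l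
  exact (show _ = Cx.d f l from e1) ▸ (show _ = Cx.d f' l from e2) ▸ this

theorem Corr.coch {c : List X → W → W' → Prop} (h : Corr Γ Y U V Δ Z A B c) (hX' : Good p G' X)
    (hp' : Pair p Δ Z) (hs : Sys p Γ Y U V) (hs' : Sys p Δ Z A B) (hf : Coch Γ Y U V n f) :
    ∃ f', Coch Δ Z A B n f' ∧ ∀ m, m.length = n → On Y m → m ≠ [] → c m (f m) (f' m) := by
  rcases n with _ | n
  · exact ⟨fun _ => 0, coch_zero, fun m a _ b => absurd (List.length_eq_zero_iff.1 a) b⟩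
  have k : ∀ l : List X, ∃ a', l.length = n + 1 → On Y l → a' ∈ A (st Δ l) ∧ c l (f l) a' := fun l => by
    by_cases q : l.length = n + 1 ∧ On Y l
    · obtain ⟨a, b, e⟩ := h.ex1 l (ne_nil_of_length q.1) q.2 _ (hf.mem l q.1 q.2)
      exact ⟨a, fun _ _ => ⟨b, e⟩⟩
    · exact ⟨0, fun a b => absurd ⟨a, b⟩ q⟩
  choose f' hf' using k
  refine ⟨f', ⟨fun l a b => (hf' l a ((h.on l).2 b)).1, fun g' hg' l a b => ?_, fun e => by omega⟩,
    fun m a b _ => (hf' m a b).2⟩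
  obtain ⟨g, hg, e1, e2⟩ := h.eq2 g' hg'
  have b' := (h.on l).2 b
  have a2 := (sm_length g' l).trans a
  have b2 : On Y (sm g' l) := e1 l ▸ b'.sm hp hg
  have v := hf.eqv g hg l a b'
  rw [← e1] at v
  refine (h.iff _ (ne_nil_of_length a2) b2 _ (hs.le _ (hX.rel hp b2 (ne_nil_of_length a2)) v) _
    (sub_mem (hf' _ a2 b2).1 ?_) (h.sub _ _ _ _ _ (hf' _ a2 b2).2
      (e2 l (ne_nil_of_length a) b' _ _ (hf' l a b').2))).1 v
  rw [st_sm hg']
  exact hs'.eqU g' hg' _ (hX'.rel hp' b (ne_nil_of_length a)) _ (hf' l a b').1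

theorem Corr.van {c : List X → W → W' → Prop} (h : Corr Γ Y U V Δ Z A B c) (hX' : Good p G' X)
    (hp' : Pair p Δ Z) (hs : Sys p Γ Y U V) (hs' : Sys p Δ Z A B) (hv : Van X Δ Z A B n) :
    Van X Γ Y U V n := by
  intro f hf hc
  obtain ⟨f', a1, b1⟩ := h.coch hX hp hX' hp' hs hs' hf
  obtain ⟨e', a2, b2⟩ := hv f' a1 fun l a b =>
    (h.iff l (ne_nil_of_length a) ((h.on l).2 b) _ ((hf.d hX hp hs).mem l a ((h.on l).2 b)) _
      ((a1.d hX' hp' hs').mem l a b) (h.d (fun e => by omega) b1 a ((h.on l).2 b))).1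
      (hc l a ((h.on l).2 b))
  obtain ⟨e, a3, b3⟩ := h.symm.coch hX' hp' hX hp hs' hs a2
  refine ⟨e, a3, fun l a b => ?_⟩
  have b' := (h.on l).1 b
  exact (h.iff l (ne_nil_of_length a) b _ (sub_mem (hf.mem l a b) ((a3.d hX hp hs).mem l a b)) _
    (sub_mem (a1.mem l a b') ((a2.d hX' hp' hs').mem l a b'))
    (h.sub _ _ _ _ _ (b1 l a b (ne_nil_of_length a)) (h.d (fun k => ⟨a3.nil k, a2.nil k⟩)
      (fun m x y z => b3 m x ((h.on m).1 y) z) a b))).2 (b2 l a b')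

theorem van_theta (hX' : Good p G' X) (hp' : Pair p Δ Z) (hs : Sys p Γ Y U V) (hs' : Sys p Δ Z A B)
    (hY : ∀ x : X, On Y [x] ↔ On Z [x]) (θ : W →+ W')
    (h1 : ∀ g ∈ Γ, ∃ g' ∈ Δ, (∀ x : X, g • x = g' • x) ∧ ∀ w, θ (g • w) = g' • θ w)
    (h2 : ∀ g' ∈ Δ, ∃ g ∈ Γ, (∀ x : X, g • x = g' • x) ∧ ∀ w, θ (g • w) = g' • θ w)
    (h : ∀ l : List X, l ≠ [] → On Y l →
      Match θ (U (st Γ l)) (V (st Γ l)) (A (st Δ l)) (B (st Δ l))) :
    Van X Γ Y U V n ↔ Van X Δ Z A B n := by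
  have on : ∀ l : List X, On Y l ↔ On Z l := fun l => by
    rw [on_iff, on_iff (Y := Z)]; exact forall₂_congr fun x _ => hY x
  have eq : ∀ g ∈ Γ, ∀ g' ∈ Δ, (∀ x : X, g • x = g' • x) → (∀ w, θ (g • w) = g' • θ w) →
      (∀ l : List X, sm g l = sm g' l) ∧ ∀ l : List X, l ≠ [] → On Y l → ∀ a a',
        (∃ v ∈ V (st Γ l), θ (a - v) - a' ∈ B (st Δ l)) →
        ∃ v ∈ V (st Γ (sm g l)), θ (g • a - v) - g' • a' ∈ B (st Δ (sm g l)) := by
    intro g hg g' hg' e1 e2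
    have e : ∀ l : List X, sm g l = sm g' l := fun l => by simp [sm, e1]
    refine ⟨e, fun l a b w w' ⟨v, c, k⟩ => ⟨g • v, ?_, ?_⟩⟩
    · rw [st_sm hg]; exact hs.eqV g hg _ (hX.rel hp b a) _ c
    · rw [e, st_sm hg', ← smul_sub, e2, ← smul_sub]
      exact hs'.eqV g' hg' _ (hX'.rel hp' ((on l).1 b) a) _ k
  have k : Corr Γ Y U V Δ Z A B fun (l : List X) a a' =>
      ∃ v ∈ V (st Γ l), θ (a - v) - a' ∈ B (st Δ l) :=
    { on := on
      zero := fun l => ⟨0, zero_mem _, by simp⟩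
      sub := fun l a a' b b' ⟨v, x, y⟩ ⟨v', x', y'⟩ => ⟨v - v', sub_mem x x', by
        have := sub_mem y y'
        rwa [sub_sub_sub_comm, ← map_sub, sub_sub_sub_comm] at this⟩
      anti := fun m l q r o a a' ⟨v, x, y⟩ => by
        have r' : l ≠ [] := ne_nil_of_length q.length
        have o' := o.subset q.subset
        exact ⟨v, hs.antiV _ _ (hX.rel hp o r') (hX.rel hp o' r) (st_anti q.subset) x,
          hs'.antiV _ _ (hX'.rel hp' ((on l).1 o) r') (hX'.rel hp' ((on m).1 o') r)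
            (st_anti q.subset) y⟩
      eq1 := fun g hg => by
        obtain ⟨g', a, b, c⟩ := h1 g hg
        exact ⟨g', a, eq g hg g' a b c⟩
      eq2 := fun g' hg' => by
        obtain ⟨g, a, b, c⟩ := h2 g' hg'
        obtain ⟨e1, e2⟩ := eq g a g' hg' b c
        exact ⟨g, a, fun l => (e1 l).symm, fun l x y w w' z => e1 l ▸ e2 l x y w w' z⟩
      ex1 := fun l a b w hw => by
        obtain ⟨x, -⟩ | ⟨x, -, -⟩ := h l a b
        · exact ⟨0, zero_mem _, w, x hw, by simp⟩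
        · exact ⟨θ w, x w hw, 0, zero_mem _, by simp⟩
      ex2 := fun l a b w hw => by
        obtain ⟨-, x⟩ | ⟨-, x, -⟩ := h l a b
        · exact ⟨0, zero_mem _, 0, zero_mem _, by simpa using x hw⟩
        · obtain ⟨u, y, z⟩ := x w hw
          exact ⟨u, y, 0, zero_mem _, by simpa using neg_mem z⟩
      iff := fun l a b w hw w' hw' ⟨v, x, y⟩ => by
        obtain ⟨s, t⟩ | ⟨-, -, s⟩ := h l a b
        · exact ⟨fun _ => t hw', fun _ => s hw⟩
        have := s _ (sub_mem hw (hs.le _ (hX.rel hp b a) x))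
        exact ⟨fun q => by simpa using sub_mem (this.2 (sub_mem q x)) y,
          fun q => by simpa using add_mem (this.1 (by simpa using add_mem y q)) x⟩ }
  exact ⟨k.symm.van hX' hp' hX hp hs' hs, k.van hX hp hX' hp' hs hs'⟩

omit hX hp in
theorem st_map (φ : G' →* G) (hφ : ∀ (g : G') (x : X), φ g • x = g • x) (hΓ : Δ.map φ = Γ)
    (l : List X) : st Γ l = (st Δ l).map φ := by
  subst hΓ
  ext g
  exact ⟨fun ⟨⟨k, a, b⟩, c⟩ => ⟨k, ⟨a, fun x hx => by rw [← hφ, b, c x hx]⟩, b⟩,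
    fun ⟨k, a, b⟩ => ⟨⟨k, a.1, b⟩, fun x hx => by rw [← b, hφ, a.2 x hx]⟩⟩

end iso

/-- `θ` goes from the module of the target of `φ` to the module of the source. -/
theorem van_iso1 {G' W' : Type u} [Group G'] [MulAction G' X] [AddCommGroup W']
    [DistribMulAction G' W'] {Γ' Y' : Subgroup G'} {U' V' : Subgroup G' → AddSubgroup W'}
    (hX' : Good p G' X) (hp' : Pair p Γ' Y') (hs : Sys p Γ Y U V) (hs' : Sys p Γ' Y' U' V')
    (φ : G' →* G) (hφ : ∀ (g : G') (x : X), φ g • x = g • x) (hΓ : Γ'.map φ = Γ)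
    (hY : ∀ x : X, On Y [x] ↔ On Y' [x]) (θ : W →+ W') (hθ : ∀ g ∈ Γ', ∀ w, θ (φ g • w) = g • θ w)
    (h : ∀ P, Rel p Γ' Y' P → Match θ (U (P.map φ)) (V (P.map φ)) (U' P) (V' P)) :
    Van X Γ Y U V n ↔ Van X Γ' Y' U' V' n :=
  van_theta hX hp hX' hp' hs hs' hY θ
    (fun g hg => by
      obtain ⟨k, a, rfl⟩ := hΓ.ge hg
      exact ⟨k, a, hφ k, hθ k a⟩)
    (fun k a => ⟨φ k, hΓ.le ⟨k, a, rfl⟩, hφ k, hθ k a⟩) fun l a b => by
      rw [st_map φ hφ hΓ]
      exact h _ (hX'.rel hp' (on_iff.2 fun x hx => (hY x).1 (on_iff.1 b x hx)) a)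

/-- `θ` goes from the module of the source of `φ` to the module of the target. -/
theorem van_iso2 {G' W' : Type u} [Group G'] [MulAction G' X] [AddCommGroup W']
    [DistribMulAction G' W'] {Γ' Y' : Subgroup G'} {U' V' : Subgroup G' → AddSubgroup W'}
    (hX' : Good p G' X) (hp' : Pair p Γ' Y') (hs : Sys p Γ Y U V) (hs' : Sys p Γ' Y' U' V')
    (φ : G' →* G) (hφ : ∀ (g : G') (x : X), φ g • x = g • x) (hΓ : Γ'.map φ = Γ)
    (hY : ∀ x : X, On Y [x] ↔ On Y' [x]) (θ : W' →+ W) (hθ : ∀ g ∈ Γ', ∀ w, θ (g • w) = φ g • θ w)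
    (h : ∀ P, Rel p Γ' Y' P → Match θ (U' P) (V' P) (U (P.map φ)) (V (P.map φ))) :
    Van X Γ Y U V n ↔ Van X Γ' Y' U' V' n :=
  (van_theta hX' hp' hX hp hs' hs (fun x => (hY x).symm) θ
    (fun k a => ⟨φ k, hΓ.le ⟨k, a, rfl⟩, fun x => (hφ k x).symm, hθ k a⟩)
    (fun g hg => by
      obtain ⟨k, a, rfl⟩ := hΓ.ge hg
      exact ⟨k, a, fun x => (hφ k x).symm, hθ k a⟩)
    fun l a b => by
      rw [st_map φ hφ hΓ]
      exact h _ (hX'.rel hp' b a)).symm

/-- The same group, two modules. -/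
theorem van_iso {W' : Type u} [AddCommGroup W'] [DistribMulAction G W']
    {U' V' : Subgroup G → AddSubgroup W'} (hs : Sys p Γ Y U V) (hs' : Sys p Γ Y U' V')
    (θ : W →+ W') (hθ : ∀ g ∈ Γ, ∀ w, θ (g • w) = g • θ w)
    (h : ∀ P, Rel p Γ Y P → Match θ (U P) (V P) (U' P) (V' P)) :
    Van X Γ Y U V n ↔ Van X Γ Y U' V' n :=
  van_theta hX hp hX hp hs hs' (fun _ => Iff.rfl) θ (fun g a => ⟨g, a, fun _ => rfl, hθ g a⟩)
    (fun g a => ⟨g, a, fun _ => rfl, hθ g a⟩) fun _ a b => h _ (hX.rel hp b a)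

theorem van_congr (hs : Sys p Γ Y U V) (hs' : Sys p Γ Y U' V')
    (h : ∀ P, Rel p Γ Y P → (U P ≤ V P ∧ U' P ≤ V' P) ∨ (U P = U' P ∧ V P = V' P)) :
    Van X Γ Y U V n ↔ Van X Γ Y U' V' n :=
  van_iso hX hp hs hs' (AddMonoidHom.id W) (fun _ _ _ => rfl) fun P a => (h P a).imp_right
    fun ⟨e1, e2⟩ => ⟨fun _ b => e1 ▸ b, fun w b => ⟨w, e1 ▸ b, by simp⟩, fun _ _ => e2 ▸ Iff.rfl⟩

omit hX in
theorem Sys.le_cj (hs : Sys p Γ Y U V) {g : G} (hg : g ∈ Γ) (hP : Rel p Γ Y P) (h : U P ≤ V P) :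
    U (cj g P) ≤ V (cj g P) := fun w hw => by
  have := hs.eqU _ (inv_mem hg) _ (hP.cj hp hg) w hw
  rw [cj_inv_cj] at this
  simpa using hs.eqV g hg P hP _ (h this)

omit hX in
theorem Sys.le_cj_iff (hs : Sys p Γ Y U V) {g : G} (hg : g ∈ Γ) (hP : Rel p Γ Y P) :
    U (cj g P) ≤ V (cj g P) ↔ U P ≤ V P :=
  ⟨fun h => cj_inv_cj g P ▸ hs.le_cj hp (inv_mem hg) (hP.cj hp hg) h, hs.le_cj hp hg hP⟩

variable [Finite G] [Fact p.Prime]

omit [Fact p.Prime] in
/-- Filtration by a monotone invariant. -/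
theorem van_filt (hs : Sys p Γ Y U V) (τ : Subgroup G → ℕ)
    (h1 : ∀ P Q, Rel p Γ Y P → Rel p Γ Y Q → P ≤ Q → τ P ≤ τ Q)
    (h2 : ∀ g ∈ Γ, ∀ P, Rel p Γ Y P → τ (cj g P) = τ P)
    (h : ∀ j, Van X Γ Y (cut (fun P => j < τ P) U V) (cut (fun P => j ≤ τ P) U V) n) :
    Van X Γ Y U V n := by
  have up : ∀ j, Up p Γ Y fun P => j ≤ τ P := fun j =>
    ⟨fun P Q a b c e => e.trans (h1 P Q a b c), fun g hg P a e => (h2 g hg P a).symm ▸ e⟩
  have k : ∀ j, Van X Γ Y (cut (fun P => j ≤ τ P) U V) V n := fun j => by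
    induction j with
    | zero => exact van_zero hX hp (hs.cutL hp (up 0)) fun P _ => (cut_pos (Nat.zero_le _)).le
    | succ j ih =>
      exact van_ext hX hp (hs.cutL hp (up _)) (hs.cut2 hp (up j) (up (j + 1))
        fun _ _ => Nat.le_of_succ_le) (fun _ a => hs.le_cut a) ih (h j)
  obtain ⟨b, hb⟩ := (Set.finite_range τ).bddAbove
  have := k (b + 1)
  rwa [show cut (fun P => b + 1 ≤ τ P) U V = U from funext fun P => cut_neg (by
    have := hb ⟨P, rfl⟩; omega)] at this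

/-- Localisation along a conjugacy functor that is constant along inclusions in the support. -/
theorem cob_loc (hs : Sys p Γ Y U V) (J : Subgroup G → Subgroup G)
    (h1 : ∀ P, Rel p Γ Y P → ¬ U P ≤ V P → Y ≤ J P ∧ J P ≤ P)
    (h2 : ∀ g ∈ Γ, ∀ P, Rel p Γ Y P → ¬ U P ≤ V P → J (cj g P) = cj g (J P))
    (h3 : ∀ P Q, Rel p Γ Y P → Rel p Γ Y Q → ¬ U P ≤ V P → ¬ U Q ≤ V Q → J P ≤ Q → J Q = J P)
    (hf : Coch Γ Y U V (n + 1) f)
    (h : ∀ P, Rel p Γ Y P → ¬ U P ≤ V P → Cob (Γ ⊓ normalizer (J P : Set G)) (J P) U V n f) :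
    Cob Γ Y U V n f := by
  classical
  obtain ⟨r, t, r1, r2⟩ := exists_rep (fun g (E : Subgroup G) => cj g E) cj_one cj_cj Γ
  have k : ∀ E : Subgroup G, ∃ e : List X → W, ∀ P, Rel p Γ Y P → ¬ U P ≤ V P → J P = E →
      Coch (Γ ⊓ normalizer (E : Set G)) E U V n e ∧ ∀ l, l.length = n + 1 → On E l →
        f l - d e l ∈ V (st (Γ ⊓ normalizer (E : Set G)) l) := fun E => by
    by_cases c : ∃ P, Rel p Γ Y P ∧ ¬ U P ≤ V P ∧ J P = E
    · obtain ⟨P, a, b, rfl⟩ := c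
      obtain ⟨e, he⟩ := h P a b
      exact ⟨e, fun _ _ _ _ => he⟩
    · exact ⟨fun _ => 0, fun P a b e => absurd ⟨P, a, b, e⟩ c⟩
  choose ε hε using k
  have nor : ∀ P, Rel p Γ Y P → ¬ U P ≤ V P → ∀ g ∈ Γ, g ∈ normalizer (P : Set G) →
      g ∈ normalizer (J P : Set G) := fun P a b g hg e =>
    H98.cj_eq_self_iff.1 (by rw [← h2 g hg P a b, cj_eq_self e])
  have K1 : ∀ l : List X, l ≠ [] → On Y l → ¬ U (st Γ l) ≤ V (st Γ l) →
      st (Γ ⊓ normalizer (J (st Γ l) : Set G)) l = st Γ l := fun l a b c =>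
    le_antisymm (st_mono inf_le_left l) fun g hg =>
      ⟨⟨hg.1, nor _ (hX.rel hp b a) c g hg.1 (le_normalizer hg)⟩, hg.2⟩
  have K2 : ∀ P, Rel p Γ Y P → ¬ U P ≤ V P → ∀ l : List X, l ≠ [] → On (J P) l →
      U (st Γ l) ≤ V (st Γ l) → U (st (Γ ⊓ normalizer (J P : Set G)) l) ≤
        V (st (Γ ⊓ normalizer (J P : Set G)) l) := fun P a b l c e q => by
    by_contra s
    have le : J P ≤ st (Γ ⊓ normalizer (J P : Set G)) l :=
      (le_st (le_inf ((h1 P a b).2.trans a.le) le_normalizer)).2 e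
    have R : Rel p Γ Y (st (Γ ⊓ normalizer (J P : Set G)) l) :=
      ⟨(h1 P a b).1.trans le, (st_le _ _).trans inf_le_left, hX.isP _ c⟩
    obtain ⟨g, hg, n⟩ := SetLike.exists_of_lt (lt_inf_normalizer (hX.isP Γ c)
      (lt_of_le_of_ne (st_mono inf_le_left l) fun z => s (z ▸ q)))
    exact n ⟨⟨hg.1.1, h3 P _ a R b s le ▸ nor _ R s g hg.1.1 hg.2⟩, hg.1.2⟩
  have K3 : ∀ l : List X, l ≠ [] → On Y l → ¬ U (st Γ l) ≤ V (st Γ l) → ∀ g ∈ Γ,
      sm g l ≠ [] ∧ On Y (sm g l) ∧ ¬ U (st Γ (sm g l)) ≤ V (st Γ (sm g l)) ∧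
        J (st Γ (sm g l)) = cj g (J (st Γ l)) := fun l a b c g hg =>
    ⟨by simpa [sm] using a, b.sm hp hg, by rwa [st_sm hg, hs.le_cj_iff hp hg (hX.rel hp b a)],
      by rw [st_sm hg, h2 g hg _ (hX.rel hp b a) c]⟩
  have K4 : ∀ E, cj (t E)⁻¹ E = r E := fun E => by
    conv_lhs => rw [← (r1 E).2]
    rw [cj_cj, (r1 E).2, inv_mul_cancel, cj_one]
  have K5 : ∀ l : List X, l ≠ [] → On Y l → ¬ U (st Γ l) ≤ V (st Γ l) → On (J (st Γ l)) l :=
    fun l a b c => (on_st Γ l).mono (h1 _ (hX.rel hp b a) c).2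
  let e : List X → W := fun l => if l ≠ [] ∧ ¬ U (st Γ l) ≤ V (st Γ l) then
    t (J (st Γ l)) • ε (r (J (st Γ l))) (sm (t (J (st Γ l)))⁻¹ l) else 0
  have he : Coch Γ Y U V n e := by
    refine ⟨fun l a b => ?_, fun g hg l a b => ?_, fun _ => if_neg fun c => c.1 rfl⟩
    · simp only [e]
      split_ifs with c
      swap
      · exact zero_mem _
      have hg := (r1 (J (st Γ l))).1
      obtain ⟨x, y, z, w⟩ := K3 l c.1 b c.2 _ (inv_mem hg)
      rw [K4] at w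
      have := (hε _ _ (hX.rel hp y x) z w).1.mem _ ((sm_length _ _).trans a) (w ▸ K5 _ x y z)
      rw [← w, K1 _ x y z, w] at this
      have := hs.eqU _ hg _ (hX.rel hp y x) _ this
      rwa [← st_sm hg, sm_sm, mul_inv_cancel, sm_one] at this
    · by_cases c : l ≠ [] ∧ ¬ U (st Γ l) ≤ V (st Γ l)
      · obtain ⟨x, y, z, w⟩ := K3 l c.1 b c.2 g hg
        simp only [e]
        rw [if_pos c, if_pos ⟨x, z⟩, w, r2 g hg]
        have g1 := (r1 (J (st Γ l))).1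
        have g2 := (r1 (cj g (J (st Γ l)))).1
        obtain ⟨x1, y1, z1, w1⟩ := K3 l c.1 b c.2 _ (inv_mem g1)
        obtain ⟨x2, y2, z2, w2⟩ := K3 _ x y z _ (inv_mem g2)
        rw [K4] at w1
        rw [w, K4, r2 g hg] at w2
        have := (hε _ _ (hX.rel hp y1 x1) z1 w1).1.eqv
          ((t (cj g (J (st Γ l))))⁻¹ * g * t (J (st Γ l)))
          (mem_inf.2 ⟨mul_mem (mul_mem (inv_mem g2) hg) g1, H98.cj_eq_self_iff.1 (by
            rw [← cj_cj, ← cj_cj, (r1 _).2, K4, r2 g hg])⟩) _ ((sm_length _ _).trans a)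
          (w1 ▸ K5 _ x1 y1 z1)
        rw [sm_sm, mul_inv_cancel_right, ← sm_sm, ← w2, K1 _ x2 y2 z2, w2] at this
        have := hs.eqV _ g2 _ (hX.rel hp y2 x2) _ this
        rwa [← st_sm g2, sm_sm, mul_inv_cancel, sm_one, smul_sub, mul_smul, mul_smul,
          smul_inv_smul] at this
      · have c' : ¬ (sm g l ≠ [] ∧ ¬ U (st Γ (sm g l)) ≤ V (st Γ (sm g l))) := fun q => by
          obtain ⟨x, -, z, -⟩ := K3 _ q.1 (b.sm hp hg) q.2 _ (inv_mem hg)
          rw [sm_sm, inv_mul_cancel, sm_one] at x z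
          exact c ⟨x, z⟩
        simp only [e]
        rw [if_neg c, if_neg c', smul_zero, sub_zero]
        exact zero_mem _
  refine ⟨e, he, fun l a b => ?_⟩
  have a' := ne_nil_of_length a
  by_cases c : U (st Γ l) ≤ V (st Γ l)
  · exact c (sub_mem (hf.mem l a b) ((he.d hX hp hs).mem l a b))
  have hg := (r1 (J (st Γ l))).1
  obtain ⟨x, y, z, w⟩ := K3 l a' b c _ (inv_mem hg)
  rw [K4] at w
  obtain ⟨s1, s2⟩ := hε _ _ (hX.rel hp y x) z w
  have s3 := s2 _ ((sm_length _ _).trans a) (w ▸ K5 _ x y z)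
  rw [← w, K1 _ x y z, w] at s3
  have s4 := hs.eqV _ hg _ (hX.rel hp y x) _ s3
  have s5 := hf.eqv _ hg _ ((sm_length _ _).trans a) y
  rw [← st_sm hg] at s4
  rw [sm_sm, mul_inv_cancel, sm_one] at s4 s5
  have s6 : t (J (st Γ l)) • d (ε (r (J (st Γ l)))) (sm (t (J (st Γ l)))⁻¹ l) - d e l ∈
      V (st Γ l) := by
    rw [d_sm, d_smul]
    refine d_congr fun m hm => ?_
    have q : m.length = n := by have := hm.length; omega
    by_cases o : m = []
    · subst o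
      rw [sm_nil, s1.nil q.symm, he.nil q.symm, smul_zero, sub_zero]; exact zero_mem _
    have bm := b.subset hm.subset
    have Rm := hX.rel hp bm o
    by_cases c' : U (st Γ m) ≤ V (st Γ m)
    · simp only [e]
      rw [if_neg fun k => k.2 c', sub_zero]
      have o' : sm (t (J (st Γ l)))⁻¹ m ≠ [] := by simpa [sm] using o
      have on' := (w ▸ K5 _ x y z).subset (hm.sm (t (J (st Γ l)))⁻¹).subset
      have s7 := s1.mem _ ((sm_length _ _).trans q) on'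
      rw [← w] at s7 on'
      have s8 := K2 _ (hX.rel hp y x) z _ o' on'
        (by rw [st_sm (inv_mem hg)]; exact hs.le_cj hp (inv_mem hg) Rm c') s7
      have s9 := hs.antiV _ _ (hX.rel hp y x)
        ⟨(le_st (le_inf hp.le ?_)).2 (bm.sm hp (inv_mem hg)), (st_le _ _).trans inf_le_left,
          hX.isP _ o'⟩ ((K1 _ x y z).ge.trans (st_anti (hm.sm _).subset)) s8
      · have := hs.eqV _ hg _ (hX.rel hp y x) _ s9
        rwa [← st_sm hg, sm_sm, mul_inv_cancel, sm_one, w] at this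
      · exact (h1 _ (hX.rel hp y x) z).1.trans le_normalizer
    · simp only [e]
      rw [if_pos ⟨o, c'⟩, h3 _ _ (hX.rel hp b a') Rm c c'
        ((h1 _ (hX.rel hp b a') c).2.trans (st_anti hm.subset)), sub_self]
      exact zero_mem _
  have := add_mem (add_mem s5 s4) s6
  rwa [smul_sub, sub_add_sub_cancel, sub_add_sub_cancel] at this

theorem van_loc (hs : Sys p Γ Y U V) (J : Subgroup G → Subgroup G)
    (h1 : ∀ P, Rel p Γ Y P → ¬ U P ≤ V P → Y ≤ J P ∧ J P ≤ P)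
    (h2 : ∀ g ∈ Γ, ∀ P, Rel p Γ Y P → ¬ U P ≤ V P → J (cj g P) = cj g (J P))
    (h3 : ∀ P Q, Rel p Γ Y P → Rel p Γ Y Q → ¬ U P ≤ V P → ¬ U Q ≤ V Q → J P ≤ Q → J Q = J P)
    (h : ∀ P, Rel p Γ Y P → ¬ U P ≤ V P → Van X (Γ ⊓ normalizer (J P : Set G)) (J P) U V n) :
    Van X Γ Y U V n := fun f hf hc =>
  cob_loc hX hp hs J h1 h2 h3 hf fun P a b =>
    have k : J P ≤ Γ ⊓ normalizer (J P : Set G) := le_inf ((h1 P a b).2.trans a.le) le_normalizer
    h P a b f (hf.res hX hp hs inf_le_left (h1 P a b).1 k) (hc.res hX hp hs inf_le_left (h1 P a b).1 k)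

omit hX [Finite G] [Fact p.Prime] in
/-- An element of `Γ` permutes the fixed points of `Y`. -/
def onEquiv {g : G} (hg : g ∈ Γ) : {x : X // On Y [x]} ≃ {x : X // On Y [x]} where
  toFun x := ⟨g • x.1, x.2.sm hp hg⟩
  invFun x := ⟨g⁻¹ • x.1, x.2.sm hp (inv_mem hg)⟩
  left_inv x := Subtype.ext (inv_smul_smul g x.1)
  right_inv x := Subtype.ext (smul_inv_smul g x.1)

omit [Finite G] in
theorem exists_inv_card (e : ℕ) : ∃ m k : ℕ, m * Nat.card {x : X // On Y [x]} = 1 + k * p ^ e := by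
  have c : (Nat.card {x : X // On Y [x]}).Coprime (p ^ (e + 1)) :=
    (Nat.Coprime.pow_left _ ((Nat.Prime.coprime_iff_not_dvd Fact.out).2 (hX.card_on hp.isP))).symm
  obtain ⟨m, -, hm⟩ := Nat.exists_mul_mod_eq_one_of_coprime c
    (Nat.one_lt_pow (Nat.succ_ne_zero e) (Fact.out : p.Prime).one_lt)
  refine ⟨m, Nat.card {x : X // On Y [x]} * m / p ^ (e + 1) * p, ?_⟩
  have := Nat.mod_add_div (Nat.card {x : X // On Y [x]} * m) (p ^ (e + 1))
  rw [hm] at this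
  generalize Nat.card {x : X // On Y [x]} * m / p ^ (e + 1) = q at this ⊢
  rw [mul_comm m, ← this]
  ring

omit [Finite G] in
/-- The cone construction. -/
theorem van_cone {U₀ V₀ : AddSubgroup W} (h1 : ∀ g ∈ Γ, ∀ w ∈ U₀, g • w ∈ U₀)
    (h2 : ∀ g ∈ Γ, ∀ w ∈ V₀, g • w ∈ V₀) {e : ℕ} (h3 : ∀ w ∈ U₀, p ^ e • w ∈ V₀) :
    Van X Γ Y (FixMod U₀ V₀) (fun _ => V₀) (n + 1) := by
  intro f hf hc
  have := hX.fin
  have := Fintype.ofFinite {x : X // On Y [x]}
  obtain ⟨m, k, hm⟩ := exists_inv_card hX hp e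
  have eq : ∀ g ∈ Γ, ∀ l : List X, l.length = n + 1 → On Y l →
      m • ∑ y : {x : X // On Y [x]}, f (y :: sm g l) -
        g • m • ∑ y : {x : X // On Y [x]}, f (y :: l) ∈ V₀ := fun g hg l a b => by
    rw [smul_comm g m, ← smul_sub, ← (onEquiv hp hg).sum_comp, Finset.smul_sum,
      ← Finset.sum_sub_distrib]
    exact nsmul_mem (sum_mem fun (y : {x : X // On Y [x]}) _ =>
      hf.eqv g hg (y :: l) (by simp [a]) (on_cons.2 ⟨y.2, b⟩)) m
  refine ⟨fun l => m • ∑ y : {x : X // On Y [x]}, f (y :: l), ⟨fun l a b => ⟨nsmul_mem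
    (sum_mem fun (y : {x : X // On Y [x]}) _ =>
      (hf.mem (y :: l) (by simp [a]) (on_cons.2 ⟨y.2, b⟩)).1) m, fun g hg => ?_⟩,
    eq, fun e => by omega⟩, fun l a b => ?_⟩
  · have := neg_mem (eq g hg.1 l a b)
    rwa [sm_eq_self.2 hg.2, neg_sub] at this
  · have s : ∀ y : X, d (fun m => f (y :: m)) l = f l - d f (y :: l) := fun y => by
      rw [d_cons, sub_sub_cancel]
    rw [d_nsmul, d_sum]
    simp only [s]
    rw [Finset.sum_sub_distrib, Finset.sum_const, Finset.card_univ, ← Nat.card_eq_fintype_card,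
      smul_sub, ← mul_smul, hm, add_smul, one_smul, mul_smul]
    have := sub_mem (nsmul_mem (sum_mem (t := Finset.univ) fun (y : {x : X // On Y [x]}) _ =>
      hc (y :: l) (by simp [a]) (on_cons.2 ⟨y.2, b⟩)) m) (nsmul_mem (h3 _ (hf.mem l a b).1) k)
    convert this using 1
    abel

omit [Finite G] in
theorem van_fix (h : Mod p Γ D) : Van X Γ Y (Fix D) (fun _ => ⊥) (n + 1) := by
  obtain ⟨e, he⟩ := h.exp
  exact fixMod_bot (G := G) D ▸ van_cone hX hp h.inv (fun g _ w hw => by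
    rw [AddSubgroup.mem_bot.1 hw, smul_zero]; exact zero_mem _) fun w hw =>
      AddSubgroup.mem_bot.2 (he w hw)

omit [Finite G] in
/-- Degree one. -/
theorem cob_one (h : Mod p Γ D) (hC : Up p Γ Y C) (hf : Coch Γ Y (FU D C) (fun _ => ⊥) 2 f)
    (hc : Cyc Γ Y (fun _ => ⊥) 1 f)
    (k : ∀ F : X → W, Eqv Γ Y D C F → (∀ x y, On Y [x, y] → f [x, y] = F y - F x) →
      Const Γ Y D C F) : Cob Γ Y (FU D C) (fun _ => ⊥) 1 f := by
  obtain ⟨e, a, b⟩ := van_fix hX hp h (n := 0) f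
    ⟨fun l x y => FU_le D C _ (hf.mem l x y), hf.eqv, hf.nil⟩ hc
  have q : ∀ x y, On Y [x, y] → f [x, y] = e [y] - e [x] := fun x y o =>
    (sub_eq_zero.1 (AddSubgroup.mem_bot.1 (b [x, y] rfl o))).trans (d_two e x y)
  obtain ⟨c, c1, c2⟩ := k (fun x => e [x]) ⟨fun x o => (a.mem [x] rfl o).1, fun g hg x o =>
    sub_eq_zero.1 (AddSubgroup.mem_bot.1 (a.eqv g hg [x] rfl o)), fun x y o s => by
      have := hf.mem [x, y] rfl o
      rw [FU_pos s, q x y o] at this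
      exact (sub_eq_zero.1 (AddSubgroup.mem_bot.1 this)).symm⟩ q
  refine ⟨fun l => e l - c, ⟨fun l x y => ?_, fun g hg l x y => ?_, fun e => by omega⟩,
    fun l x y => ?_⟩
  · obtain ⟨z, rfl⟩ := List.length_eq_one_iff.1 x
    by_cases s : C (st Γ [z])
    · rw [show e [z] = c from c2 z y s, sub_self]; exact zero_mem _
    · rw [FU_neg s]
      exact sub_mem (a.mem [z] rfl y) ⟨c1.1, fun g hg => c1.2 g hg.1⟩
  · rw [smul_sub, c1.2 g hg, sub_sub_sub_cancel_right]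
    exact a.eqv g hg l x y
  · obtain ⟨x', z, rfl⟩ := List.length_eq_two.1 x
    rw [d_two, sub_sub_sub_cancel_right, q x' z y, sub_self]
    exact zero_mem _

omit [Finite G] in
theorem van_one (h : Mod p Γ D) (hC : Up p Γ Y C)
    (k : ∀ F : X → W, Eqv Γ Y D C F → Const Γ Y D C F) : Van X Γ Y (FU D C) (fun _ => ⊥) 1 :=
  fun _ hf hc => cob_one hX hp h hC hf hc fun F a _ => k F a

end H24.Cx
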