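import Cfsg.Agent.H24.CxSpec

/-! Tower CX, kit part 1: lists, families of subgroups, coefficient systems. -/

set_option autoImplicit false

namespace H24.Cx

open Subgroup Cfsg H98

universe u

section lists
variable {X W W' : Type u} [AddCommGroup W] [AddCommGroup W']

theorem d_nil (f : List X → W) : d f [] = 0 := rfl

theorem d_cons (f : List X → W) (x : X) (l : List X) :
    d f (x :: l) = f l - d (fun m => f (x :: m)) l := rfl

theorem d_add (f g : List X → W) (l : List X) : d (fun m => f m + g m) l = d f l + d g l := by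
  induction l generalizing f g with
  | nil => simp [d_nil]
  | cons x l ih => simp only [d_cons, ih]; abel

theorem d_sub (f g : List X → W) (l : List X) : d (fun m => f m - g m) l = d f l - d g l := by
  induction l generalizing f g with
  | nil => simp [d_nil]
  | cons x l ih => simp only [d_cons, ih]; abel

theorem d_map (θ : W →+ W') (f : List X → W) (l : List X) : θ (d f l) = d (fun m => θ (f m)) l := by
  induction l generalizing f with
  | nil => simp [d_nil]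
  | cons x l ih => simp only [d_cons, map_sub, ih]

theorem d_mem {N : AddSubgroup W} {f : List X → W} {l : List X} (h : ∀ m, Face m l → f m ∈ N) :
    d f l ∈ N := by
  induction l generalizing f with
  | nil => exact zero_mem _
  | cons x l ih => exact sub_mem (h _ (Face.head x l)) (ih fun m hm => h _ (hm.cons x))

theorem dd (f : List X → W) (l : List X) : d (d f) l = 0 := by
  induction l generalizing f with
  | nil => rfl
  | cons x l ih => simp only [d_cons, d_sub, ih]; abel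

theorem d_one (f : List X → W) (x : X) : d f [x] = f [] := by simp [d_cons, d_nil]

theorem d_two (f : List X → W) (x y : X) : d f [x, y] = f [y] - f [x] := by simp [d_cons, d_nil]

theorem d_three (f : List X → W) (x y z : X) : d f [x, y, z] = f [y, z] - f [x, z] + f [x, y] := by
  simp only [d_cons, d_nil]; abel

theorem d_sum {ι : Type*} (s : Finset ι) (f : ι → List X → W) (l : List X) :
    d (fun m => ∑ i ∈ s, f i m) l = ∑ i ∈ s, d (f i) l := by
  induction l generalizing f with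
  | nil => simp [d_nil]
  | cons x l ih => simp only [d_cons, ih, Finset.sum_sub_distrib]

theorem d_nsmul (k : ℕ) (f : List X → W) (l : List X) : d (fun m => k • f m) l = k • d f l :=
  (d_map (nsmulAddMonoidHom k) f l).symm

theorem Face.length {m l : List X} (h : Face m l) : l.length = m.length + 1 := by
  induction h with
  | head => rfl
  | cons x _ ih => simp [ih]

theorem Face.subset {m l : List X} (h : Face m l) : ∀ x ∈ m, x ∈ l := by
  induction h with
  | head => exact fun y hy => List.mem_cons_of_mem _ hy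
  | cons x _ ih =>
    intro y hy
    rcases List.mem_cons.1 hy with rfl | hy
    · exact List.mem_cons_self
    · exact List.mem_cons_of_mem _ (ih y hy)

theorem d_congr {N : AddSubgroup W} {f g : List X → W} {l : List X}
    (h : ∀ m, Face m l → f m - g m ∈ N) : d f l - d g l ∈ N := d_sub f g l ▸ d_mem h

end lists

variable {p : ℕ} {G : Type u} [Group G] {Γ Γ' Y Y' P Q E S : Subgroup G}
  {C C' : Subgroup G → Prop}

theorem Rel.cj (hp : Pair p Γ Y) (h : Rel p Γ Y P) {g : G} (hg : g ∈ Γ) : Rel p Γ Y (cj g P) :=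
  ⟨(cj_eq_self (hp.nor hg)).ge.trans (cj_mono g h.ge), cj_le_of_le_of_mem h.le hg,
    isPGroup_cj g h.isP⟩

theorem Rel.pair (h : Rel p Γ Y E) : Pair p (Γ ⊓ normalizer (E : Set G)) E :=
  ⟨h.isP, le_inf h.le le_normalizer, inf_le_right⟩

theorem Rel.of_loc (hE : Rel p Γ Y E) (h : Rel p (Γ ⊓ normalizer (E : Set G)) E P) : Rel p Γ Y P :=
  ⟨hE.ge.trans h.ge, h.le.trans inf_le_left, h.isP⟩

theorem Rel.res (h : Rel p Γ' Y' P) (h1 : Γ' ≤ Γ) (h2 : Y ≤ Y') : Rel p Γ Y P :=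
  ⟨h2.trans h.ge, h.le.trans h1, h.isP⟩

theorem Pair.rel (hp : Pair p Γ Y) : Rel p Γ Y Y := ⟨le_rfl, hp.le, hp.isP⟩

theorem Up.inv' (hp : Pair p Γ Y) (h : Up p Γ Y C) {g : G} (hg : g ∈ Γ) (hP : Rel p Γ Y P) :
    C (cj g P) ↔ C P :=
  ⟨fun k => cj_inv_cj g P ▸ h.inv _ (inv_mem hg) _ (hP.cj hp hg) k, h.inv g hg P hP⟩

theorem Up.res (h : Up p Γ Y C) (h1 : Γ' ≤ Γ) (h2 : Y ≤ Y') : Up p Γ' Y' C :=
  ⟨fun P Q a b => h.mono P Q (a.res h1 h2) (b.res h1 h2),
    fun g hg P a => h.inv g (h1 hg) P (a.res h1 h2)⟩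

theorem up_true : Up p Γ Y fun _ => True := ⟨fun _ _ _ _ _ a => a, fun _ _ _ _ a => a⟩

theorem up_false : Up p Γ Y fun _ => False := ⟨fun _ _ _ _ _ a => a, fun _ _ _ _ a => a⟩

theorem le_JJ (C : Subgroup G → Prop) (Y P : Subgroup G) : Y ≤ JJ C Y P := le_sup_left

theorem le_JJ' {A : Subgroup G} (h : C A) (h' : A ≤ P) (Y : Subgroup G) : A ≤ JJ C Y P :=
  le_sup_of_le_right (le_sSup ⟨h, h'⟩)

theorem JJ_le_iff : JJ C Y P ≤ Q ↔ Y ≤ Q ∧ ∀ A, C A → A ≤ P → A ≤ Q := by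
  simp [JJ]

theorem JJ_le (h : Y ≤ P) : JJ C Y P ≤ P := JJ_le_iff.2 ⟨h, fun _ _ a => a⟩

theorem JJ_mono (h : P ≤ Q) : JJ C Y P ≤ JJ C Y Q :=
  JJ_le_iff.2 ⟨le_JJ _ _ _, fun _ a b => le_JJ' a (b.trans h) _⟩

theorem JJ_JJ (h : Y ≤ P) : JJ C Y (JJ C Y P) = JJ C Y P :=
  le_antisymm (JJ_mono (JJ_le h)) (JJ_le_iff.2 ⟨le_JJ _ _ _, fun _ a b => le_JJ' a (le_JJ' a b _) _⟩)

theorem cj_JJ_le (hp : Pair p Γ Y) (h : Inv Γ C) {g : G} (hg : g ∈ Γ) (P : Subgroup G) :
    cj g (JJ C Y P) ≤ JJ C Y (cj g P) :=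
  cj_le_iff.2 (JJ_le_iff.2 ⟨cj_le_iff.1 ((cj_eq_self (hp.nor hg)).le.trans (le_JJ _ _ _)),
    fun A a b => cj_le_iff.1 (le_JJ' (h g hg A a) (cj_mono g b) _)⟩)

theorem JJ_cj (hp : Pair p Γ Y) (h : Inv Γ C) {g : G} (hg : g ∈ Γ) (P : Subgroup G) :
    JJ C Y (cj g P) = cj g (JJ C Y P) := by
  refine le_antisymm (le_cj_iff.2 ?_) (cj_JJ_le hp h hg P)
  have := cj_JJ_le hp h (inv_mem hg) (cj g P)
  rwa [cj_inv_cj] at this

theorem JJ_base (h1 : Y ≤ E) (h2 : JJ C Y E = E) (h3 : E ≤ P) : JJ C E P = JJ C Y P :=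
  le_antisymm (JJ_le_iff.2 ⟨h2.ge.trans (JJ_mono h3), fun _ a b => le_JJ' a b _⟩)
    (JJ_le_iff.2 ⟨h1.trans (le_JJ _ _ _), fun _ a b => le_JJ' a b _⟩)

theorem Rel.JJ (h : Rel p Γ Y P) (C : Subgroup G → Prop) : Rel p Γ Y (JJ C Y P) :=
  ⟨le_JJ _ _ _, (JJ_le h.ge).trans h.le, h.isP.to_le (JJ_le h.ge)⟩

theorem up_QJ (hp : Pair p Γ Y) (h : Inv Γ C) : Up p Γ Y (QJ C Y) :=
  ⟨fun _ _ _ _ e a b => a ((JJ_mono e).trans b), fun g hg P _ a b => a (by
    rwa [JJ_cj hp h hg, cj_le_iff, cj_eq_self (hp.nor (inv_mem hg))] at b)⟩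

theorem Inv.mono (h : Inv Γ C) (h1 : Γ' ≤ Γ) : Inv Γ' C := fun g hg => h g (h1 hg)

theorem mem_of_not_dvd [Finite G] [Fact p.Prime] {K : Subgroup G}
    (hn : K ≤ normalizer ((P ⊓ K : Subgroup G) : Set G)) (h : ¬ p ∣ (P ⊓ K).relIndex K) {g : G}
    (hg : g ∈ K) (hp : IsPGroup p (zpowers g)) : g ∈ P := by
  have : ((P ⊓ K).subgroupOf K).Normal := (normal_subgroupOf_iff_le_normalizer inf_le_right).2 hn
  obtain ⟨k, hk⟩ := isPGroup_iff_forall.1 hp g (mem_zpowers g)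
  have h1 : (⟨g, hg⟩ : K) ^ ((P ⊓ K).subgroupOf K).index ∈ (P ⊓ K).subgroupOf K :=
    pow_index_mem _ _
  have h2 : g ^ (P ⊓ K).relIndex K ∈ P := (mem_subgroupOf.1 h1).1
  have c : ((P ⊓ K).relIndex K).Coprime (orderOf g) :=
    Nat.Coprime.coprime_dvd_right (orderOf_dvd_of_pow_eq_one hk)
      (Nat.Coprime.pow_right k ((Nat.Prime.coprime_iff_not_dvd Fact.out).2 h).symm)
  obtain ⟨m, hm⟩ := exists_pow_eq_self_of_coprime c
  exact hm ▸ pow_mem h2 m

theorem dvd_relIndex_nor [Finite G] [Fact p.Prime] {K : Subgroup G} (hP : IsPGroup p P)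
    (hn : P ≤ normalizer (K : Set G)) (h : p ∣ (P ⊓ K).relIndex K) :
    p ∣ (P ⊓ (K ⊓ normalizer (P : Set G))).relIndex (K ⊓ normalizer (P : Set G)) := by
  by_contra r
  obtain ⟨T, hT, PT⟩ := exists_isSyl_le hP (le_sup_left : P ≤ P ⊔ K)
  have hs : IsSyl p (T ⊓ K) K :=
    hT.inf_of_le_normalizer le_sup_right (hT.le.trans (sup_le hn le_normalizer))
  have ne : P ≠ T := fun e => hs.not_dvd_relIndex (e ▸ h)
  obtain ⟨g, hg, gP⟩ := SetLike.exists_of_lt (lt_inf_normalizer hT.isPGroup (lt_of_le_of_ne PT ne))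
  obtain ⟨a, ha, k, hk, rfl⟩ := (mem_sup_left_norm hn).1 (hT.le hg.1)
  have kN : k ∈ normalizer (P : Set G) := (mul_mem_cancel_left (le_normalizer ha)).1 hg.2
  refine gP (mul_mem ha (mem_of_not_dvd (K := K ⊓ normalizer (P : Set G)) (le_normalizer_inf
    inf_le_right le_normalizer) r ⟨hk, kN⟩ (hT.isPGroup.to_le (zpowers_le_of_mem
      ((mul_mem_cancel_left (PT ha)).1 hg.1)))))

variable {X : Type u} [MulAction G X]

theorem mem_st {g : G} {l : List X} : g ∈ st Γ l ↔ g ∈ Γ ∧ ∀ x ∈ l, g • x = x := Iff.rfl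

theorem st_anti {m l : List X} (h : ∀ x ∈ m, x ∈ l) : st Γ l ≤ st Γ m :=
  fun _ a => ⟨a.1, fun x hx => a.2 x (h x hx)⟩

theorem st_mono (h : Γ' ≤ Γ) (l : List X) : st Γ' l ≤ st Γ l := fun _ a => ⟨h a.1, a.2⟩

theorem st_le (Γ : Subgroup G) (l : List X) : st Γ l ≤ Γ := fun _ a => a.1

theorem sm_one (l : List X) : sm (1 : G) l = l := by simp [sm]

theorem sm_sm (g h : G) (l : List X) : sm g (sm h l) = sm (g * h) l := by simp [sm, mul_smul]

theorem sm_length (g : G) (l : List X) : (sm g l).length = l.length := by simp [sm]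

theorem sm_cons (g : G) (x : X) (l : List X) : sm g (x :: l) = g • x :: sm g l := rfl

theorem sm_nil (g : G) : sm g ([] : List X) = [] := rfl

theorem sm_eq_self {g : G} {l : List X} : sm g l = l ↔ ∀ x ∈ l, g • x = x := by
  induction l with
  | nil => simp [sm]
  | cons x l ih => simp [sm_cons, ih]

theorem st_sm {g : G} (hg : g ∈ Γ) (l : List X) : st Γ (sm g l) = cj g (st Γ l) := by
  ext k
  rw [mem_cj, mem_st, mem_st, mul_mem_cancel_right hg, mul_mem_cancel_left (inv_mem hg)]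
  simp [sm, mul_smul, inv_smul_eq_iff]

theorem le_st {l : List X} (h : P ≤ Γ) : P ≤ st Γ l ↔ On P l :=
  ⟨fun a y hy => (a hy).2, fun a y hy => ⟨h hy, a y hy⟩⟩

theorem on_st (Γ : Subgroup G) (l : List X) : On (st Γ l) l := fun _ a => a.2

theorem On.mono {l : List X} (h : On Y' l) (h' : Y ≤ Y') : On Y l := fun y hy => h y (h' hy)

theorem On.subset {m l : List X} (h : On Y l) (h' : ∀ x ∈ m, x ∈ l) : On Y m :=
  fun y hy x hx => h y hy x (h' x hx)

theorem on_iff {l : List X} : On Y l ↔ ∀ x ∈ l, On Y [x] := by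
  simp only [On, List.mem_singleton, forall_eq]
  exact ⟨fun a x hx y hy => a y hy x hx, fun a y hy x hx => a x hx y hy⟩

theorem on_one {x : X} : On Y [x] ↔ ∀ y ∈ Y, y • x = x := by simp [On]

theorem on_cons {x : X} {l : List X} : On Y (x :: l) ↔ On Y [x] ∧ On Y l := by
  rw [on_iff, List.forall_mem_cons, ← on_iff]

theorem On.cj {l : List X} (h : On P l) (g : G) : On (cj g P) (sm g l) := by
  intro y hy x hx
  obtain ⟨x, hx', rfl⟩ := List.mem_map.1 hx
  have := h _ (mem_cj.1 hy) x hx'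
  rwa [mul_smul, mul_smul, inv_smul_eq_iff] at this

theorem On.sm (hp : Pair p Γ Y) {g : G} (hg : g ∈ Γ) {l : List X} (h : On Y l) : On Y (sm g l) :=
  cj_eq_self (hp.nor hg) ▸ h.cj g

theorem Good.isP (hX : Good p G X) (Γ : Subgroup G) {l : List X} (h' : l ≠ []) :
    IsPGroup p (st Γ l) := by
  obtain ⟨x, hx⟩ := List.exists_mem_of_ne_nil l h'
  exact (hX.stab x).to_le fun g hg => hg.2 x hx

theorem Good.rel (hX : Good p G X) (hp : Pair p Γ Y) {l : List X} (h : On Y l) (h' : l ≠ []) :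
    Rel p Γ Y (st Γ l) := ⟨(le_st hp.le).2 h, st_le _ _, hX.isP Γ h'⟩

theorem Good.card_on [Fact p.Prime] (hX : Good p G X) (hP : IsPGroup p P) :
    ¬ p ∣ Nat.card {x : X // On P [x]} := by
  have := hX.fin
  have e := hP.card_modEq_card_fixedPoints X
  have e2 : Nat.card (MulAction.fixedPoints P X) = Nat.card {x : X // On P [x]} :=
    Nat.card_congr (Equiv.subtypeEquivRight fun x => by
      rw [on_one, MulAction.mem_fixedPoints]
      exact ⟨fun a y hy => a ⟨y, hy⟩, fun a y => a y y.2⟩)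
  exact fun k => hX.card ((e.dvd_iff dvd_rfl).2 (e2 ▸ k))

theorem Good.exists_on [Fact p.Prime] (hX : Good p G X) (hP : IsPGroup p P) :
    ∃ x : X, On P [x] := by
  by_contra r
  have : IsEmpty {x : X // On P [x]} := ⟨fun x => r ⟨x, x.2⟩⟩
  exact hX.card_on hP (by simp)

theorem Good.subgroup (hX : Good p G X) (N : Subgroup G) : Good p N X :=
  ⟨hX.fin, fun x => (hX.stab x).comap_of_injective N.subtype N.subtype_injective, hX.card⟩

variable {W : Type u} [AddCommGroup W] [DistribMulAction G W]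
  {U U' V V' : Subgroup G → AddSubgroup W} {D : AddSubgroup W} {n : ℕ} {f : List X → W}

omit [DistribMulAction G W] in
theorem d_sm (g : G) (f : List X → W) (l : List X) :
    d f (sm g l) = d (fun m => f (sm g m)) l := by
  induction l generalizing f with
  | nil => rfl
  | cons x l ih => simp only [sm_cons, d_cons, ih]

theorem d_smul (g : G) (f : List X → W) (l : List X) : g • d f l = d (fun m => g • f m) l :=
  d_map (DistribSMul.toAddMonoidHom W g) f l

omit [DistribMulAction G W] in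
theorem cut_pos (h : C P) : cut C U V P = V P := if_pos h

omit [DistribMulAction G W] in
theorem cut_neg (h : ¬ C P) : cut C U V P = U P := if_neg h

theorem FU_pos (h : C P) : FU D C P = ⊥ := cut_pos h

theorem FU_neg (h : ¬ C P) : FU D C P = Fix D P := cut_neg h

theorem FU_false : FU D (fun _ : Subgroup G => False) = Fix D := funext fun _ => FU_neg not_false

theorem FU_true : FU D (fun _ : Subgroup G => True) = fun _ => ⊥ := funext fun _ => FU_pos trivial

theorem mem_Fix {w : W} : w ∈ Fix D P ↔ w ∈ D ∧ ∀ g ∈ P, g • w = w := Iff.rfl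

theorem mem_FixMod {U₀ V₀ : AddSubgroup W} {w : W} :
    w ∈ FixMod U₀ V₀ P ↔ w ∈ U₀ ∧ ∀ g ∈ P, g • w - w ∈ V₀ := Iff.rfl

theorem fixMod_bot (D : AddSubgroup W) : (FixMod D ⊥ : Subgroup G → AddSubgroup W) = Fix D := by
  ext P w
  simp [mem_Fix, mem_FixMod, sub_eq_zero]

theorem FU_le (D : AddSubgroup W) (C : Subgroup G → Prop) (P : Subgroup G) : FU D C P ≤ Fix D P := by
  by_cases h : C P
  · rw [FU_pos h]; exact bot_le
  · rw [FU_neg h]

theorem Mod.mono (h : Mod p Γ D) (h1 : Γ' ≤ Γ) : Mod p Γ' D := ⟨h.fin, fun g hg => h.inv g (h1 hg), h.exp⟩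

theorem Mod.smul_fix (h : Mod p Γ D) {g : G} (hg : g ∈ Γ) {w : W} (hw : w ∈ Fix D P) :
    g • w ∈ Fix D (cj g P) := ⟨h.inv g hg w hw.1, fun k hk => by
  have := hw.2 _ (mem_cj.1 hk)
  rwa [mul_smul, mul_smul, inv_smul_eq_iff] at this⟩

theorem Mod.fix (h : Mod p Γ D) (E : Subgroup G) :
    Mod p (Γ ⊓ normalizer (E : Set G)) (Fix D E) :=
  ⟨have := h.fin; Finite.of_injective _
      (AddSubgroup.inclusion_injective (show Fix D E ≤ D from fun _ a => a.1)),
    fun g hg w hw => cj_eq_self hg.2 ▸ h.smul_fix hg.1 hw, h.exp.imp fun _ a w hw => a w hw.1⟩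

theorem Mod.inv_NP (h : Mod p Γ D) : Inv Γ (NP p D) := by
  intro g hg A hA B hB e w hw h0 a ha
  have := hA (cj g⁻¹ B) (cj_le_iff.2 (by rwa [inv_inv])) (by
    rw [← e]
    conv_rhs => rw [← cj_cj_inv g B]
    exact (relIndex_map_map_of_injective _ _ (MulAut.conj g).injective).symm) _ (h.smul_fix (inv_mem hg) hw)
    (by rw [smul_comm, h0, smul_zero]) _ (mem_cj.1 ha)
  rw [← smul_zero g, ← this, Finset.smul_sum]
  refine Finset.sum_congr rfl fun i _ => ?_
  rw [← mul_smul, ← mul_smul, show g⁻¹ * a * g = g⁻¹ * a * g⁻¹⁻¹ by rw [inv_inv], conj_pow]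
  congr 1
  group

theorem IsTv.conj (h : Mod p Γ D) {g t : G} {v : W} (hg : g ∈ Γ) (ht : IsTv D t v) :
    IsTv D (g * t * g⁻¹) (g • v) := by
  refine ⟨h.inv g hg v ht.mem, fun e => ht.ne ((smul_eq_zero_iff_eq g).1 e), fun w hw => ?_, ?_⟩
  · refine (ht.act _ (h.inv _ (inv_mem hg) w hw)).imp (fun e => ?_) fun e => ?_
    · rw [mul_smul, mul_smul, e, smul_inv_smul]
    · rw [mul_smul, mul_smul, e, smul_add, smul_inv_smul]
  · obtain ⟨w, a, b, c⟩ := ht.ex
    refine ⟨g • w, h.inv g hg w a, by rw [← smul_add, b, smul_zero], fun e => c ?_⟩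
    rwa [mul_smul, inv_smul_smul, mul_smul, smul_left_cancel_iff] at e

theorem Mod.inv_AP (h : Mod p Γ D) : Inv Γ (AP p D) := by
  rintro g hg A (a | ⟨e, t, v, a, rfl⟩)
  · exact Or.inl (h.inv_NP g hg A a)
  · exact Or.inr ⟨e, _, _, a.conj h hg, MonoidHom.map_zpowers _ t⟩

theorem Sys.res (h : Sys p Γ Y U V) (h1 : Γ' ≤ Γ) (h2 : Y ≤ Y') : Sys p Γ' Y' U V :=
  ⟨fun P a => h.le P (a.res h1 h2), fun P Q a b => h.antiU P Q (a.res h1 h2) (b.res h1 h2),
    fun P Q a b => h.antiV P Q (a.res h1 h2) (b.res h1 h2),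
    fun g hg P a => h.eqU g (h1 hg) P (a.res h1 h2), fun g hg P a => h.eqV g (h1 hg) P (a.res h1 h2),
    fun P a => h.triv P (a.res h1 h2)⟩

theorem Sys.mid (h : Sys p Γ Y U V) (h' : Sys p Γ Y U U') (e : ∀ P, Rel p Γ Y P → V P ≤ U' P) :
    Sys p Γ Y U' V :=
  ⟨e, h'.antiV, h.antiV, h'.eqV, h.eqV, fun P a g hg w hw => h.triv P a g hg w (h'.le P a hw)⟩

theorem Sys.le_cut (h : Sys p Γ Y U V) (hP : Rel p Γ Y P) : V P ≤ cut C U V P := by
  by_cases c : C P
  · rw [cut_pos c]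
  · rw [cut_neg c]; exact h.le P hP

theorem Sys.cut_le (h : Sys p Γ Y U V) (hP : Rel p Γ Y P) : cut C U V P ≤ U P := by
  by_cases c : C P
  · rw [cut_pos c]; exact h.le P hP
  · rw [cut_neg c]

theorem Sys.cutR (hp : Pair p Γ Y) (h : Sys p Γ Y U V) (hC : Up p Γ Y C) :
    Sys p Γ Y U (cut C U V) := by
  refine ⟨fun P a => h.cut_le a, h.antiU, fun P Q a b e => ?_, h.eqU, fun g hg P a w hw => ?_,
    fun P a g hg w hw => h.le_cut a (h.triv P a g hg w hw)⟩
  · by_cases c : C P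
    · rw [cut_pos c, cut_pos (hC.mono P Q a b e c)]; exact h.antiV P Q a b e
    · rw [cut_neg c]; exact (h.cut_le b).trans (h.antiU P Q a b e)
  · by_cases c : C P
    · rw [cut_pos c] at hw
      exact h.le_cut (a.cj hp hg) (h.eqV g hg P a w hw)
    · rw [cut_neg c] at hw
      rw [cut_neg fun k => c ((hC.inv' hp hg a).1 k)]
      exact h.eqU g hg P a w hw

theorem Sys.cutL (hp : Pair p Γ Y) (h : Sys p Γ Y U V) (hC : Up p Γ Y C) :
    Sys p Γ Y (cut C U V) V := h.mid (h.cutR hp hC) fun _ a => h.le_cut a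

theorem Sys.cut2 (hp : Pair p Γ Y) (h : Sys p Γ Y U V) (hC : Up p Γ Y C) (hC' : Up p Γ Y C')
    (e : ∀ P, Rel p Γ Y P → C' P → C P) : Sys p Γ Y (cut C' U V) (cut C U V) :=
  (h.cutR hp hC).mid (h.cutR hp hC') fun P a => by
    by_cases c : C P
    · rw [cut_pos c]; exact h.le_cut a
    · rw [cut_neg c, cut_neg fun k => c (e P a k)]

theorem sys_fixMod {U₀ V₀ : AddSubgroup W} (h0 : V₀ ≤ U₀) (h1 : ∀ g ∈ Γ, ∀ w ∈ U₀, g • w ∈ U₀)
    (h2 : ∀ g ∈ Γ, ∀ w ∈ V₀, g • w ∈ V₀) : Sys p Γ Y (FixMod U₀ V₀) fun _ => V₀ := by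
  refine ⟨fun P a w hw => ⟨h0 hw, fun g hg => sub_mem (h2 g (a.le hg) w hw) hw⟩,
    fun P Q _ _ e w hw => ⟨hw.1, fun g hg => hw.2 g (e hg)⟩, fun _ _ _ _ _ => le_rfl,
    fun g hg P _ w hw => ⟨h1 g hg w hw.1, fun k hk => ?_⟩, fun g hg _ _ => h2 g hg,
    fun P _ g hg w hw => hw.2 g hg⟩
  have := h2 g hg _ (hw.2 _ (mem_cj.1 hk))
  rwa [smul_sub, ← mul_smul, show g * (g⁻¹ * k * g) = k * g by group, mul_smul] at this

theorem sys_fix (h : Mod p Γ D) : Sys p Γ Y (Fix D) fun _ => ⊥ :=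
  fixMod_bot (G := G) D ▸ sys_fixMod bot_le h.inv fun g _ w hw => by
    rw [AddSubgroup.mem_bot.1 hw, smul_zero]; exact zero_mem _

theorem sys_FU (hp : Pair p Γ Y) (h : Mod p Γ D) (hC : Up p Γ Y C) (hC' : Up p Γ Y C')
    (e : ∀ P, Rel p Γ Y P → C' P → C P) : Sys p Γ Y (FU D C') (FU D C) :=
  (sys_fix h).cut2 hp hC hC' e

theorem sys_FU_bot (hp : Pair p Γ Y) (h : Mod p Γ D) (hC : Up p Γ Y C) :
    Sys p Γ Y (FU D C) fun _ => ⊥ := (sys_fix h).cutL hp hC

theorem van_on (h : ∀ x : X, On Y [x] ↔ On Y' [x]) : Van X Γ Y U V n ↔ Van X Γ Y' U V n := by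
  have e : ∀ l : List X, On Y l ↔ On Y' l := fun l => by
    rw [on_iff, on_iff (Y := Y')]; exact forall₂_congr fun x _ => h x
  have c : ∀ n (f : List X → W), Coch Γ Y U V n f ↔ Coch Γ Y' U V n f := fun n f =>
    ⟨fun a => ⟨fun l b c => a.mem l b ((e l).2 c), fun g hg l b c => a.eqv g hg l b ((e l).2 c), a.nil⟩,
      fun a => ⟨fun l b c => a.mem l b ((e l).1 c), fun g hg l b c => a.eqv g hg l b ((e l).1 c), a.nil⟩⟩
  simp only [Van, Cyc, Cob, e, c]

theorem Coch.add {g : List X → W} (h : Coch Γ Y U V n f) (h' : Coch Γ Y U V n g) :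
    Coch Γ Y U V n fun l => f l + g l :=
  ⟨fun l a b => add_mem (h.mem l a b) (h'.mem l a b), fun k hk l a b => by
    rw [smul_add, add_sub_add_comm]; exact add_mem (h.eqv k hk l a b) (h'.eqv k hk l a b),
    fun e => by rw [h.nil e, h'.nil e, add_zero]⟩

theorem Coch.sub {g : List X → W} (h : Coch Γ Y U V n f) (h' : Coch Γ Y U V n g) :
    Coch Γ Y U V n fun l => f l - g l :=
  ⟨fun l a b => sub_mem (h.mem l a b) (h'.mem l a b), fun k hk l a b => by
    rw [smul_sub, sub_sub_sub_comm]; exact sub_mem (h.eqv k hk l a b) (h'.eqv k hk l a b),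
    fun e => by rw [h.nil e, h'.nil e, sub_zero]⟩

theorem coch_zero : Coch Γ Y U V n fun _ : List X => (0 : W) :=
  ⟨fun _ _ _ => zero_mem _, fun _ _ _ _ _ => by simp, fun _ => rfl⟩

end H24.Cx
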