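import Cfsg.Agent.H98.Sylow
import Cfsg.Agent.H94.FactorSat
import Cfsg.Agent.H94.Real

/-! Spec of the tower CX (higher limits by Cech cochains, central extensions of fusion systems):
see blueprints/CX.md. -/

set_option autoImplicit false

namespace H24.Cx

open Subgroup Cfsg H98

universe u v

/-! ### Cochains -/

/-- A finite `G`-set of order prime to `p` whose stabilisers are `p`-groups. -/
structure Good (p : ℕ) (G X : Type u) [Group G] [MulAction G X] : Prop where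
  fin : Finite X
  stab : ∀ x : X, IsPGroup p (MulAction.stabilizer G x)
  card : ¬ p ∣ Nat.card X

/-- The alternating sum over the faces of a list. -/
def d {X W : Type u} [AddCommGroup W] : (List X → W) → List X → W
  | _, [] => 0
  | f, x :: l => f l - d (fun m => f (x :: m)) l

/-- `m` is `l` with one entry removed. -/
inductive Face {X : Type u} : List X → List X → Prop
  | head (x : X) (l : List X) : Face l (x :: l)
  | cons (x : X) {m l : List X} : Face m l → Face (x :: m) (x :: l)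

section
variable {G : Type u} [Group G]

/-- `Y` is a normal `p`-subgroup of `Γ`. -/
structure Pair (p : ℕ) (Γ Y : Subgroup G) : Prop where
  isP : IsPGroup p Y
  le : Y ≤ Γ
  nor : Γ ≤ normalizer (Y : Set G)

/-- The relevant subgroups. -/
structure Rel (p : ℕ) (Γ Y P : Subgroup G) : Prop where
  ge : Y ≤ P
  le : P ≤ Γ
  isP : IsPGroup p P

/-- An invariant family of relevant subgroups, closed under overgroups. -/
structure Up (p : ℕ) (Γ Y : Subgroup G) (C : Subgroup G → Prop) : Prop where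
  mono : ∀ P Q, Rel p Γ Y P → Rel p Γ Y Q → P ≤ Q → C P → C Q
  inv : ∀ g ∈ Γ, ∀ P, Rel p Γ Y P → C P → C (cj g P)

def Inv (Γ : Subgroup G) (C : Subgroup G → Prop) : Prop := ∀ g ∈ Γ, ∀ A, C A → C (cj g A)

/-- The subgroup generated by `Y` and the members of `C` inside `P`. -/
def JJ (C : Subgroup G → Prop) (Y P : Subgroup G) : Subgroup G := Y ⊔ sSup {A | C A ∧ A ≤ P}

def QJ (C : Subgroup G → Prop) (Y P : Subgroup G) : Prop := ¬ JJ C Y P ≤ Y

variable {X : Type u} [MulAction G X]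

/-- The pointwise stabiliser in `Γ` of a list. -/
def st (Γ : Subgroup G) (l : List X) : Subgroup G where
  carrier := {g | g ∈ Γ ∧ ∀ x ∈ l, g • x = x}
  one_mem' := ⟨one_mem _, fun x _ => one_smul _ x⟩
  mul_mem' := fun a b => ⟨mul_mem a.1 b.1, fun x h => by rw [mul_smul, b.2 x h, a.2 x h]⟩
  inv_mem' := fun a => ⟨inv_mem a.1, fun x h => by rw [inv_smul_eq_iff, a.2 x h]⟩

/-- `Y` fixes every entry. -/
def On (Y : Subgroup G) (l : List X) : Prop := ∀ y ∈ Y, ∀ x ∈ l, y • x = x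

/-- The action on lists. -/
def sm (g : G) (l : List X) : List X := l.map (g • ·)

variable {W : Type u} [AddCommGroup W] [DistribMulAction G W]

/-- The coefficient system `P ↦ U P / V P`. -/
structure Sys (p : ℕ) (Γ Y : Subgroup G) (U V : Subgroup G → AddSubgroup W) : Prop where
  le : ∀ P, Rel p Γ Y P → V P ≤ U P
  antiU : ∀ P Q, Rel p Γ Y P → Rel p Γ Y Q → P ≤ Q → U Q ≤ U P
  antiV : ∀ P Q, Rel p Γ Y P → Rel p Γ Y Q → P ≤ Q → V Q ≤ V P
  eqU : ∀ g ∈ Γ, ∀ P, Rel p Γ Y P → ∀ w ∈ U P, g • w ∈ U (cj g P)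
  eqV : ∀ g ∈ Γ, ∀ P, Rel p Γ Y P → ∀ w ∈ V P, g • w ∈ V (cj g P)
  triv : ∀ P, Rel p Γ Y P → ∀ g ∈ P, ∀ w ∈ U P, g • w - w ∈ V P

/-- Cochains on the lists of length `n`. -/
structure Coch (Γ Y : Subgroup G) (U V : Subgroup G → AddSubgroup W) (n : ℕ) (f : List X → W) :
    Prop where
  mem : ∀ l, l.length = n → On Y l → f l ∈ U (st Γ l)
  eqv : ∀ g ∈ Γ, ∀ l, l.length = n → On Y l → f (sm g l) - g • f l ∈ V (st Γ (sm g l))
  nil : n = 0 → f [] = 0

def Cyc (Γ Y : Subgroup G) (V : Subgroup G → AddSubgroup W) (n : ℕ) (f : List X → W) : Prop :=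
  ∀ l, l.length = n + 2 → On Y l → d f l ∈ V (st Γ l)

def Cob (Γ Y : Subgroup G) (U V : Subgroup G → AddSubgroup W) (n : ℕ) (f : List X → W) : Prop :=
  ∃ e : List X → W, Coch Γ Y U V n e ∧ ∀ l, l.length = n + 1 → On Y l → f l - d e l ∈ V (st Γ l)

variable (X) in
/-- The cohomology in degree `n` vanishes. -/
def Van (Γ Y : Subgroup G) (U V : Subgroup G → AddSubgroup W) (n : ℕ) : Prop :=
  ∀ f : List X → W, Coch Γ Y U V (n + 1) f → Cyc Γ Y V n f → Cob Γ Y U V n f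

open Classical in
/-- `V` on the family `C`, `U` outside. -/
noncomputable def cut (C : Subgroup G → Prop) (U V : Subgroup G → AddSubgroup W) (P : Subgroup G) :
    AddSubgroup W := if C P then V P else U P

/-- `θ` induces an isomorphism `U / V ≃ U' / V'`, or both quotients vanish. -/
def Match {W W' : Type u} [AddCommGroup W] [AddCommGroup W'] (θ : W →+ W') (U V : AddSubgroup W)
    (U' V' : AddSubgroup W') : Prop :=
  (U ≤ V ∧ U' ≤ V') ∨
    ((∀ w ∈ U, θ w ∈ U') ∧ (∀ w' ∈ U', ∃ w ∈ U, w' - θ w ∈ V') ∧ ∀ w ∈ U, (θ w ∈ V' ↔ w ∈ V))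

/-- The elements of `U₀` fixed by `P` modulo `V₀`. -/
def FixMod (U₀ V₀ : AddSubgroup W) (P : Subgroup G) : AddSubgroup W where
  carrier := {w | w ∈ U₀ ∧ ∀ g ∈ P, g • w - w ∈ V₀}
  zero_mem' := ⟨zero_mem _, fun g _ => by simp⟩
  add_mem' := fun a b => ⟨add_mem a.1 b.1, fun g h => by
    rw [smul_add, add_sub_add_comm]; exact add_mem (a.2 g h) (b.2 g h)⟩
  neg_mem' := fun a => ⟨neg_mem a.1, fun g h => by
    rw [smul_neg, neg_sub_neg, ← neg_sub]; exact neg_mem (a.2 g h)⟩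

/-- The elements of `D` fixed by `P`. -/
def Fix (D : AddSubgroup W) (P : Subgroup G) : AddSubgroup W where
  carrier := {w | w ∈ D ∧ ∀ g ∈ P, g • w = w}
  zero_mem' := ⟨zero_mem _, fun g _ => smul_zero g⟩
  add_mem' := fun a b => ⟨add_mem a.1 b.1, fun g h => by rw [smul_add, a.2 g h, b.2 g h]⟩
  neg_mem' := fun a => ⟨neg_mem a.1, fun g h => by rw [smul_neg, a.2 g h]⟩

/-- Zero on `C`, the fixed points outside. `(FU D C₂, FU D C₁)` is the fixed point system on the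
interval `C₁ \ C₂`. -/
noncomputable def FU (D : AddSubgroup W) (C : Subgroup G → Prop) : Subgroup G → AddSubgroup W :=
  cut C (Fix D) fun _ => ⊥

/-- `D` is a finite `Γ`-invariant `p`-group. -/
structure Mod (p : ℕ) (Γ : Subgroup G) (D : AddSubgroup W) : Prop where
  fin : Finite D
  inv : ∀ g ∈ Γ, ∀ w ∈ D, g • w ∈ D
  exp : ∃ e : ℕ, ∀ w ∈ D, p ^ e • w = 0

/-- An equivariant function on points, constant along the pairs with stabiliser in `Q`. -/
structure Eqv (Γ Y : Subgroup G) (D : AddSubgroup W) (Q : Subgroup G → Prop) (F : X → W) : Prop where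
  mem : ∀ x, On Y [x] → F x ∈ D
  eqv : ∀ g ∈ Γ, ∀ x, On Y [x] → F (g • x) = g • F x
  cst : ∀ x y, On Y [x, y] → Q (st Γ [x, y]) → F x = F y

def Const (Γ Y : Subgroup G) (D : AddSubgroup W) (Q : Subgroup G → Prop) (F : X → W) : Prop :=
  ∃ c ∈ Fix D Γ, ∀ x, On Y [x] → Q (st Γ [x]) → F x = c

/-- The norm property. -/
def NP (p : ℕ) (D : AddSubgroup W) (A : Subgroup G) : Prop :=
  ∀ B ≤ A, B.relIndex A = p → ∀ w ∈ Fix D B, p • w = 0 → ∀ a ∈ A,
    ∑ i ∈ Finset.range p, a ^ i • w = 0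

/-- `t` acts on `D` as a transvection with centre `v`, nontrivially on the elements of order 2. -/
structure IsTv (D : AddSubgroup W) (t : G) (v : W) : Prop where
  mem : v ∈ D
  ne : v ≠ 0
  act : ∀ w ∈ D, t • w = w ∨ t • w = w + v
  ex : ∃ w ∈ D, w + w = 0 ∧ t • w ≠ w

def AP (p : ℕ) (D : AddSubgroup W) (A : Subgroup G) : Prop :=
  NP p D A ∨ (p = 2 ∧ ∃ t v, IsTv D t v ∧ A = zpowers t)

def Low (D : AddSubgroup W) (Y P : Subgroup G) : Prop := ∀ A ≤ P, NP 2 D A → A ≤ Y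

/-- `Y` is a Sylow 2-subgroup of the kernel of the action on `D`. -/
structure Set2 (Γ Y : Subgroup G) (D : AddSubgroup W) : Prop where
  pair : Pair 2 Γ Y
  mod : Mod 2 Γ D
  triv : ∀ y ∈ Y, ∀ w ∈ D, y • w = w
  ker : ∀ k ∈ Γ, (∀ w ∈ D, w + w = 0 → k • w = w) → ∀ w ∈ D, k • w = w
  syl : ∀ k ∈ Γ, (∀ w ∈ D, k • w = w) → IsPGroup 2 (zpowers k) → k ∈ Y

/-- A transvection of 2-power order that normalises `E` and lies outside. -/
structure TvN (Γ E : Subgroup G) (D : AddSubgroup W) (t : G) (v : W) : Prop where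
  mem : t ∈ Γ ⊓ normalizer (E : Set G)
  out : t ∉ E
  two : IsPGroup 2 (zpowers t)
  tv : IsTv D t v

structure Bad (Γ Y E : Subgroup G) (D : AddSubgroup W) : Prop where
  low : ∀ P, Rel 2 (Γ ⊓ normalizer (E : Set G)) E P → Low D Y P
  ex : ∃ t v, TvN Γ E D t v
  braid : ∀ t v, TvN Γ E D t v → ∃ t' v', TvN Γ E D t' v' ∧ t' • v ≠ v
  same : ∀ P, Rel 2 (Γ ⊓ normalizer (E : Set G)) E P → ∀ t ∈ P, ∀ s ∈ P, ∀ v v',
    TvN Γ E D t v → TvN Γ E D s v' → s⁻¹ * t ∈ Y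

/-- The hypothesis of the atomic vanishing theorem at `P`. -/
def Atom (p : ℕ) (Γ P : Subgroup G) (U V : AddSubgroup W) : Prop :=
  ∃ K : Subgroup G, K ≤ Γ ⊓ normalizer (P : Set G) ∧
    Γ ⊓ normalizer (P : Set G) ≤ normalizer (K : Set G) ∧ p ∣ (P ⊓ K).relIndex K ∧
    (∀ k ∈ K, ∀ w ∈ U, p • w ∈ V → k • w - w ∈ V) ∧ ∃ e : ℕ, ∀ w ∈ U, p ^ e • w ∈ V

end

/-! ### Abelian sections as coefficient systems -/

/-- The free abelian group on `G` with the conjugation action. -/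
def ZG (G : Type u) : Type u := FreeAbelianGroup G

instance (G : Type u) : AddCommGroup (ZG G) := inferInstanceAs (AddCommGroup (FreeAbelianGroup G))

def ZG.of {G : Type u} (a : G) : ZG G := FreeAbelianGroup.of a

def ZG.lift {G : Type u} {W : Type v} [AddCommGroup W] (f : G → W) : ZG G →+ W :=
  FreeAbelianGroup.lift f

@[simp] theorem ZG.lift_of {G : Type u} {W : Type v} [AddCommGroup W] (f : G → W) (a : G) :
    ZG.lift f (ZG.of a) = f a := FreeAbelianGroup.lift_apply_of f a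

theorem ZG.hom_ext {G : Type u} {W : Type v} [AddCommGroup W] {f g : ZG G →+ W}
    (h : ∀ a, f (ZG.of a) = g (ZG.of a)) : f = g := FreeAbelianGroup.lift_ext f g h

instance (G : Type u) [Group G] : DistribMulAction G (ZG G) where
  smul g := ZG.lift fun a => ZG.of (g * a * g⁻¹)
  one_smul w := DFunLike.congr_fun (ZG.hom_ext (f := ZG.lift fun a => ZG.of ((1 : G) * a * 1⁻¹))
    (g := AddMonoidHom.id _) fun a => by simp) w
  mul_smul g h w := DFunLike.congr_fun (ZG.hom_ext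
    (f := ZG.lift fun a => ZG.of (g * h * a * (g * h)⁻¹))
    (g := (ZG.lift fun a => ZG.of (g * a * g⁻¹)).comp (ZG.lift fun a => ZG.of (h * a * h⁻¹)))
    fun a => by simp [mul_assoc]) w
  smul_zero g := map_zero (ZG.lift fun a => ZG.of (g * a * g⁻¹))
  smul_add g := map_add (ZG.lift fun a => ZG.of (g * a * g⁻¹))

theorem ZG.smul_of {G : Type u} [Group G] (g a : G) : g • ZG.of a = ZG.of (g * a * g⁻¹) :=
  ZG.lift_of _ a

section
variable {G : Type u} [Group G]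

def SU (A : Subgroup G) : AddSubgroup (ZG G) := AddSubgroup.closure {w | ∃ a ∈ A, w = ZG.of a}

def SV (A B : Subgroup G) : AddSubgroup (ZG G) := AddSubgroup.closure
  {w | (∃ a ∈ A, ∃ b ∈ A, w = ZG.of (a * b) - ZG.of a - ZG.of b) ∨ ∃ b ∈ B, w = ZG.of b}

/-- The system `P ↦ A P / B P` on the family `C`, zero outside, is `(secU C A, secV C A B)`. -/
noncomputable def secU (C : Subgroup G → Prop) (A : Subgroup G → Subgroup G) :
    Subgroup G → AddSubgroup (ZG G) := cut C (fun _ => ⊤) fun P => SU (A P)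

noncomputable def secV (C : Subgroup G → Prop) (A B : Subgroup G → Subgroup G) :
    Subgroup G → AddSubgroup (ZG G) := cut C (fun _ => ⊤) fun P => SV (A P) (B P)

structure SecH (p : ℕ) (Γ Y : Subgroup G) (C : Subgroup G → Prop) (A B : Subgroup G → Subgroup G) :
    Prop where
  up : Up p Γ Y C
  le1 : ∀ P, Rel p Γ Y P → C P → B P ≤ A P
  le2 : ∀ P, Rel p Γ Y P → C P → A P ≤ P
  com : ∀ P, Rel p Γ Y P → C P → ∀ g ∈ P, ∀ a ∈ A P, g * a * g⁻¹ * a⁻¹ ∈ B P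
  antiA : ∀ P Q, Rel p Γ Y P → Rel p Γ Y Q → P ≤ Q → C P → A Q ≤ A P
  antiB : ∀ P Q, Rel p Γ Y P → Rel p Γ Y Q → P ≤ Q → C P → B Q ≤ B P
  eqA : ∀ g ∈ Γ, ∀ P, Rel p Γ Y P → C P → cj g (A P) ≤ A (cj g P)
  eqB : ∀ g ∈ Γ, ∀ P, Rel p Γ Y P → C P → cj g (B P) ≤ B (cj g P)

/-- Every `p`-element that centralises `P` lies in `P`. -/
def Cen (p : ℕ) (P : Subgroup G) : Prop :=
  ∀ g ∈ centralizer (P : Set G), IsPGroup p (zpowers g) → g ∈ P

def ZZ (P : Subgroup G) : Subgroup G := P ⊓ centralizer (P : Set G)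

/-- `P` contains an abelian subgroup of order at least `m` outside `Y`. -/
def UT (m : ℕ) (Y P : Subgroup G) : Prop :=
  ∃ A ≤ P, A ≤ centralizer (A : Set G) ∧ m ≤ Nat.card A ∧ ¬ A ≤ Y

end

/-! ### Homomorphisms to the central subgroup -/

/-- Functions from `G` to `A` with the conjugation action. -/
def HW (G A : Type u) : Type u := G → Additive A

instance (G A : Type u) [CommGroup A] : AddCommGroup (HW G A) :=
  inferInstanceAs (AddCommGroup (G → Additive A))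

instance (G A : Type u) [Group G] [CommGroup A] : DistribMulAction G (HW G A) where
  smul g w := fun x => w (g⁻¹ * x * g)
  one_smul w := funext fun x => congrArg w (by simp)
  mul_smul g h w := funext fun x => congrArg w (by simp [mul_assoc])
  smul_zero _ := rfl
  smul_add _ _ _ := rfl

section
variable {G A : Type u} [Group G] [CommGroup A]

theorem HW.smul_apply (g : G) (w : HW G A) (x : G) : (g • w) x = w (g⁻¹ * x * g) := rfl
theorem HW.add_apply (w w' : HW G A) (x : G) : (w + w') x = w x + w' x := rfl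
theorem HW.neg_apply (w : HW G A) (x : G) : (-w) x = -w x := rfl
theorem HW.sub_apply (w w' : HW G A) (x : G) : (w - w') x = w x - w' x := rfl
theorem HW.zero_apply (x : G) : (0 : HW G A) x = 0 := rfl

/-- `j` embeds the finite `p`-group `A` into the centre. -/
structure Ctr (p : ℕ) (j : A →* G) : Prop where
  inj : Function.Injective j
  cen : ∀ a g, j a * g = g * j a
  isP : IsPGroup p A

def hV (A : Type u) [CommGroup A] (P : Subgroup G) : AddSubgroup (HW G A) where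
  carrier := {w | ∀ x ∈ P, w x = 0}
  zero_mem' := fun _ _ => rfl
  add_mem' := fun a b x h => by rw [HW.add_apply, a x h, b x h, add_zero]
  neg_mem' := fun a x h => by rw [HW.neg_apply, a x h, neg_zero]

def hU (j : A →* G) (P : Subgroup G) : AddSubgroup (HW G A) where
  carrier := {w | (∀ x ∈ P, ∀ y ∈ P, w (x * y) = w x + w y) ∧ ∀ a, w (j a) = 0}
  zero_mem' := ⟨fun _ _ _ _ => (add_zero _).symm, fun _ => rfl⟩
  add_mem' := fun a b => ⟨fun x hx y hy => by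
    simp only [HW.add_apply, a.1 x hx y hy, b.1 x hx y hy]; abel, fun z => by
    rw [HW.add_apply, a.2, b.2, add_zero]⟩
  neg_mem' := fun a => ⟨fun x hx y hy => by
    simp only [HW.neg_apply, a.1 x hx y hy]; abel, fun z => by rw [HW.neg_apply, a.2, neg_zero]⟩

/-- The functions that agree on `P` with a commutator map. -/
def kU {p : ℕ} {j : A →* G} (h : Ctr p j) (P : Subgroup G) : AddSubgroup (HW G A) where
  carrier := {w | ∃ k : G, ∀ x ∈ P, j (w x).toMul = k * x * k⁻¹ * x⁻¹}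
  zero_mem' := ⟨1, fun x _ => by simp [HW.zero_apply]⟩
  add_mem' := fun ⟨k, a⟩ ⟨k', b⟩ => ⟨k * k', fun x hx => by
    rw [HW.add_apply, toMul_add, mul_comm, map_mul, a x hx, ← mul_assoc, ← mul_assoc, ← mul_assoc,
      h.cen, b x hx]
    group⟩
  neg_mem' := fun {w} ⟨k, a⟩ => ⟨k⁻¹, fun x hx => by
    have := h.cen (w x).toMul⁻¹ k
    rw [HW.neg_apply, toMul_neg, ← inv_mul_cancel_left k (j _), ← this, map_inv, a x hx]
    group⟩

end

/-! ### The jobs -/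

/-- Atomic vanishing. -/
def JobAV : Prop := ∀ (p : ℕ) [Fact p.Prime] (G X W : Type u) [Group G] [Finite G] [MulAction G X]
  [AddCommGroup W] [DistribMulAction G W] (Γ Y : Subgroup G) (U V : Subgroup G → AddSubgroup W),
  Good p G X → Pair p Γ Y → Sys p Γ Y U V →
  (∀ P, Rel p Γ Y P → ¬ U P ≤ V P → Atom p Γ P (U P) (V P)) → ∀ n, Van X Γ Y U V n

/-- Control of fixed points by the norm argument. -/
def JobNC : Prop := ∀ (p : ℕ) [Fact p.Prime] (G X W : Type u) [Group G] [Finite G] [MulAction G X]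
  [AddCommGroup W] [DistribMulAction G W] (Γ Y S : Subgroup G) (D : AddSubgroup W)
  (C Q : Subgroup G → Prop) (F : X → W), Good p G X → Pair p Γ Y → Mod p Γ D → Inv Γ C →
  (∀ A, C A → NP p D A) → IsSyl p S Γ → Up p Γ Y Q → Q (JJ C Y S) → Eqv Γ Y D Q F → Const Γ Y D Q F

/-- One filtration step. -/
def JobStep : Prop := ∀ (p : ℕ) [Fact p.Prime] (G X W : Type u) [Group G] [Finite G] [MulAction G X]
  [AddCommGroup W] [DistribMulAction G W] (Γ Y : Subgroup G) (D : AddSubgroup W)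
  (C C₁ C₂ : Subgroup G → Prop) (n : ℕ), Good p G X → Pair p Γ Y → Mod p Γ D → Inv Γ C →
  Up p Γ Y C₁ → Up p Γ Y C₂ → (∀ P, Rel p Γ Y P → C₂ P → C₁ P) →
  (∀ P, Rel p Γ Y P → C₁ P → C₁ (JJ C Y P)) → (∀ P, Rel p Γ Y P → C₂ P → C₂ (JJ C Y P)) →
  (∀ E, Rel p Γ Y E → JJ C Y E = E → C₁ E → ¬ C₂ E →
    Van X (Γ ⊓ normalizer (E : Set G)) E (FU D (QJ C E)) (fun _ => ⊥) n) →
  Van X Γ Y (FU D C₂) (FU D C₁) n

/-- Vanishing in degree `n` on all intervals saturated for the family `C`. -/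
def SatVan (p : ℕ) {G : Type u} (X : Type u) {W : Type u} [Group G] [MulAction G X]
    [AddCommGroup W] [DistribMulAction G W] (Γ₀ : Subgroup G) (D : AddSubgroup W)
    (C : Subgroup G → Prop) (n : ℕ) : Prop :=
  ∀ (Γ Y : Subgroup G) (C₁ C₂ : Subgroup G → Prop), Γ ≤ Γ₀ → Pair p Γ Y →
    Up p Γ Y C₁ → Up p Γ Y C₂ → (∀ P, Rel p Γ Y P → C₂ P → C₁ P) →
    (∀ P, Rel p Γ Y P → C₁ P → C₁ (JJ C Y P)) → (∀ P, Rel p Γ Y P → C₂ P → C₂ (JJ C Y P)) →
    Van X Γ Y (FU D C₂) (FU D C₁) n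

def ThmN : Prop := ∀ (p : ℕ) [Fact p.Prime] (G X W : Type u) [Group G] [Finite G] [MulAction G X]
  [AddCommGroup W] [DistribMulAction G W] (Γ : Subgroup G) (D : AddSubgroup W),
  Good p G X → Mod p Γ D → ∀ n, SatVan p X Γ D (NP p D) (n + 1)

def ThmM : Prop := ∀ (p : ℕ) [Fact p.Prime] (G X W : Type u) [Group G] [Finite G] [MulAction G X]
  [AddCommGroup W] [DistribMulAction G W] (Γ : Subgroup G) (D : AddSubgroup W),
  Good p G X → Mod p Γ D → ∀ n, SatVan p X Γ D (AP p D) (n + 2)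

def Base2 : Prop := ∀ (G X W : Type u) [Group G] [Finite G] [MulAction G X]
  [AddCommGroup W] [DistribMulAction G W] (Γ Y : Subgroup G) (D : AddSubgroup W),
  Good 2 G X → Pair 2 Γ Y → Mod 2 Γ D → (∀ y ∈ Y, ∀ w ∈ D, y • w = w) →
  Van X Γ Y (FU D fun _ => False) (FU D (QJ (AP 2 D) Y)) 1

def JobN : Prop := JobStep.{u} → JobNC.{u} → ThmN.{u}

def JobM : Prop := JobStep.{u} → ThmN.{u} → Base2.{u} → ThmM.{u}

/-- Orthogonality of transvections in a low 2-subgroup. -/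
def JobO : Prop := ∀ (G W : Type u) [Group G] [Finite G] [AddCommGroup W] [DistribMulAction G W]
  (Γ Y P : Subgroup G) (D : AddSubgroup W), Set2 Γ Y D → Rel 2 Γ Y P → Low D Y P →
  ∀ t ∈ P, ∀ s ∈ P, ∀ v v', IsTv D t v → IsTv D s v' → t • v' = v'

/-- Two transvections that do not braid lie in a common 2-subgroup, up to the kernel. -/
def JobKC : Prop := ∀ (G W : Type u) [Group G] [Finite G] [AddCommGroup W] [DistribMulAction G W]
  (Γ Y E : Subgroup G) (D : AddSubgroup W), Set2 Γ Y D → Rel 2 Γ Y E → ∀ t s v v',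
  TvN Γ E D t v → TvN Γ E D s v' → t • v' = v' ∨ s • v = v →
  ∃ k ∈ Γ ⊓ normalizer (E : Set G), (∀ w ∈ D, k • w = w) ∧
    ∃ P, Rel 2 (Γ ⊓ normalizer (E : Set G)) E P ∧ t ∈ P ∧ k * s * k⁻¹ ∈ P

def PL : Prop := ∀ (G X W : Type u) [Group G] [Finite G] [MulAction G X]
  [AddCommGroup W] [DistribMulAction G W] (Γ Y E : Subgroup G) (D : AddSubgroup W) (F : X → W),
  Good 2 G X → Set2 Γ Y D → Rel 2 Γ Y E → JJ (AP 2 D) Y E = E → Low D Y E →
  Eqv (Γ ⊓ normalizer (E : Set G)) E D (QJ (AP 2 D) E) F →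
  Const (Γ ⊓ normalizer (E : Set G)) E D (QJ (AP 2 D) E) F ∨
    (Bad Γ Y E D ∧ ∃ c ∈ Fix D (Γ ⊓ normalizer (E : Set G)), ∀ x : X, On E [x] → ∀ t v,
      TvN Γ E D t v → t • x = x → F x = c + v)

def JobPL : Prop := JobNC.{u} → JobO.{u} → JobKC.{u} → PL.{u}

def ST : Prop := ∀ (G W : Type u) [Group G] [Finite G] [AddCommGroup W] [DistribMulAction G W]
  (Γ Y E : Subgroup G) (D : AddSubgroup W), Set2 Γ Y D → Rel 2 Γ Y E → JJ (AP 2 D) Y E = E →
  Bad Γ Y E D → ∃ S t v, IsSyl 2 S Γ ∧ E ≤ S ∧ t ∈ S ∧ TvN Γ E D t v ∧ Low D Y S ∧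
    Nat.card (JJ (AP 2 D) Y S) = 2 * Nat.card E ∧
    (∀ s ∈ S, ∀ v', IsTv D s v' → (s ∈ E ↔ v' ≠ v)) ∧
    Y ⊔ closure {s | s ∈ S ∧ ∃ v', IsTv D s v' ∧ v' ≠ v} = E

def JobST : Prop := JobO.{u} → ST.{u}

/-- The two upper layers when a Sylow subgroup is low. -/
def B2U : Prop := ∀ (G X W : Type u) [Group G] [Finite G] [MulAction G X]
  [AddCommGroup W] [DistribMulAction G W] (Γ Y S : Subgroup G) (D : AddSubgroup W),
  Good 2 G X → Set2 Γ Y D → IsSyl 2 S Γ → Low D Y S →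
  Van X Γ Y (FU D fun _ => False) (FU D fun P => QJ (AP 2 D) Y P ∧
    Nat.card (JJ (AP 2 D) Y S) ≤ 2 * Nat.card (JJ (AP 2 D) Y P)) 1

def JobB2U : Prop := JobStep.{u} → JobO.{u} → PL.{u} → ST.{u} → B2U.{u}

def JobB2 : Prop := JobAV.{u} → JobStep.{u} → ThmN.{u} → PL.{u} → ST.{u} → B2U.{u} → Base2.{u}

/-- The family `UT` is saturated. -/
def JobSat : Prop := ∀ (p : ℕ) [Fact p.Prime] (G W : Type u) [Group G] [Finite G] [AddCommGroup W]
  [DistribMulAction G W] (ι : Multiplicative W →* G) (Y P : Subgroup G) (m : ℕ),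
  Function.Injective ι →
  (∀ (g : G) (w : W), ι (Multiplicative.ofAdd (g • w)) = g * ι (Multiplicative.ofAdd w) * g⁻¹) →
  ι.range ≤ Y → Y ≤ centralizer (ι.range : Set G) → Y ≤ P → IsPGroup p P →
  (∀ A ≤ Y, A ≤ centralizer (A : Set G) → Nat.card A ≤ m) →
  UT m Y P → UT m Y (JJ (AP p (⊤ : AddSubgroup W)) Y P)

/-- Basic facts on sections. -/
def SecK : Prop := ∀ (G : Type u) [Group G] (A B : Subgroup G),
  (∀ w ∈ SU A, ∃ a ∈ A, w - ZG.of a ∈ SV A B) ∧
  (B ≤ A → (∀ g ∈ A, ∀ a ∈ A, g * a * g⁻¹ * a⁻¹ ∈ B) → ∀ a ∈ A, ZG.of a ∈ SV A B → a ∈ B) ∧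
  (B ≤ A → ∀ k : G, (∀ a ∈ A, k * a * k⁻¹ * a⁻¹ ∈ B) → ∀ w ∈ SU A, k • w - w ∈ SV A B) ∧
  (∀ n : ℕ, (∀ a ∈ A, a ^ n = 1) → ∀ w ∈ SU A, n • w ∈ SV A B) ∧
  ∀ (p : ℕ) (Γ Y : Subgroup G) (C : Subgroup G → Prop) (A B : Subgroup G → Subgroup G),
    Pair p Γ Y → SecH p Γ Y C A B → Sys p Γ Y (secU C A) (secV C A B)

/-- Exact sequences of sections, change of the family, the constant system. -/
def SecL : Prop := ∀ (p : ℕ) [Fact p.Prime] (G X : Type u) [Group G] [Finite G] [MulAction G X]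
  (Γ Y : Subgroup G), Good p G X → Pair p Γ Y →
  (∀ (C : Subgroup G → Prop) (A₁ A₂ B : Subgroup G → Subgroup G) (n : ℕ), SecH p Γ Y C A₁ B →
    SecH p Γ Y C A₂ B → SecH p Γ Y C A₁ A₂ → Van X Γ Y (secU C A₁) (secV C A₁ B) n →
    Van X Γ Y (secU C A₂) (secV C A₂ B) (n + 1) → Van X Γ Y (secU C A₁) (secV C A₁ A₂) n) ∧
  (∀ (C C' : Subgroup G → Prop) (A B : Subgroup G → Subgroup G) (n : ℕ), SecH p Γ Y C A B →
    Up p Γ Y C' → (∀ P, Rel p Γ Y P → C' P → C P) →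
    (∀ P, Rel p Γ Y P → C P → ¬ C' P → ∃ K : Subgroup G, K ≤ Γ ⊓ normalizer (P : Set G) ∧
      Γ ⊓ normalizer (P : Set G) ≤ normalizer (K : Set G) ∧ p ∣ (P ⊓ K).relIndex K ∧
      ∀ k ∈ K, ∀ a ∈ A P, k * a * k⁻¹ * a⁻¹ ∈ B P) →
    Van X Γ Y (secU C A) (secV C A B) n → Van X Γ Y (secU C' A) (secV C' A B) n) ∧
  (∀ n, Y ≤ center G →
    Van X Γ Y (secU (fun _ => True) fun _ => Y) (secV (fun _ => True) (fun _ => Y) fun _ => ⊥) (n + 1))

def JobSecL : Prop := JobAV.{u} → SecK.{u} → SecL.{u}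

/-- The local form of the vanishing theorem at a centric subgroup. -/
def LocO : Prop := ∀ (p : ℕ) [Fact p.Prime] (G X : Type u) [Group G] [Finite G] [MulAction G X]
  (Y : Subgroup G) (m n : ℕ), Good p G X → IsPGroup p Y → Cen p Y →
  (∀ A ≤ Y, A ≤ centralizer (A : Set G) → Nat.card A ≤ m) →
  Van X (normalizer (Y : Set G)) Y
    (cut (UT m Y) (secU (Cen p) ZZ) (secV (Cen p) ZZ fun _ => ⊥)) (secV (Cen p) ZZ fun _ => ⊥) (n + 2)

def JobLocO : Prop := SecK.{u} → JobSat.{u} → ThmM.{u} → LocO.{u}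

/-- The higher limits of the centre functor vanish. -/
def ThmO : Prop := ∀ (p : ℕ) [Fact p.Prime] (G X : Type u) [Group G] [Finite G] [MulAction G X]
  (n : ℕ), Good p G X → Van X (⊤ : Subgroup G) ⊥ (secU (Cen p) ZZ) (secV (Cen p) ZZ fun _ => ⊥) (n + 2)

def JobThmO : Prop := JobAV.{u} → SecK.{u} → LocO.{u} → ThmO.{u}

def JobH1 : Prop := ∀ (p : ℕ) [Fact p.Prime] (G X A : Type u) [Group G] [Finite G] [MulAction G X]
  [CommGroup A] (j : A →* G), Good p G X → Ctr p j → Van X ⊤ j.range (hU j) (hV A) 1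

/-- The elements whose commutators with `P` lie in `Z`. -/
def KK {G : Type u} [Group G] (Z : Subgroup G) [h : Z.Normal] (P : Subgroup G) : Subgroup G where
  carrier := {k | ∀ x ∈ P, k * x * k⁻¹ * x⁻¹ ∈ Z}
  one_mem' := fun x _ => by simp
  mul_mem' := fun {a b} ha hb x hx => by
    have := mul_mem (h.conj_mem _ (hb x hx) a) (ha x hx)
    rwa [show a * (b * x * b⁻¹ * x⁻¹) * a⁻¹ * (a * x * a⁻¹ * x⁻¹) = a * b * x * (a * b)⁻¹ * x⁻¹ by
      group] at this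
  inv_mem' := fun {a} ha x hx => by
    have := h.conj_mem _ (inv_mem (ha x hx)) a⁻¹
    rwa [show a⁻¹ * (a * x * a⁻¹ * x⁻¹)⁻¹ * a⁻¹⁻¹ = a⁻¹ * x * a⁻¹⁻¹ * x⁻¹ by group] at this

/-- `P / Z` is centric in `G / Z`. -/
def CB (p : ℕ) {G : Type u} [Group G] (Z : Subgroup G) [Z.Normal] (P : Subgroup G) : Prop :=
  ∀ g ∈ KK Z P, IsPGroup p (zpowers g) → g ∈ P

def ZB {G : Type u} [Group G] (Z : Subgroup G) [Z.Normal] (P : Subgroup G) : Subgroup G := P ⊓ KK Z P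

def ChA : Prop := ∀ (p : ℕ) [Fact p.Prime] (G X : Type u) [Group G] [Finite G] [MulAction G X]
  (Z : Subgroup G) [Z.Normal], Good p G X → IsPGroup p Z → Z ≤ center G →
  (∀ z ∈ Z, ∀ x : X, z • x = x) →
  SecH p ⊤ Z (CB p Z) (ZB Z) (fun _ => Z) ∧
    Van X ⊤ Z (secU (CB p Z) (ZB Z)) (secV (CB p Z) (ZB Z) fun _ => Z) 2

def JobChA : Prop := SecK.{u} → ThmO.{u} → ChA.{u}

def ChB : Prop := ∀ (p : ℕ) [Fact p.Prime] (G X : Type u) [Group G] [Finite G] [MulAction G X]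
  (Z : Subgroup G) [Z.Normal], Good p G X → IsPGroup p Z → Z ≤ center G →
  (∀ z ∈ Z, ∀ x : X, z • x = x) →
  SecH p ⊤ Z (CB p Z) ZZ (fun _ => Z) ∧
    Van X ⊤ Z (secU (CB p Z) ZZ) (secV (CB p Z) ZZ fun _ => Z) 3

def JobChB : Prop := SecK.{u} → SecL.{u} → ThmO.{u} → ChB.{u}

def VanHK : Prop := ∀ (p : ℕ) [Fact p.Prime] (G X A : Type u) [Group G] [Finite G] [MulAction G X]
  [CommGroup A] (j : A →* G) (h : Ctr p j), Good p G X → (∀ a, ∀ x : X, j a • x = x) →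
  Van X ⊤ j.range (hU j) (kU h) 1

def JobChC : Prop := JobAV.{u} → SecK.{u} → SecL.{u} → ChA.{u} → ChB.{u} → JobH1.{u} → VanHK.{u}

/-- A stable central extension of a Sylow subgroup extends to the group. -/
def JobExt : Prop := ∀ (p : ℕ) [Fact p.Prime] (S : Type u) (G : Type v) [Group S] [Group G]
  [Finite S] [Finite G] (A : Subgroup S) (κ : S →* G), IsPGroup p S → A ≤ center S → κ.ker = A →
  ¬ p ∣ κ.range.index →
  (∀ (g : G) (P : Subgroup S), A ≤ P → (∀ x ∈ P, g * κ x * g⁻¹ ∈ κ.range) → ∃ f : S → S,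
    (∀ x ∈ P, ∀ y ∈ P, f (x * y) = f x * f y) ∧ (∀ x ∈ P, κ (f x) = g * κ x * g⁻¹) ∧
      ∀ a ∈ A, f a = a) →
  ∃ (H : Type (max u v)) (_ : Group H) (_ : Finite H) (ι : S →* H) (π : H →* G),
    Function.Injective ι ∧ Function.Surjective π ∧ (∀ x, π (ι x) = κ x) ∧ π.ker = A.map ι ∧
      π.ker ≤ center H

/-- `H` realises `F` modulo the central subgroup `Z`, the image of `A`. -/
structure Lift (p : ℕ) {Ω : Type u} [Group Ω] {S : Subgroup Ω} (F : FusionSystem S) (A : Subgroup Ω)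
    {H : Type v} [Group H] (ι : S →* H) (Z : Subgroup H) : Prop where
  inj : Function.Injective ι
  syl : IsSyl p ι.range ⊤
  img : ∀ z, z ∈ Z ↔ ∃ a ∈ A, H92.ext1 ι a = z
  cen : Z ≤ center H
  h1 : ∀ (g : H) (P : Subgroup Ω), A ≤ P → P ≤ S → (∀ x ∈ P, g * H92.ext1 ι x * g⁻¹ ∈ ι.range) →
    ∃ f, H92.Mor F P f ∧ ∀ x ∈ P, H92.ext1 ι (f x) * (g * H92.ext1 ι x * g⁻¹)⁻¹ ∈ Z
  h2 : ∀ (P : Subgroup Ω) (f : Ω → Ω), A ≤ P → H92.Mor F P f →
    ∃ g : H, ∀ x ∈ P, H92.ext1 ι (f x) * (g * H92.ext1 ι x * g⁻¹)⁻¹ ∈ Z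

def FusK : Prop := ∀ (p : ℕ) [Fact p.Prime] (Ω : Type u) [Group Ω] (S : Subgroup Ω) [Finite S]
  (F : FusionSystem S) (A : Subgroup Ω) (H : Type v) [Group H] [Finite H] (ι : S →* H)
  (Z : Subgroup H), IsPGroup p S → F.IsSaturated p → F.IsCentral A → Lift p F A ι Z →
  ∀ (P : Subgroup Ω) (f : Ω → Ω), A ≤ P → P ≤ S → (∀ x ∈ P, f x * x⁻¹ ∈ A) →
  (H92.Mor F P f ↔ ∃ k : H, ∀ x ∈ P, H92.ext1 ι (f x) = k * H92.ext1 ι x * k⁻¹)

def FusC : Prop := ∀ (p : ℕ) [Fact p.Prime] (Ω : Type u) [Group Ω] (S : Subgroup Ω) [Finite S]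
  (F : FusionSystem S) (A : Subgroup Ω) (H : Type v) [Group H] [Finite H] (ι : S →* H)
  (Z : Subgroup H), IsPGroup p S → F.IsSaturated p → F.IsCentral A → Lift p F A ι Z →
  F.IsRealizable p

def JobFusC : Prop := FusK.{u, v} → VanHK.{v} → FusC.{u, v}

def Dir (back : Bool) : Prop := ∀ (p : ℕ) [Fact p.Prime] (Ω : Type u) [Group Ω] (S : Subgroup Ω)
  [Finite S] (F : FusionSystem S) (A : Subgroup Ω) (Ω' : Type v) [Group Ω'] (S' : Subgroup Ω')
  [Finite S'] (θ : S →* Ω') (E : FusionSystem S'), IsPGroup p S → F.IsSaturated p → F.IsCentral A →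
  F.IsFactorSystem A θ E →
  if back then E.IsRealizable p → F.IsRealizable p else F.IsRealizable p → E.IsRealizable p

def JobFwd : Prop := Dir.{u, v} false

def JobBack : Prop := JobExt.{u, v} → FusC.{u, max u v} → Dir.{u, v} true

end H24.Cx
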