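import Cfsg.Agent.H48.DC4Spec

/-! S3275, chapter C4: the involutions of `L/J` are transvections. -/

set_option autoImplicit false

namespace H24.DP0

open Subgroup Cfsg H98 H48.DP H48.DP2

universe u

theorem mem_C1 {G : Type*} [Group G] {g x : G} : g ∈ C1 x ↔ g * x = x * g :=
  mem_centralizer_singleton_iff

theorem cj_C1 {G : Type*} [Group G] (l t : G) : cj l (C1 t) = C1 (l * t * l⁻¹) := by
  ext g
  rw [mem_cj, mem_C1, mem_C1]
  constructor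
  · intro h
    calc g * (l * t * l⁻¹) = l * (l⁻¹ * g * l * t) * l⁻¹ := by group
      _ = l * t * l⁻¹ * g := by rw [h]; group
  · intro h
    calc l⁻¹ * g * l * t = l⁻¹ * (g * (l * t * l⁻¹)) * l := by group
      _ = t * (l⁻¹ * g * l) := by rw [h]; group

theorem job : JM1.{u} := by
  intro G _ _ M Q J L y z u n hb hv
  obtain ⟨f, z', hf, hk, hz, h7, -, -⟩ := hb.md
  have hJ : ∀ x : L, f x = 1 ↔ (x : G) ∈ J := fun x => by
    rw [← MonoidHom.mem_ker, hk, mem_subgroupOf]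
  have hJQ : J ≤ Q ⊓ L := le_inf hb.lt.JQ hb.lt.JL
  set B := ((Q ⊓ L).subgroupOf L).map f with hBd
  have hB : ∀ x : L, f x ∈ B ↔ (x : G) ∈ Q ⊓ L := fun x => ⟨by
    rintro ⟨w, hw, e⟩
    have h1 : ((x * w⁻¹ : L) : G) ∈ J := (hJ _).1 (by rw [map_mul, map_inv, e, mul_inv_cancel])
    simpa using mul_mem (hJQ h1) (show (w : G) ∈ Q ⊓ L from hw), fun h => ⟨x, h, rfl⟩⟩
  have hN : ∀ x : L, f x ∈ No B ↔ (x : G) ∈ M := fun x => ⟨fun h => by
    have h1 : (x : G) ∈ No (Q ⊓ L) := mem_normalizer_fintype fun w hw =>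
      (hB (x * ⟨w, hw.2⟩ * x⁻¹)).1 (by
        rw [map_mul, map_mul, map_inv]
        exact conj_mem_of_mem_normalizer h ((hB ⟨w, hw.2⟩).2 hw))
    exact (hb.p2.ge ⟨x.2, h1⟩).2, fun h => mem_normalizer_fintype (by
      rintro _ ⟨w, hw, rfl⟩
      rw [← map_inv, ← map_mul, ← map_mul]
      exact (hB _).2 (conj_mem_of_mem_normalizer (hb.p2.le ⟨x.2, h⟩).2 hw))⟩
  have hZ : L ≤ No (Om J) := fun l hl => mem_normalizer_fintype fun w hw =>
    ⟨conj_mem_of_mem_normalizer (hb.lt.LN hl) hw.1, conj_mem_of_mem_normalizer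
      (normalizer_le_normalizer_centralizer J (hb.lt.LN hl)) hw.2.1, by
      calc l * w * l⁻¹ * (l * w * l⁻¹) = l * (w * w) * l⁻¹ := by group
        _ = 1 := by rw [hw.2.2]; group⟩
  have hJZ : J ≤ Ce (Om J) := fun j hj w hw => (hw.2.1 j hj).symm
  have hC : L ⊓ Ce (Om J) ≤ J := by
    refine (hb.sim _ inf_le_left (le_normalizer_inf le_normalizer
      (le_normalizer_centralizer hZ))).resolve_right fun h => hb.lt.out fun l hl => ?_
    rw [← hv.cn]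
    exact mem_C1.2 ((h.trans (sup_le hJZ inf_le_right)) hl n hv.nJ).symm
  have hmod : ∀ t j : G, j ∈ J → C1 t ⊓ Om J ≤ C1 (t * j) ⊓ Om J := fun t j hj w hw =>
    ⟨mem_C1.2 (by rw [← mul_assoc, mem_C1.1 hw.1, mul_assoc, mul_assoc, hJZ hj w hw.2]), hw.2⟩
  have ho : ∀ x : L, (x : G) ∉ J → (x : G) * x ∈ J → orderOf (f x) = 2 := fun x h1 h2 =>
    orderOf_eq_prime (by rw [pow_two, ← map_mul]; exact (hJ _).2 h2) fun e => h1 ((hJ x).1 e)
  have key : ∀ s : L, f s ∈ B → (s : G) ∉ J → (C1 (s : G)).relIndex (Om J) ≤ 3 → Tv J L := by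
    intro s hs h1 h2 t ht h3 h4
    have h5 : (C1 (s : G)).relIndex (Om J) = 2 := by
      obtain ⟨k, hk⟩ := (hb.j2.to_le (show Om J ≤ J from fun _ h => h.1)).exists_card_eq
      obtain ⟨i, -, hi⟩ := (Nat.dvd_prime_pow Nat.prime_two).1
        (hk ▸ relIndex_dvd_card (C1 (s : G)) (Om J))
      have h6 : (C1 (s : G)).relIndex (Om J) ≠ 1 := fun e =>
        h1 (hC ⟨s.2, fun w hw => mem_C1.1 (relIndex_eq_one.1 e hw)⟩)
      rw [hi] at h2 h6 ⊢
      rcases i with _ | _ | i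
      · exact absurd rfl h6
      · rfl
      · have := Nat.pow_pos (n := i) two_pos
        rw [pow_succ, pow_succ] at h2
        omega
    obtain ⟨_, hl⟩ := h7.inv (f s) (f ⟨t, ht⟩)
      (ho s h1 ((hJ (s * s)).1 (by rw [map_mul]; exact h7.el _ hs))) (ho ⟨t, ht⟩ h3 h4)
    obtain ⟨l, rfl⟩ := hf ‹_›
    have h6 : t⁻¹ * (l * s * (l : G)⁻¹) ∈ J := (hJ ((⟨t, ht⟩ : L)⁻¹ * (l * s * l⁻¹))).1 (by
      rw [map_mul, map_mul, map_mul, map_inv, map_inv, hl, inv_mul_cancel])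
    have h8 : C1 t ⊓ Om J = C1 (l * s * (l : G)⁻¹) ⊓ Om J := le_antisymm
      (by simpa using hmod t _ h6) (by
        have h9 := hmod (l * s * (l : G)⁻¹) _ (inv_mem h6)
        rwa [mul_inv_rev t⁻¹, mul_inv_cancel_left, inv_inv] at h9)
    rw [← inf_relIndex_right, h8, inf_relIndex_right, ← cj_C1, ← cj_eq_self (hZ l.2),
      relIndex_map_map_of_injective _ _ (MulAut.conj (l : G)).injective, h5]
  obtain ⟨A, hA, hAJ, hi⟩ := hv.off
  by_cases h3 : J.relIndex A ≤ 3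
  · obtain ⟨a, ha, haJ⟩ := SetLike.not_le_iff_exists.1 hAJ
    refine key ⟨a, (hA ha).2⟩ ((hB _).2 (hA ha)) haJ (le_trans ?_ (hi.trans h3))
    exact relIndex_le_of_le_left (fun w hw => mem_C1.2 (hw a ha).symm) index_ne_zero_of_finite
  have hAQ : Q ⊓ L ≤ A ⊔ J := by
    have hn : (J.subgroupOf (Q ⊓ L)).Normal :=
      (normal_subgroupOf_iff_le_normalizer hJQ).2 (inf_le_right.trans hb.lt.LN)
    have h1 : J.relIndex (A ⊔ J) * (A ⊔ J).relIndex (Q ⊓ L) = 4 :=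
      (relIndex_mul_relIndex J (A ⊔ J) _ le_sup_right (sup_le hA hJQ)).trans hb.lt.idx
    have h2 : J.relIndex A ≤ J.relIndex (A ⊔ J) :=
      relIndex_le_of_le_right le_sup_left index_ne_zero_of_finite
    refine relIndex_eq_one.1 ?_
    by_contra h4
    have h5 : (A ⊔ J).relIndex (Q ⊓ L) ≠ 0 := index_ne_zero_of_finite
    have : 4 * 2 ≤ J.relIndex (A ⊔ J) * (A ⊔ J).relIndex (Q ⊓ L) :=
      Nat.mul_le_mul (by omega) (by omega)
    omega
  have h4 : J.relIndex A ≤ 4 :=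
    hb.lt.idx ▸ relIndex_le_of_le_right hA index_ne_zero_of_finite
  obtain ⟨l, hl, hlM⟩ := SetLike.not_le_iff_exists.1 hb.lt.out
  obtain ⟨g1, ⟨_, ⟨s, hs, rfl⟩, hs1, hs2⟩, -⟩ := h7.g4 (f ⟨l, hl⟩) fun e => hlM ((hN _).1 e)
  have hn : l * n * l⁻¹ ∈ Om J := conj_mem_of_mem_normalizer (hZ hl) hv.nJ
  have hH : ∀ w ∈ Ce A ⊓ Om J, Q ⊓ L ≤ C1 w := fun w hw => hAQ.trans
    (sup_le (fun a ha => mem_C1.2 (hw.1 a ha)) fun j hj => mem_C1.2 (hw.2.2.1 j hj))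
  have hM : cj l M = C1 (l * n * l⁻¹) := by rw [← cj_C1, hv.cn]
  have h5 : l * n * l⁻¹ ∉ Ce A ⊓ Om J := fun h => by
    have h6 : (⊤ : Subgroup P7) ≤ ((cj l M).subgroupOf L).map f := by
      rw [← g1]
      refine sup_le (map_mono fun x hx => ?_) ?_
      · exact hM.ge (hH _ h hx)
      · have h8 : B ⊔ zpowers (f z') ≤ (M.subgroupOf L).map f := sup_le
          (map_mono fun x hx => hb.bd.no.le (le_normalizer hx.1)) (zpowers_le.2 ⟨z', by
            obtain ⟨P, h1, -, h2, -⟩ := hb.bd.syl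
            rw [← hz] at h2
            exact h1 h2, rfl⟩)
        rintro _ ⟨_, hx, rfl⟩
        obtain ⟨x, hx', rfl⟩ := h8 hx
        exact ⟨⟨l, hl⟩ * x * ⟨l, hl⟩⁻¹, conj_mem_cj (g := l) hx', by simp⟩
    refine hb.lt.out fun x hx => ?_
    obtain ⟨w, hw, e⟩ := h6 (mem_top (f ⟨l * x * l⁻¹, mul_mem (mul_mem hl hx) (inv_mem hl)⟩))
    have h8 : (w : G)⁻¹ * (l * x * l⁻¹) ∈ J :=
      (hJ (w⁻¹ * ⟨l * x * l⁻¹, mul_mem (mul_mem hl hx) (inv_mem hl)⟩)).1 (by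
        rw [map_mul, map_inv, e, inv_mul_cancel])
    have h9 := mul_mem (show (w : G) ∈ cj l M from hw) (hM.ge (hH _ h (hJQ h8)))
    rw [mul_inv_cancel_left] at h9
    exact conj_mem_cj_iff.1 h9
  have h6 : (s : G) ∈ C1 (l * n * l⁻¹) := by
    have h8 := mem_cj.1 ((cj_normalizer _ B).ge hs2)
    rw [← map_inv, ← map_mul, ← map_mul] at h8
    exact hM.le (mem_cj.2 ((hN _).1 h8))
  refine key s ⟨s, hs, rfl⟩ (fun e => hs1 ((hJ s).2 e)) ?_
  have h8 : Ce A ⊓ Om J ≤ C1 (s : G) ⊓ Om J := fun w hw =>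
    ⟨mem_C1.2 (mem_C1.1 (hH w hw hs)).symm, hw.2⟩
  have h9 := relIndex_mul_relIndex _ _ (Om J) h8 inf_le_right
  rw [inf_relIndex_right, inf_relIndex_right] at h9
  have h10 : (Ce A ⊓ Om J).relIndex (C1 (s : G) ⊓ Om J) ≠ 1 := fun e =>
    h5 (relIndex_eq_one.1 e ⟨mem_C1.2 (mem_C1.1 h6).symm, hn⟩)
  have h11 : (Ce A ⊓ Om J).relIndex (C1 (s : G) ⊓ Om J) ≠ 0 := index_ne_zero_of_finite
  have : 2 * (C1 (s : G)).relIndex (Om J) ≤ 4 :=
    (Nat.mul_le_mul_right _ (by omega)).trans (h9.le.trans (hi.trans h4))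
  omega

end H24.DP0
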