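import Cfsg.Agent.H57.U2CSpec
import Cfsg.Agent.H48.DP3Kit

/-! # S3275, chapter U2F, mixed case: job `XA` -/

set_option autoImplicit false

namespace H24.DPV

open Subgroup Cfsg H98 H97 H48.DP H57.U2C
open scoped commutatorElement

universe u

variable {G : Type u} [Group G]

theorem ea_comm {B : Subgroup G} (h : IsElementaryAbelian 2 B) {a b : G} (ha : a ∈ B)
    (hb : b ∈ B) : a * b = b * a := by
  haveI := h.1
  exact congrArg Subtype.val (mul_comm' (⟨a, ha⟩ : B) ⟨b, hb⟩)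

theorem ea_of_le {A B : Subgroup G} (h : IsElementaryAbelian 2 B) (hle : A ≤ B) :
    IsElementaryAbelian 2 A :=
  ⟨⟨⟨fun a b => Subtype.ext (ea_comm h (hle a.2) (hle b.2))⟩⟩, fun a ha => h.2 a (hle ha)⟩

/-- The line through `z` of an `S₃`-parabolic. -/
theorem line [Finite G] {T P A : Subgroup G} {x z : G} (h : S3 T P) (hx : x ∈ P)
    (x3 : orderOf x = 3) (hA : IsElementaryAbelian 2 A) (hAT : A ≤ T) (hP : P ≤ No A) (hz : z ∈ A)
    (hzT : z ∈ Ce T) (z1 : z ≠ 1) (hf : ∀ w ∈ oZ 2 T, x * w = w * x → w = 1) :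
    z * (x * z * x⁻¹) * (x ^ 2 * z * (x ^ 2)⁻¹) = 1 ∧
      ∀ s ∈ T, s ∉ O2 P → ⁅s, x * z * x⁻¹⁆ = z := by
  have hx3 : x ^ 3 = 1 := pow_three_of x3
  have zT : ∀ t ∈ T, t * z * t⁻¹ = z := fun t ht => by
    rw [mem_Ce.mp hzT t ht]; group
  have zZ : z ∈ oZ 2 T := mem_oZ.mpr ⟨hAT hz, hzT, hA.2 z hz⟩
  have hC : ∀ g ∈ P, g * z * g⁻¹ = z → g ∈ T := by
    intro g hg hgz
    by_contra hgT
    have h1 : P ≤ C1 z := h.le_of (fun t ht => mem_C1.mpr (mem_Ce.mp hzT t ht).symm)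
      (mem_C1.mpr (by rw [eq_comm, ← mul_inv_eq_iff_eq_mul]; exact hgz)) hg hgT
    exact z1 (hf z zZ (mem_C1.mp (h1 hx)).symm)
  have hx2 : x ^ 2 ∈ P := P.pow_mem hx 2
  set a := x * z * x⁻¹ with ha
  set b := x ^ 2 * z * (x ^ 2)⁻¹ with hb
  have aA : a ∈ A := conj_mem_of_mem_normalizer (hP hx) hz
  have bA : b ∈ A := conj_mem_of_mem_normalizer (hP hx2) hz
  have orb : ∀ g ∈ P, g ∉ T → g * z * g⁻¹ = a ∨ g * z * g⁻¹ = b := by
    intro g hg hgT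
    rcases h.cover hx x3 hg with h1 | h1 | h1
    · exact absurd h1 hgT
    · left
      rw [show g * z * g⁻¹ = x * (x⁻¹ * g * z * (x⁻¹ * g)⁻¹) * x⁻¹ by group, zT _ h1]
    · right
      rw [show g * z * g⁻¹ = x ^ 2 * ((x ^ 2)⁻¹ * g * z * ((x ^ 2)⁻¹ * g)⁻¹) * (x ^ 2)⁻¹ by group,
        zT _ h1]
  have xT : x ∉ T := h.not_mem x3
  have x2T : x ^ 2 ∉ T := h.not_mem (orderOf_sq_three x3)
  have sa : ∀ s ∈ T, s * a * s⁻¹ = a ∨ s * a * s⁻¹ = b := fun s hs => by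
    have := orb (s * x) (P.mul_mem (h.le hs) hx) (fun e => xT ((T.mul_mem_cancel_left hs).mp e))
    rwa [show s * x * z * (s * x)⁻¹ = s * a * s⁻¹ by rw [ha]; group] at this
  have sb : ∀ s ∈ T, s * b * s⁻¹ = a ∨ s * b * s⁻¹ = b := fun s hs => by
    have := orb (s * x ^ 2) (P.mul_mem (h.le hs) hx2)
      (fun e => x2T ((T.mul_mem_cancel_left hs).mp e))
    rwa [show s * x ^ 2 * z * (s * x ^ 2)⁻¹ = s * b * s⁻¹ by rw [hb]; group] at this
  have ab : a ≠ b := fun e => by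
    apply xT
    apply hC x hx
    have e2 : x * z * x⁻¹ = x * (x * z * x⁻¹) * x⁻¹ := by
      calc x * z * x⁻¹ = b := e
        _ = x * (x * z * x⁻¹) * x⁻¹ := by rw [hb, sq]; group
    exact (mul_left_cancel (mul_right_cancel e2)).symm
  have inj : ∀ s : G, s * a * s⁻¹ ≠ s * b * s⁻¹ := fun s e =>
    ab (mul_left_cancel (mul_right_cancel e))
  have hn : z * a * b = 1 := by
    have nA : z * a * b ∈ A := A.mul_mem (A.mul_mem hz aA) bA
    refine hf _ (mem_oZ.mpr ⟨hAT nA, mem_Ce.mpr fun s hs => ?_, hA.2 _ nA⟩) ?_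
    · rw [← mul_inv_eq_iff_eq_mul, show s * (z * a * b) * s⁻¹ =
        (s * z * s⁻¹) * (s * a * s⁻¹) * (s * b * s⁻¹) by group, zT s hs]
      rcases sa s hs with h1 | h1 <;> rcases sb s hs with h2 | h2
      · exact absurd (h1.trans h2.symm) (inj s)
      · rw [h1, h2]
      · rw [h1, h2, mul_assoc z b a, ea_comm hA bA aA, mul_assoc z a b]
      · exact absurd (h1.trans h2.symm) (inj s)
    · have e1 : x * a * x⁻¹ = b := by rw [ha, hb, sq]; group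
      have e2 : x * b * x⁻¹ = z := by
        rw [hb, show x * (x ^ 2 * z * (x ^ 2)⁻¹) * x⁻¹ = x ^ 3 * z * (x ^ 3)⁻¹ by group, hx3]
        group
      rw [← mul_inv_eq_iff_eq_mul, show x * (z * a * b) * x⁻¹ =
        (x * z * x⁻¹) * (x * a * x⁻¹) * (x * b * x⁻¹) by group, ← ha, e1, e2,
        ea_comm hA (A.mul_mem aA bA) hz, mul_assoc z a b]
  refine ⟨hn, fun s hs hs' => ?_⟩
  rcases sa s hs with h1 | h1
  · refine absurd (h.mem_o2_of_fix hs hx xT (hC _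
      (P.mul_mem (P.mul_mem (P.inv_mem hx) (h.le hs)) hx) ?_)) hs'
    rw [show x⁻¹ * s * x * z * (x⁻¹ * s * x)⁻¹ = x⁻¹ * (s * a * s⁻¹) * x by rw [ha]; group, h1, ha]
    group
  · rw [commutatorElement_def, h1]
    have ea : a⁻¹ = a := inv_eq_of_mul_eq_one_right (by rw [← sq]; exact hA.2 a aA)
    have ez : z⁻¹ = z := inv_eq_of_mul_eq_one_right (by rw [← sq]; exact hA.2 z hz)
    rw [ea, ea_comm hA bA aA, ← ez]
    exact eq_inv_of_mul_eq_one_right (by rw [← mul_assoc]; exact hn)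

theorem jobXA : JobXA.{u} := by
  intro kk fr G _ _ M Q T R Q₀ E y t x h
  haveI : Fact (Nat.Prime 2) := ⟨Nat.prime_two⟩
  have T2 := h.kq.T2
  obtain ⟨z, hz, z1⟩ : ∃ z ∈ oZ 2 T, z ≠ 1 := by
    have := oZ_ne_bot T2 (fun e => h.nt (le_bot_iff.mp (e ▸ h.QT)))
    obtain ⟨⟨z, hz⟩, hz1⟩ := ne_bot_iff_exists_ne_one.mp this
    exact ⟨z, hz, fun e => hz1 (Subtype.ext e)⟩
  have xM : x ∈ M := h.FM (mem_sup_right (mem_zpowers x))
  have kq : Kq T Q₀ (zpowers x) :=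
    ⟨T2, h.kq.F3.to_le le_sup_right, h.kq.le, h.kq.TQ, le_sup_right.trans h.kq.FQ, h.kx⟩
  have hidx : T.relIndex (T ⊔ zpowers x) = 3 := by
    have h1 := (kk G T Q₀ _ kq).2.2.1
    have h2 := relIndex_mul_relIndex ⊥ T (T ⊔ zpowers x) bot_le le_sup_left
    rw [relIndex_bot_left, relIndex_bot_left, h1, Nat.card_zpowers, h.x3] at h2
    exact Nat.eq_of_mul_eq_mul_left Nat.card_pos h2
  obtain ⟨lt, ch⟩ := h.lx x xM h.x3 hidx
  have xP : x ∈ T ⊔ zpowers x := mem_sup_right (mem_zpowers x)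
  have yP : y ∈ T ⊔ zpowers y := mem_sup_right (mem_zpowers y)
  have zq : z ∈ Zq (Lx T x y) := oZ_le_Zq ch lt.le lt.o2_le hz
  have hW : ncl (Lx T x y) (zpowers z) ≤ Zq (Lx T x y) :=
    ncl_le ((zpowers_le (H := Zq (Lx T x y))).mpr zq) (le_No_Zq _)
  have eZ : IsElementaryAbelian 2 (Zq (Lx T x y)) := ea_oZ _
  have ZT : Zq (Lx T x y) ≤ T := (Zq_le _).trans lt.o2_le
  have gz : ∀ w ∈ oZ 2 T, w ≠ 1 → C1 w ≤ M := fun w hw w1 =>
    h.gd E (le_sup_left.trans h.FM) w w1 (by rw [← sq]; exact (mem_oZ.mp hw).2.2)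
      ⟨E, le_rfl, h.ea, h.c9.ge, fun e he => mem_C1.mpr (mem_Ce.mp (h.EZ he) w hw)⟩
  have zT : z ∈ Ce T := (mem_oZ.mp hz).2.1
  obtain ⟨l1, l2⟩ := line lt.h1.s3 xP h.x3 eZ ZT (lt.h1.leL.trans (le_No_Zq _)) zq zT z1
    (fun w hw e => mem_bot.mp (h.xZ ▸ (⟨hw, mem_C1.mpr e⟩ : w ∈ oZ 2 T ⊓ C1 x)))
  obtain ⟨l3, -⟩ := line lt.h2.s3 yP h.y3 eZ ZT (lt.h2.leL.trans (le_No_Zq _)) zq zT z1
    (fun w hw e => by_contra fun w1 => h.yM (gz w hw w1 (mem_C1.mpr e.symm)))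
  have eW := ea_of_le eZ hW
  have zW : z ∈ ncl (Lx T x y) (zpowers z) := le_ncl _ _ (mem_zpowers z)
  have DW : O2 (Lx T x y) ≤ Ce (ncl (Lx T x y) (zpowers z)) :=
    (le_centralizer_oZ _).trans (centralizer_anti hW)
  refine ⟨z, lt, eW, fun e => z1 (mem_bot.mp (e ▸ zW)), hW.trans (Zq_le _), DW, ?_, ?_⟩
  · refine fr G T _ _ _ _ ⊥ z lt bot_le (le_normalizer_ncl _ _) (le_normalizer_bot _)
      (fun a ha b hb => mem_bot.mpr (commutatorElement_eq_one_iff_mul_comm.mpr (ea_comm eW ha hb)))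
      (fun a ha => mem_bot.mpr (by rw [← sq]; exact eW.2 a ha))
      (fun q hq a ha => mem_bot.mpr
        (commutatorElement_eq_one_iff_mul_comm.mpr (mem_Ce.mp (DW hq) a ha).symm))
      zW (fun e => z1 (mem_bot.mp e))
      (fun s hs => mem_bot.mpr
        (commutatorElement_eq_one_iff_mul_comm.mpr (mem_Ce.mp zT s hs).symm))
      ⟨x, xP, h.x3, mem_bot.mpr l1⟩ ⟨y, yP, h.y3, mem_bot.mpr l3⟩
  · have PM : T ⊔ zpowers x ≤ M := sup_le h.TM ((zpowers_le (H := M)).mpr xM)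
    have QP : Q ≤ O2 (T ⊔ zpowers x) :=
      le_pCoreOf (T2.to_le h.QT) (h.QT.trans le_sup_left) (PM.trans h.MQ)
    have DR : O2 (Lx T x y) ≤ R := h.oR ▸ lt.h2.le
    obtain ⟨q, hqQ, hqR, hqD⟩ : ∃ q ∈ Q, q ∈ R ∧ q ∉ O2 (Lx T x y) := by
      obtain ⟨q₀, h1, h2⟩ := h.nQ
      have h3 : q₀ ∉ O2 (Lx T x y) := fun e => h2 (DR e)
      have h4 : x * q₀ * x⁻¹ ∈ Q := conj_mem_of_mem_normalizer (h.MQ xM) h1
      by_cases h5 : x * q₀ * x⁻¹ ∈ R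
      · exact ⟨_, h4, h5, lt.h1.conj_not_mem xP h3⟩
      · exact ⟨_, Q.mul_mem (Q.inv_mem h1) h4, h.mul _ (h.QT (Q.inv_mem h1)) _ (h.QT h4)
          (fun e => h2 (R.inv_mem_iff.mp e)) h5, lt.h1.ne_conj xP h.x3 (QP h1) h3⟩
    have sR : y⁻¹ * q * y ∈ R := conj_mem_of_mem_normalizer' h.yR hqR
    have sD : y⁻¹ * q * y ∉ O2 (Lx T x y) := by
      simpa using lt.h2.conj_not_mem (inv_mem yP) hqD
    have sP : y⁻¹ * q * y ∉ O2 (T ⊔ zpowers x) := fun e =>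
      lt.symm.not_le (lt.h2.le_of lt.h1.le yP h.y3 (h.oR.symm ▸ sR) sD e
        (by rw [show y * (y⁻¹ * q * y) * y⁻¹ = q by group]; exact QP hqQ))
    have hc := l2 _ (h.RT sR) sP
    have hq : ⁅q, y * (x * z * x⁻¹) * y⁻¹⁆ = y * z * y⁻¹ := by
      calc ⁅q, y * (x * z * x⁻¹) * y⁻¹⁆ = y * ⁅y⁻¹ * q * y, x * z * x⁻¹⁆ * y⁻¹ := by
            simp only [commutatorElement_def]; group
        _ = y * z * y⁻¹ := by rw [hc]
    refine ⟨q, hqQ, y * (x * z * x⁻¹) * y⁻¹,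
      conj_mem_of_mem_normalizer (le_normalizer_ncl _ _ (lt.h2.leL yP))
        (conj_mem_of_mem_normalizer (le_normalizer_ncl _ _ (lt.h1.leL xP)) zW), ?_, ?_⟩
    · rw [hq]
      intro e
      exact z1 (by simpa using e)
    · rw [hq]
      intro g hg
      refine mem_cj.mpr (gz z hz z1 (mem_C1.mpr ?_))
      have := mem_C1.mp hg
      calc z * (y⁻¹ * g * y) = y⁻¹ * (y * z * y⁻¹ * g) * y := by group
        _ = y⁻¹ * g * y * z := by rw [this]; group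

end H24.DPV
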