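import Cfsg.Agent.H96.U2CenSpec

/-! # S3275, chapter U2F central case: job `Q4` -/

set_option autoImplicit false

namespace H24.DPW

open Subgroup Cfsg H98 H48.DP H96.U2I H96.Cen

universe u

theorem exists_sqrt {G : Type*} [Group G] {F : Subgroup G} (hF : IsPGroup 3 F) {u : G}
    (hu : u ∈ F) : ∃ m : ℕ, u ^ m * u ^ m = u := by
  obtain ⟨k, hk⟩ := hF ⟨u, hu⟩
  have h1 : u ^ 3 ^ k = 1 := by simpa using congrArg Subtype.val hk
  obtain ⟨j, hj⟩ : Odd (3 ^ k) := Odd.pow (by decide)
  refine ⟨j + 1, ?_⟩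
  rw [← pow_add, show j + 1 + (j + 1) = 3 ^ k + 1 by omega, pow_succ, h1, one_mul]

theorem inv_aux {G : Type*} [Group G] {a : G} (aa : a * a = 1) (f : G) :
    a * (f * (a * f * a)⁻¹) * a = (f * (a * f * a)⁻¹)⁻¹ := by
  have ai : a⁻¹ = a := inv_eq_of_mul_eq_one_right aa
  simp only [mul_inv_rev, inv_inv, ai]
  calc a * (f * (a * (f⁻¹ * a))) * a = a * f * a * f⁻¹ * (a * a) := by group
    _ = a * f * a * f⁻¹ := by rw [aa, mul_one]

theorem decomp {G : Type*} [Group G] {F : Subgroup G} (hF : IsPGroup 3 F) {a : G}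
    (aa : a * a = 1) (nF : a ∈ No F) {f : G} (hf : f ∈ F) :
    ∃ i ∈ F, a * i * a = i⁻¹ ∧ Commute a (i⁻¹ * f) := by
  have ai : a⁻¹ = a := inv_eq_of_mul_eq_one_right aa
  have haf : a * f * a ∈ F := by simpa [ai] using conj_mem_of_mem_normalizer nF hf
  have hu : f * (a * f * a)⁻¹ ∈ F := F.mul_mem hf (F.inv_mem haf)
  obtain ⟨m, hm⟩ := exists_sqrt hF hu
  have h1 := inv_aux aa f
  set u := f * (a * f * a)⁻¹ with hudef
  have h2 : a * u ^ m * a = (u ^ m)⁻¹ := by
    have : a * u ^ m * a⁻¹ = (a * u * a⁻¹) ^ m := by rw [conj_pow]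
    rw [ai] at this
    rw [this, h1, inv_pow]
  refine ⟨u ^ m, F.pow_mem hu m, h2, ?_⟩
  set i := u ^ m
  have h3 : a * f * a = i⁻¹ * i⁻¹ * f := by
    rw [← mul_inv_rev, hm, hudef]; group
  have h4 : a * i⁻¹ * a = i := by
    have := congrArg (·⁻¹) h2
    simpa [mul_inv_rev, ai, mul_assoc] using this
  have h5 : a * (i⁻¹ * f) * a = i⁻¹ * f := by
    calc a * (i⁻¹ * f) * a = (a * i⁻¹ * a) * (a * f * a) := by
          have : a * i⁻¹ * a * (a * f * a) = a * i⁻¹ * (a * a) * f * a := by group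
          rw [this, aa]; group
      _ = i⁻¹ * f := by rw [h4, h3]; group
  calc a * (i⁻¹ * f) = a * (i⁻¹ * f) * (a * a) := by rw [aa, mul_one]
    _ = (a * (i⁻¹ * f) * a) * a := by group
    _ = (i⁻¹ * f) * a := by rw [h5]

theorem card_C {W : Type u} [AddCommGroup W] [Finite W] {F : Subgroup (Au W)} {a : Au W}
    {v c : W} (q : Qd F a v c) : Nat.card (F ⊓ C1 a : Subgroup (Au W)) ≤ 3 := by
  classical
  obtain ⟨p, hp⟩ := q.vp
  have key : ∀ k : (F ⊓ C1 a : Subgroup (Au W)), (k : Au W) • v ∈ ({v, c, v + c} : Finset W) := by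
    rintro ⟨k, hkF, hka⟩
    have hc : k * a = a * k := (mem_centralizer_singleton_iff.mp hka)
    have h1 : a • (k • p) = k • p + k • v := by
      rw [← mul_smul, ← hc, mul_smul, hp, smul_add]
    have h0 : k • v ≠ 0 := fun h => q.v0 ((smul_eq_zero_iff_eq k).mp h)
    simp only [Finset.mem_insert, Finset.mem_singleton]
    rcases q.im (k • p) with h | h | h | h
    · rw [h1] at h; exact absurd (add_eq_left.mp h) h0
    · exact Or.inl (by rw [h1] at h; exact add_left_cancel h)
    · exact Or.inr (Or.inl (by rw [h1] at h; exact add_left_cancel h))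
    · exact Or.inr (Or.inr (by rw [h1] at h; exact add_left_cancel h))
  let φ : (F ⊓ C1 a : Subgroup (Au W)) → ({v, c, v + c} : Finset W) := fun k => ⟨_, key k⟩
  have hφ : Function.Injective φ := by
    intro k l h
    have h1 : (k : Au W) • v = (l : Au W) • v := congrArg Subtype.val h
    have h2 : ((l : Au W)⁻¹ * k) • v = v := by rw [mul_smul, h1, inv_smul_smul]
    have h3 := q.reg _ (F.mul_mem (F.inv_mem l.2.1) k.2.1) h2
    exact Subtype.ext (inv_mul_eq_one.mp h3).symm
  have h := Nat.card_le_card_of_injective φ hφ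
  rw [Nat.card_eq_fintype_card (α := ({v, c, v + c} : Finset W)), Fintype.card_coe] at h
  exact h.trans Finset.card_le_three

theorem jobQ4 : JobQ4.{u} := by
  intro q4a W _ _ F a v c q hE
  obtain ⟨B, hBF, hBe, hB⟩ := hE
  haveI : Fact (Nat.Prime 3) := ⟨Nat.prime_three⟩
  have aa := q.aa
  have ai : a⁻¹ = a := inv_eq_of_mul_eq_one_right aa
  have hC := card_C q
  have hF27 : 27 ≤ Nat.card F := hB.trans (card_le_of_le hBF)
  have cjF : ∀ f ∈ F, a * f * a ∈ F := fun f hf => by
    simpa [ai] using conj_mem_of_mem_normalizer q.nF hf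
  -- the centre of `F` lies in `C`
  have hZC : F ⊓ Ce F ≤ F ⊓ C1 a := by
    rintro s ⟨hsF, hsZ⟩
    have hs : ∀ f ∈ F, Commute s f := fun f hf => (mem_centralizer_iff.mp hsZ f hf).symm
    have hs' : ∀ f ∈ F, Commute (a * s * a) f := fun f hf => by
      have h := (hs _ (cjF f hf)).eq
      calc a * s * a * f = a * (s * (a * f * a)) * a := by
            have : a * (s * (a * f * a)) * a = a * s * a * f * (a * a) := by group
            rw [this, aa, mul_one]
        _ = a * (a * f * a * s) * a := by rw [h]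
        _ = (a * a) * f * (a * s * a) := by group
        _ = f * (a * s * a) := by rw [aa, one_mul]
    have hu : s * (a * s * a)⁻¹ = 1 := by
      by_contra hu
      exact q4a W F a _ v c q hF27 (F.mul_mem hsF (F.inv_mem (cjF s hsF))) hu
        (fun f hf => (hs f hf).mul_left (hs' f hf).inv_left) (inv_aux aa s)
    refine ⟨hsF, mem_centralizer_singleton_iff.mpr ?_⟩
    have h := mul_inv_eq_one.mp hu
    calc s * a = a * s * a * a := by rw [← h]
      _ = a * s * (a * a) := by group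
      _ = a * s := by rw [aa, mul_one]
  have hZ3 : 3 ≤ Nat.card (F ⊓ Ce F : Subgroup (Au W)) := by
    haveI : Nontrivial F := Finite.one_lt_card_iff_nontrivial.mp (by omega)
    haveI := q.F3.center_nontrivial
    obtain ⟨z, hz⟩ := exists_ne (1 : center F)
    have hzm : ((z : F) : Au W) ∈ F ⊓ Ce F := by
      rw [← map_subtype_center]; exact ⟨z, z.2, rfl⟩
    have hz1 : ((z : F) : Au W) ≠ 1 := fun h => hz (Subtype.ext (Subtype.ext h))
    obtain ⟨n, hn⟩ := IsPGroup.iff_card.mp (q.F3.to_le (inf_le_left : F ⊓ Ce F ≤ F))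
    rcases n with _ | n
    · rw [pow_zero, card_eq_one] at hn
      rw [hn] at hzm
      exact absurd (mem_bot.mp hzm) hz1
    · rw [hn, pow_succ]; have : 0 < 3 ^ n := by positivity
      omega
  have hZ : F ⊓ Ce F = F ⊓ C1 a := eq_of_le_of_card_ge hZC (hC.trans hZ3)
  obtain ⟨b, hb, hbC⟩ : ∃ b ∈ B, b ∉ F ⊓ C1 a := by
    by_contra h
    push Not at h
    have := card_le_of_le (show B ≤ F ⊓ C1 a from h)
    omega
  obtain ⟨i, hi, hia, hk⟩ := decomp q.F3 aa q.nF (hBF hb)
  have hkC : i⁻¹ * b ∈ F ⊓ C1 a :=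
    ⟨F.mul_mem (F.inv_mem hi) (hBF hb), mem_centralizer_singleton_iff.mpr hk.eq.symm⟩
  have hi1 : i ≠ 1 := by
    rintro rfl
    exact hbC (by simpa using hkC)
  have hkZ : i⁻¹ * b ∈ Ce F := (hZ ▸ hkC : i⁻¹ * b ∈ F ⊓ Ce F).2
  have hBi : B ≤ F ⊓ C1 i := by
    intro x hx
    refine ⟨hBF hx, mem_centralizer_singleton_iff.mpr ?_⟩
    have h1 : Commute x (i⁻¹ * b) := mem_centralizer_iff.mp hkZ x (hBF hx)
    have h2 : Commute x b := by
      haveI := hBe.1
      exact congrArg Subtype.val (mul_comm' (⟨x, hx⟩ : B) ⟨b, hb⟩)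
    have h3 : i = b * (i⁻¹ * b)⁻¹ := by group
    rw [h3]
    exact (h2.mul_right h1.inv_right).eq
  have hn : a ∈ No (F ⊓ C1 i) := by
    apply mem_normalizer_of_cj_le
    intro y hy
    rw [mem_cj, ai] at hy
    obtain ⟨hy1, hy2⟩ := hy
    have hy3 : Commute (a * y * a) i := mem_centralizer_singleton_iff.mp hy2
    have e : ∀ t : Au W, a * (a * t * a) * a = t := fun t => by
      have : a * (a * t * a) * a = (a * a) * t * (a * a) := by group
      rw [this, aa, one_mul, mul_one]
    refine ⟨e y ▸ cjF _ hy1, mem_centralizer_singleton_iff.mpr ?_⟩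
    have h4 : Commute (a * y * a) (a * i * a) := hia ▸ hy3.inv_right
    have h5 : a * (y * i) * a = a * (i * y) * a := by
      have h6 := h4.eq
      have e2 : ∀ s t : Au W, a * s * a * (a * t * a) = a * (s * t) * a := fun s t => by
        have : a * s * a * (a * t * a) = a * s * (a * a) * t * a := by group
        rw [this, aa]; group
      rwa [e2, e2] at h6
    exact mul_left_cancel (mul_right_cancel h5)
  exact q4a W (F ⊓ C1 i) a i v c
    ⟨q.two, q.F3.to_le inf_le_left, aa, hn, q.v0, q.vp, q.im, fun f hf => q.reg f hf.1⟩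
    (hB.trans (card_le_of_le hBi)) ⟨hi, mem_centralizer_singleton_iff.mpr rfl⟩ hi1
    (fun f hf => (mem_centralizer_singleton_iff.mp hf.2 : f * i = i * f).symm) hia

end H24.DPW
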