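import Cfsg.Agent.H24.FS17K

/-! Tower FS: the slots T17A, T17B, T17C, T17. -/

set_option autoImplicit false
set_option linter.unusedSectionVars false

namespace H24.FS

open Cfsg Subgroup MulAction H82.FS
open H98 (conj_mem_of_mem_normalizer conj_mem_of_mem_normalizer' mem_sup_left_norm mem_sup_right_norm)
open scoped commutatorElement

universe u v

/-- Uniqueness of the decomposition. -/
theorem split {G : Type u} [Group G] {A B : Subgroup G} (h : A ⊓ B = ⊥) {d a b : G}
    (dA : d ∈ normalizer (A : Set G)) (dB : d ∈ normalizer (B : Set G)) (ha : a ∈ A) (hb : b ∈ B)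
    (e : d * (a * b) = a * b * d) : d * a = a * d := by
  have k : a⁻¹ * (d * a * d⁻¹) = b * (d * b * d⁻¹)⁻¹ := by
    rw [inv_mul_eq_iff_eq_mul, ← mul_assoc a, eq_mul_inv_iff_mul_eq, conj_mul, e, mul_inv_cancel_right]
  have : a⁻¹ * (d * a * d⁻¹) ∈ A ⊓ B := ⟨A.mul_mem (A.inv_mem ha) (conj_mem_of_mem_normalizer dA ha),
    k ▸ B.mul_mem hb (B.inv_mem (conj_mem_of_mem_normalizer dB hb))⟩
  rw [h, mem_bot, inv_mul_eq_one, eq_mul_inv_iff_mul_eq] at this
  exact this.symm

theorem jobT17A : JobT17A.{u, v} := by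
  intro z G Ω _ _ _ _ _ α β h N _ min nab
  by_contra ne
  have N1 : N ≠ ⊥ := fun e => nab (comm_of_le (e ▸ bot_le))
  have NC := inf_cen min nab
  set C := centralizer (N : Set G) with hC
  have cc : N ≤ centralizer (C : Set G) := le_centralizer_iff.1 le_rfl
  have nn : ∀ {K : Subgroup G} [K.Normal] (g : G), g ∈ normalizer (K : Set G) :=
    fun g => le_normalizer_of_normal (mem_top g)
  have ex : ∀ n ∈ N, ∃ c ∈ C, n * c ∈ (N ⊔ C) ⊓ stabilizer G α := fun n hn => by
    obtain ⟨c, hc, e⟩ := tr h ne α (n⁻¹ • α)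
    exact ⟨c, hc, mul_mem (mem_sup_left hn) (mem_sup_right hc), mem_stabilizer_iff.2 (by
      rw [mul_smul, e, smul_inv_smul])⟩
  obtain ⟨b, hb, rfl⟩ := tr h N1 α β
  have key : ∀ n ∈ N, ∀ c ∈ C, (n * c) • α = α → (n * c) • b • α = b • α → n * b = b * n :=
    fun n hn c hc e1 e2 => by
      have : (b⁻¹ * (n * b * n⁻¹)) • α = α := by
        rw [mul_smul, inv_smul_eq_iff, ← e2, smul_smul, mul_assoc n c, ← hc b hb, ← mul_assoc]
        conv_rhs => rw [show n * b * c = n * b * n⁻¹ * (n * c) by group, mul_smul, e1]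
      have := semi h ne (cc (mul_mem (inv_mem hb) (mul_mem (mul_mem hn hb) (inv_mem hn)))) this
      rw [inv_mul_eq_one, eq_mul_inv_iff_mul_eq] at this
      exact this.symm
  have b1 : b ∉ C := fun k => h.ne (by rw [show b = 1 from mem_bot.1 (NC ▸ ⟨hb, k⟩), one_smul])
  refine absurd (hz z h (D := (N ⊔ C) ⊓ stabilizer G α) inf_le_right
    (le_norm_inf le_normalizer_of_normal le_normalizer) (fun E hE nE => ?_) (fun e => nab ⟨⟨?_⟩⟩) ?_).2.2
    fun k => ?_
  rotate_right
  · obtain ⟨c, hc, hx⟩ := ex b hb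
    have e := k _ hx (by rw [smul_smul, mul_assoc, ← hc b hb, mul_smul, mem_stabilizer_iff.1 hx.2])
      fun t ht e => by
        obtain ⟨n, hn, c', hc', rfl⟩ := (mem_sup_right_norm le_normalizer_of_normal).1 ht.1
        have p := key n hn c' hc' ht.2 e
        have q : ⁅b * c, n * c'⁆ = ⁅c, c'⁆ := by
          have r1 : b * c * (n * c') = b * n * (c * c') := by rw [mul_assoc, ← mul_assoc c, ← hc n hn]; group
          have r2 : n * c' * (b * c) = b * n * (c' * c) := by
            rw [mul_assoc, ← mul_assoc c', ← hc' b hb, ← p]; group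
          rw [commutatorElement_def, mul_assoc, ← mul_inv_rev, r1, r2, commutatorElement_def,
            mul_assoc (c * c'), ← mul_inv_rev, mul_inv_rev (b * n), mul_assoc, ← mul_assoc (c * c'),
            ← (C.mul_mem (C.mul_mem hc hc') (C.inv_mem (C.mul_mem hc' hc))) _ (N.inv_mem (N.mul_mem hb hn))]
          group
        refine commutatorElement_eq_one_iff_commute.1 (semi h N1 (ω := α) ?_ ?_)
        · exact q ▸ C.mul_mem (C.mul_mem (C.mul_mem hc hc') (C.inv_mem hc)) (C.inv_mem hc')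
        · exact (stabilizer G α).mul_mem ((stabilizer G α).mul_mem ((stabilizer G α).mul_mem hx.2 ht.2)
            ((stabilizer G α).inv_mem hx.2)) ((stabilizer G α).inv_mem ht.2)
    exact b1 (eq_inv_of_mul_eq_one_left e ▸ C.inv_mem hc)
  · have : (N ⊓ (E ⊔ C)).Normal := H98.normal_of_top_le_normalizer fun g _ => by
      obtain ⟨c, hc, a, ha, rfl⟩ := fac h ne α g
      exact mul_mem (le_norm_inf le_normalizer_of_normal (le_sup_right.trans le_normalizer) hc)
        (le_norm_inf le_normalizer_of_normal (le_norm_sup nE le_normalizer_of_normal) ha)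
    refine (min _ this inf_le_left).imp (fun e => eq_bot_iff.2 fun x hx => ?_)
      fun e => le_antisymm hE fun d hd => ?_
    · obtain ⟨n, hn, c, hc, rfl⟩ := (mem_sup_right_norm le_normalizer_of_normal).1 (hE hx).1
      have : n ∈ N ⊓ (E ⊔ C) := ⟨hn, by
        simpa using (E ⊔ C).mul_mem (mem_sup_left hx) (mem_sup_right (C.inv_mem hc))⟩
      rw [e, mem_bot] at this
      have k := (hE hx).2
      rw [this, one_mul] at k ⊢
      exact semi h N1 hc k
    · obtain ⟨x, hx, c, hc, rfl⟩ := (mem_sup_left_norm le_normalizer_of_normal).1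
        (sup_le (e.ge.trans inf_le_right) le_sup_right hd.1)
      rwa [semi h N1 hc (by
        simpa using (stabilizer G α).mul_mem ((stabilizer G α).inv_mem (hE hx).2) hd.2), mul_one]
  · rintro ⟨n, hn⟩ ⟨m, hm⟩
    obtain ⟨c, hc, p⟩ := ex n hn
    obtain ⟨c', hc', q⟩ := ex m hm
    have := split NC (nn _) (nn _) hm hc' (congrArg Subtype.val (e.1.1 ⟨_, p⟩ ⟨_, q⟩))
    rw [mul_assoc, ← hc m hm, ← mul_assoc, ← mul_assoc, mul_left_inj] at this
    exact Subtype.ext this
  · by_contra! e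
    refine b1 fun n hn => ?_
    obtain ⟨c, hc, p⟩ := ex n hn
    exact key n hn c hc p.2 (e _ p)

theorem jobT17B : JobT17B.{u, v} := by
  intro G Ω _ _ _ _ _ α β h N T s ne
  have := s.norm
  have := h.prim
  by_contra no
  have cN : ∀ g, cj g N = N := fun g => cj_eq_iff.2 (le_normalizer_of_normal (mem_top g))
  have cH : ∀ a ∈ stabilizer G α, cj a (stabilizer G α) = stabilizer G α :=
    fun a ha => cj_eq_iff.2 (le_normalizer ha)
  let P := fun g => cj g T ⊓ (N ⊓ stabilizer G α ⊔ N ⊓ centralizer (cj g T : Set G))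
  have nJ : stabilizer G α ≤ normalizer ((⨆ g, P g : Subgroup G) : Set G) := fun a ha =>
    norm_of_cj_le (by
      rw [cj, Subgroup.map_iSup]
      refine iSup_le fun g => le_iSup_of_le (a * g) (le_of_eq ?_)
      change cj a (P g) = _
      simp only [P, cj_inf, cj_sup, cj_cen, cj_cj, cN, cH a ha])
  have JH : ⨆ g, P g ≤ stabilizer G α := by
    by_contra k
    refine no fun t ht => ?_
    obtain ⟨j, hj, a, ha, rfl⟩ := (mem_sup_right_norm nJ).1
      (((coat h α).2 _ (right_lt_sup.2 k)).ge (mem_top t))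
    have j1 : j ∈ N := (iSup_le fun g => inf_le_left.trans (soc_cj s g).le : ⨆ g, P g ≤ N) hj
    refine mul_mem ((iSup_le fun g => ?_ : ⨆ g, P g ≤ _) hj) (mem_sup_left ⟨by
      simpa using N.mul_mem (N.inv_mem j1) (s.le ht), ha⟩)
    by_cases e : cj g T = T
    · simp only [P, e]; exact inf_le_right
    · exact inf_le_left.trans ((le_inf (soc_cj s g).le (s.comm g e)).trans le_sup_right)
  have s0 : ∀ g, ∀ n ∈ N, n • α = α → ∀ t ∈ cj g T, t⁻¹ * n ∈ centralizer (cj g T : Set G) →
      t • α = α := fun g n hn e t ht c => JH (mem_iSup_of_mem g ⟨ht, by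
    simpa using (N ⊓ stabilizer G α ⊔ N ⊓ centralizer (cj g T : Set G)).mul_mem (mem_sup_left ⟨hn, e⟩)
      (mem_sup_right (inv_mem ⟨N.mul_mem (N.inv_mem ((soc_cj s g).le ht)) hn, c⟩))⟩)
  obtain ⟨k, hk⟩ := exists_smul_eq G α β
  have s1 : ∀ g, ∀ n ∈ N, n • β = β → ∀ t ∈ cj g T, t⁻¹ * n ∈ centralizer (cj g T : Set G) →
      t • β = β := fun g n hn e t ht c => by
    have := s0 (k⁻¹ * g) (k⁻¹ * n * k) (s.norm.conj_mem' n hn k)
      (by rw [mul_smul, mul_smul, hk, e, ← hk, inv_smul_smul]) (k⁻¹ * t * k)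
      (by rw [← cj_cj, mem_cj]; simpa [mul_assoc] using ht)
      (by rw [← cj_cj, ← cj_cen, mem_cj]; simpa [mul_assoc] using c)
    rwa [mul_smul, mul_smul, hk, inv_smul_eq_iff, hk] at this
  obtain ⟨d0, hd0, m0⟩ := mv h ne
  have mo : ∀ g, ∃ p ∈ cj g T, p • α = α ∧ p • β ≠ β := fun g1 => by
    by_contra! e
    have all : ∀ g, ∀ p ∈ cj g T, p • α = α → p • β = β := fun g p hp pa => by
      obtain ⟨a, ha, e1⟩ := cj_eq h (soc_cj s g1) (g * g1⁻¹)
      rw [cj_cj, inv_mul_cancel_right] at e1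
      rw [e1, mem_cj] at hp
      have q : (a⁻¹ * p * a) • α = α := by
        rw [mul_smul, mul_smul, mem_stabilizer_iff.1 ha, pa, inv_smul_eq_iff, mem_stabilizer_iff.1 ha]
      suffices k : (a⁻¹ * p * a) • a⁻¹ • β = a⁻¹ • β by
        simpa [mul_smul] using k
      generalize a⁻¹ * p * a = r at hp q
      by_cases e2 : a⁻¹ • β = β
      · rw [e2, e r hp q]
      obtain ⟨c, hc, c1, c2⟩ := two h hd0.2 (inv_mem ha) m0 e2
      have d1 : c * d0 * c⁻¹ ∈ N := s.norm.conj_mem _ hd0.1 c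
      have d2 : c * d0 * c⁻¹ ∈ stabilizer G α := mul_mem (mul_mem hc hd0.2) (inv_mem hc)
      have d3 : (c * d0 * c⁻¹) • β = a⁻¹ • β := by
        rw [mul_smul, mul_smul, inv_smul_eq_iff.2 c1.symm, c2]
      generalize c * d0 * c⁻¹ = d at d1 d2 d3
      have := e _ (conj_mem_of_mem_normalizer' ((soc_cj s g1).tn d1) hp)
        ((stabilizer G α).mul_mem ((stabilizer G α).mul_mem (inv_mem d2) q) d2)
      rwa [mul_smul, mul_smul, inv_smul_eq_iff, d3] at this
    have J0 : (⨆ g, cj g T ⊓ stabilizer G α) = ⊥ := bot_of h hk (iSup_le fun _ => inf_le_right)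
      (fun a ha => norm_of_cj_le (by
        rw [cj, Subgroup.map_iSup]
        refine iSup_le fun g => le_iSup_of_le (a * g) (le_of_eq ?_)
        change cj a _ = _
        rw [cj_inf, cj_cj, cH a ha])) (by
        rw [cj, Subgroup.map_iSup]
        refine iSup_le fun g => le_iSup_of_le (k⁻¹ * g) ?_
        change _ ≤ cj k _
        rw [cj_inf, cj_cj, mul_inv_cancel_left, st_cj, hk]
        exact fun p hp => ⟨hp.1, all g p hp.1 hp.2⟩)
    refine m0 (by
      rw [soc_one s hd0.1 fun g => ?_, one_smul]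
      obtain ⟨t, ht, c⟩ := (soc_cj s g).dec d0 hd0.1
      have : t = 1 := mem_bot.1 (J0 ▸ mem_iSup_of_mem g ⟨ht, s0 g d0 hd0.1 hd0.2 t ht c⟩)
      simpa [this] using c)
  obtain ⟨g, hg⟩ : ∃ g, cj g T ≠ T := by
    by_contra! e
    exact s.ne (le_antisymm s.le (le_of_cj s.min s.le (soc_ne s) fun g => (e g).le))
  obtain ⟨p, hp, pa, pb⟩ := mo 1
  obtain ⟨q, hq, qa, qb⟩ := mo g
  have s2 := s1 1
  rw [cj_one] at hp s2
  have qN := (soc_cj s g).le hq
  have pq : (p * q) • β ≠ β := fun e =>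
    pb (s2 _ (N.mul_mem (s.le hp) qN) e p hp (by simpa using s.comm g hg hq))
  obtain ⟨c, hc, c1, c2⟩ := two h pa ((stabilizer G α).mul_mem pa qa) pb pq
  have t1 : c * p * c⁻¹ ∈ cj c T := conj_mem_cj hp
  have t2 : ((c * p * c⁻¹)⁻¹ * p * q) • β = β := by
    rw [mul_assoc, mul_smul, inv_smul_eq_iff, ← c2, mul_smul, mul_smul, inv_smul_eq_iff.2 c1.symm]
  generalize c * p * c⁻¹ = t at t1 t2
  have nN := N.mul_mem (N.mul_mem (N.inv_mem ((soc_cj s c).le t1)) (s.le hp)) qN
  by_cases e : cj c T = T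
  · rw [e] at t1
    have := le_centralizer_iff.1 (s.comm g hg) (T.mul_mem (T.inv_mem t1) hp)
    refine qb (s1 g _ nN t2 q hq ?_)
    rwa [← this q hq, inv_mul_cancel_left]
  · have := inv_mem (s.comm c e t1)
    refine pb (s2 _ nN t2 p hp ?_)
    rw [← this p hp, mul_assoc, inv_mul_cancel_left]
    exact mul_mem this (s.comm g hg hq)

theorem cov {G : Type u} [Group G] [Finite G] {N T D F : Subgroup G} (s : Soc N T) (hD : D ≤ N)
    (c : T ≤ D ⊔ centralizer (T : Set G)) (hF : F ≤ N) (n : D ≤ normalizer (F : Set G))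
    (k : ¬ F ≤ centralizer (T : Set G)) : N ≤ F ⊔ centralizer (T : Set G) := by
  rcases bot_or s.simple (inf_le_left : T ⊓ (F ⊔ centralizer (T : Set G)) ≤ T) (le_norm_inf le_normalizer
    (c.trans (sup_le (le_norm_sup n (le_norm_cen (hD.trans s.tn))) (le_sup_right.trans le_normalizer))))
    with e | e
  · refine (k fun f hf => ?_).elim
    obtain ⟨t, ht, p⟩ := s.dec f (hF hf)
    have : t = 1 := mem_bot.1 (e ▸ ⟨ht, by
      simpa using (F ⊔ centralizer (T : Set G)).mul_mem (mem_sup_left hf) (mem_sup_right (inv_mem p))⟩)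
    simpa [this] using p
  · intro x hx
    obtain ⟨t, ht, p⟩ := s.dec x hx
    simpa using mul_mem (e.ge ht).2 (mem_sup_right p)

theorem ncomm {G : Type u} [Group G] [Finite G] {N T F : Subgroup G} (s : Soc N T) (hF : F ≤ N)
    (c : N ≤ F ⊔ centralizer (T : Set G)) : ¬ ⁅F, F⁆ ≤ centralizer (T : Set G) := fun k => by
  have n : F ≤ normalizer (centralizer (T : Set G) : Set G) := le_norm_cen (hF.trans s.tn)
  refine s.nab (comm_of_le (commutator_eq_bot_iff_le_centralizer.1 (le_bot_iff.1 ?_)))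
  rw [← soc_Z s]
  exact le_inf (H98.commutator_le_of_le le_rfl le_rfl)
    ((commutator_mono (s.le.trans c) (s.le.trans c)).trans (H98.commutator_sup_left_le n le_normalizer
      (H98.commutator_sup_right_le n le_normalizer k (comm_le_right n))
      (comm_le_left (sup_le n le_normalizer))))

theorem jobT17C : JobT17C.{u, v} := by
  intro z G Ω _ _ _ _ _ α β h N T s c
  have := s.norm
  set D := N ⊓ stabilizer G α with hD
  have DN : D ≤ N := inf_le_left
  have nD : stabilizer G α ≤ normalizer (D : Set G) := le_norm_inf le_normalizer_of_normal le_normalizer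
  have c1 : ∀ g, cj g T ≤ D ⊔ centralizer (cj g T : Set G) := fun g => by
    obtain ⟨a, ha, e⟩ := cj_eq h s g
    rw [e, ← cj_cen, ← cj_eq_iff.2 (nD ha), ← cj_sup]
    exact cj_mono a (c.trans (sup_le_sup_left inf_le_right _))
  have all : ∀ E ≤ D, stabilizer G α ≤ normalizer (E : Set G) → E ≠ ⊥ → ∀ g,
      N ≤ E ⊔ centralizer (cj g T : Set G) := fun E hE nE ne g => by
    refine cov (soc_cj s g) DN (c1 g) (hE.trans DN) (inf_le_right.trans nE) fun k => ne ?_
    refine eq_bot_iff.2 fun x hx => soc_one (soc_cj s g) (hE hx).1 fun g' => ?_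
    obtain ⟨a, ha, e⟩ := cj_eq h (soc_cj s g) g'
    rw [e, ← cj_cen]
    exact cj_mono a k ((cj_eq_iff.2 (nE ha)).ge hx)
  have D1 : D ≠ ⊥ := fun e => s.nab (comm_of_le (c.trans (by rw [e, bot_sup_eq]; exact inf_le_right)))
  have nab : ¬ IsMulCommutative D := fun e => ncomm (soc_cj s 1) DN (all D le_rfl nD D1 1) (by
    rw [commutator_eq_bot_iff_le_centralizer.2 (le_centralizer_iff_isMulCommutative.2 e)]; exact bot_le)
  obtain ⟨sD, mx, zc⟩ := hz z h inf_le_right nD (fun E hE nE => or_iff_not_imp_left.2 fun ne => by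
    obtain ⟨I, ⟨i1, i2, i3⟩, i4⟩ := exists_minimal_of_wellFoundedLT (fun I : Subgroup G => I ≤ D ∧
      D ≤ normalizer (I : Set G) ∧ D ≤ E ⊔ I) ⟨D, le_rfl, le_normalizer, le_sup_right⟩
    suffices k : I = ⊥ from le_antisymm hE (by rwa [k, sup_bot_eq] at i3)
    refine eq_bot_iff.2 fun x hx => soc_one s (i1 hx).1 fun g => ?_
    revert x
    change I ≤ _
    by_contra k
    have sg := soc_cj s g
    generalize hC : centralizer (cj g T : Set G) = C at k
    have nC : N ≤ normalizer (C : Set G) := hC ▸ le_norm_cen sg.tn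
    have IN := i1.trans DN
    have II : ⁅I, I⁆ ≤ I := H98.commutator_le_of_le le_rfl le_rfl
    have a1 := cov sg DN (c1 g) (II.trans IN) (le_norm_comm i2 i2)
      (ncomm sg IN (cov sg DN (c1 g) IN i2 (hC ▸ k)))
    have a2 := all E hE nE ne g
    rw [hC] at a1 a2
    have nF : D ≤ normalizer ((E ⊔ I ⊓ C : Subgroup G) : Set G) :=
      le_norm_sup (inf_le_right.trans nE) (le_norm_inf i2 (DN.trans nC))
    have a3 : I ≤ E ⊔ D ⊓ C := by
      rw [inf_comm D, ← H98.sup_inf_of_le_left (C := D) ((hE.trans DN).trans nC) hE]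
      exact le_inf (IN.trans a2) i1
    have a4 : ⁅I, I⁆ ≤ E ⊔ I ⊓ C := (commutator_mono le_rfl a3).trans
      (H98.commutator_sup_right_le (hE.trans nF) (inf_le_left.trans nF)
        ((comm_le_right (i1.trans (inf_le_right.trans nE))).trans le_sup_left)
        ((le_inf (comm_le_left (inf_le_left.trans i2)) ((commutator_mono le_rfl inf_le_right).trans
          (comm_le_right (IN.trans nC)))).trans le_sup_right))
    have a5 : I ≤ ⁅I, I⁆ ⊔ C ⊓ I := by
      rw [← H98.sup_inf_of_le_left ((II.trans IN).trans nC) II]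
      exact le_inf (IN.trans a1) le_rfl
    exact k ((i4 (y := I ⊓ C) ⟨inf_le_left.trans i1, le_norm_inf i2 (DN.trans nC), i3.trans (sup_le
      le_sup_left (a5.trans (sup_le a4 ((inf_comm C I).le.trans le_sup_right))))⟩ inf_le_left).trans
        inf_le_right)) nab (mv h D1)
  have M0 : ∀ g, D ⊓ centralizer (cj g T : Set G) = ⊥ := fun g =>
    (bot_or sD inf_le_left (le_norm_inf le_normalizer (le_norm_cen (DN.trans (soc_cj s g).tn)))).resolve_right
      fun e => (soc_cj s g).nab (comm_of_le ((c1 g).trans (sup_le (e.ge.trans inf_le_right) le_rfl)))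
  have nC : ∀ g, D ≤ normalizer (centralizer (cj g T : Set G) : Set G) :=
    fun g => le_norm_cen (DN.trans (soc_cj s g).tn)
  obtain ⟨n0, h0, rfl⟩ := tr h (fun e => soc_ne s (le_bot_iff.1 (e ▸ s.le))) α β
  obtain ⟨n, hn, d, hd, rfl⟩ := (mem_sup_right_norm (nC 1)).1 (sup_comm D _ ▸ all D le_rfl nD D1 1 h0)
  have nN : n ∈ N := by simpa using N.mul_mem h0 (N.inv_mem hd.1)
  rw [mul_smul, mem_stabilizer_iff.1 hd.2] at h mx zc
  have cm : ∀ y ∈ D, y • n • α = n • α → y * n = n * y := fun y hy e => by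
    have : n⁻¹ * (y * n * y⁻¹) ∈ D ⊓ centralizer (cj 1 T : Set G) :=
      ⟨⟨N.mul_mem (N.inv_mem nN) (s.norm.conj_mem n nN y), mem_stabilizer_iff.2 (by
        rw [mul_smul, mul_smul, mul_smul,
          mem_stabilizer_iff.1 ((stabilizer G α).inv_mem hy.2), e, inv_smul_smul])⟩,
        Subgroup.mul_mem _ (Subgroup.inv_mem _ hn) (conj_mem_of_mem_normalizer (nC 1 hy) hn)⟩
    rw [M0, mem_bot, inv_mul_eq_one, eq_mul_inv_iff_mul_eq] at this
    exact this.symm
  obtain ⟨g, hg⟩ : ∃ g, n ∉ centralizer (cj g T : Set G) := by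
    by_contra! e
    exact h.ne (by rw [soc_one s nN e, one_smul])
  obtain ⟨x, hx, y, hy, e⟩ := (mem_sup_left_norm (nC g)).1 (all D le_rfl nD D1 g nN)
  have x1 : x ≠ 1 := fun k => hg (by rwa [e, k, one_mul])
  have cx : ∀ t ∈ D, t • n • α = n • α → t * x = x * t := fun t ht k =>
    split (M0 g) (le_normalizer ht) (nC g ht) hx hy (e ▸ cm t ht k)
  rcases mx (D ⊓ centralizer {x}) (fun t ht => ⟨ht.1, mem_centralizer_singleton_iff.2 (cx t ht.1 ht.2)⟩)
    inf_le_left with k | k
  · exact x1 (zc x hx (k.le ⟨hx, mem_centralizer_singleton_iff.2 rfl⟩).2 fun t ht p => (cx t ht p).symm)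
  · refine x1 (mem_bot.1 (((bot_or sD inf_le_left (le_norm_inf le_normalizer
      (le_norm_cen le_normalizer))).resolve_right fun e => nab (comm_of_le (e.ge.trans inf_le_right))) ▸
        ⟨hx, fun t ht => mem_centralizer_singleton_iff.1 (k.ge ht).2⟩))

theorem jobT17 : JobT17.{u, v} := by
  intro jA jB jC z G Ω _ _ _ _ _ α β h
  have := h.prim
  obtain ⟨N, N1, -, nN, min⟩ := exists_min (N := (⊤ : Subgroup G)) fun e => h.ne (by
    obtain ⟨g, rfl⟩ := exists_smul_eq G α β
    rw [show g = 1 from mem_bot.1 (e ▸ mem_top g), one_smul])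
  have hN := H98.normal_of_top_le_normalizer nN
  replace min : ∀ M : Subgroup G, M.Normal → M ≤ N → M = ⊥ ∨ M = N :=
    fun M _ k => min M k le_normalizer_of_normal
  have pt : IsPretransitive N Ω := ⟨fun a b => let ⟨n, hn, e⟩ := tr h N1 a b; ⟨⟨n, hn⟩, e⟩⟩
  have uq : centralizer (N : Set G) ≤ N → ∀ M : Subgroup G, M.Normal → M ≠ ⊥ → N ≤ M := fun c M _ ne =>
    (min (M ⊓ N) inferInstance inf_le_right).elim (fun e => (ne (by
      rw [← e, inf_eq_left.2 ((commutator_eq_bot_iff_le_centralizer.1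
        (le_bot_iff.1 ((commutator_le_inf M N).trans e.le))).trans c)])).elim)
      fun e => e.ge.trans inf_le_left
  by_cases ab : IsMulCommutative N
  · refine .inr ⟨N, hN, N1, uq fun m hm => ?_, pt, fun ω => eq_bot_iff.2 fun n hn =>
      Subtype.ext (semi h N1 (le_centralizer_iff_isMulCommutative.2 ab n.2) hn)⟩
    obtain ⟨n, hn, e⟩ := tr h N1 α (m • α)
    have := semi h N1 (mul_mem (inv_mem (le_centralizer_iff_isMulCommutative.2 ab hn)) hm) (ω := α)
      (by rw [mul_smul, ← e, inv_smul_smul])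
    rwa [← inv_mul_eq_one.1 this]
  have C0 := jA z G Ω α β h N hN min ab
  by_cases sN : IsSimpleGroup N
  · exact .inl ⟨N, hN, sN, ab, C0⟩
  by_cases D0 : N ⊓ stabilizer G α = ⊥
  · refine .inr ⟨N, hN, N1, uq (C0 ▸ bot_le), pt, fun ω => eq_bot_iff.2 fun n hn => ?_⟩
    obtain ⟨g, rfl⟩ := exists_smul_eq G α ω
    have hn : (n : G) • g • α = g • α := hn
    have : g⁻¹ * n * g ∈ N ⊓ stabilizer G α := ⟨hN.conj_mem' _ n.2 g, mem_stabilizer_iff.2 (by
      rw [mul_smul, mul_smul, hn, inv_smul_smul])⟩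
    rw [D0, mem_bot, mul_assoc, inv_mul_eq_one, right_eq_mul] at this
    exact Subtype.ext this
  obtain ⟨T, T1, TN, nT, mT⟩ := exists_min N1
  have simp : N ≤ T ⊔ centralizer (T : Set G) → IsSimpleGroup T := fun k =>
    have := (nontrivial_iff_ne_bot T).2 T1
    ⟨fun P _ => (mT (P.map T.subtype) (map_subtype_le P) (k.trans (sup_le (H98.le_normalizer_map_subtype P)
      ((centralizer_le (map_subtype_le P)).trans (centralizer_le_normalizer _))))).imp
        (map_eq_bot_iff_of_injective _ T.subtype_injective).1 fun e => map_injective T.subtype_injective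
          (e.trans ((range_subtype T).symm.trans (MonoidHom.range_eq_map _)))⟩
  have cN : ∀ g, cj g N = N := fun g => cj_eq_iff.2 (le_normalizer_of_normal (mem_top g))
  have cm : ∀ g, cj g T ≠ T → cj g T ≤ centralizer (T : Set G) := fun g hg => by
    have n : N ≤ normalizer (cj g T : Set G) := by rw [← cj_norm, ← cN g]; exact cj_mono g nT
    have e := (mT (cj g T ⊓ T) inf_le_right (le_norm_inf n nT)).resolve_right fun e =>
      hg (eq_of_le_of_card_ge (e.ge.trans inf_le_left) (card_cj g T).le).symm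
    exact commutator_eq_bot_iff_le_centralizer.1 (le_bot_iff.1 ((le_inf (comm_le_left (TN.trans n))
      (comm_le_right (((cj_mono g TN).trans (cN g).le).trans nT))).trans e.le))
  have gen : N ≤ T ⊔ centralizer (T : Set G) := le_of_cj min TN T1 fun g =>
    (em (cj g T = T)).elim (fun e => e.le.trans le_sup_left) fun e => (cm g e).trans le_sup_right
  have s : Soc N T := ⟨hN, min, TN, fun e => sN (e ▸ simp gen), nT, simp gen, fun e => T1 (le_bot_iff.1
    (C0 ▸ le_centralizer_iff.1 (gen.trans (sup_le (le_centralizer_iff_isMulCommutative.2 e) le_rfl)))),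
    fun n hn => by
      obtain ⟨t, ht, c, hc, rfl⟩ := (mem_sup_left_norm (le_norm_cen le_normalizer)).1 (gen hn)
      exact ⟨t, ht, by simpa using hc⟩, cm⟩
  exact (jC z G Ω α β h N T s (jB G Ω α β h N T s D0)).elim

end H24.FS
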