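import Cfsg.Agent.H82.FSSpec3
import Cfsg.Agent.H98.Basic

/-! Tower FS: kit for the slots T17A, T17B, T17C, T17. -/

set_option autoImplicit false
set_option linter.unusedSectionVars false

namespace H24.FS

open Cfsg Subgroup MulAction H82.FS
open H98 (conj_mem_of_mem_normalizer conj_mem_of_mem_normalizer' mem_sup_left_norm mem_sup_right_norm)
open scoped commutatorElement

universe u v

variable {G : Type u} [Group G] [Finite G]

theorem bot_or {M P : Subgroup G} (h : IsSimpleGroup M) (h1 : P ≤ M)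
    (h2 : M ≤ normalizer (P : Set G)) : P = ⊥ ∨ P = M :=
  (normal_subgroupOf_of_le_normalizer h2).eq_bot_or_eq_top.imp
    (fun e => (subgroupOf_eq_bot.1 e).eq_bot_of_le h1) fun e => le_antisymm h1 (subgroupOf_eq_top.1 e)

theorem exists_min {N : Subgroup G} (h : N ≠ ⊥) : ∃ T, T ≠ ⊥ ∧ T ≤ N ∧ N ≤ normalizer (T : Set G) ∧
    ∀ P, P ≤ T → N ≤ normalizer (P : Set G) → P = ⊥ ∨ P = T := by
  obtain ⟨T, ⟨h1, h2, h3⟩, h4⟩ := exists_minimal_of_wellFoundedLT
    (fun T : Subgroup G => T ≠ ⊥ ∧ T ≤ N ∧ N ≤ normalizer (T : Set G)) ⟨N, h, le_rfl, le_normalizer⟩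
  exact ⟨T, h1, h2, h3, fun P p q => or_iff_not_imp_left.2 fun e => le_antisymm p (h4 ⟨e, p.trans h2, q⟩ p)⟩

theorem comm_of_le {M : Subgroup G} (h : M ≤ centralizer (M : Set G)) : IsMulCommutative M :=
  le_centralizer_iff_isMulCommutative.1 h

theorem le_of_cj {N T K : Subgroup G} [N.Normal]
    (min : ∀ M : Subgroup G, M.Normal → M ≤ N → M = ⊥ ∨ M = N) (le : T ≤ N) (ne : T ≠ ⊥)
    (h : ∀ g, cj g T ≤ K) : N ≤ K := by
  rw [← (min _ normalClosure_normal (normalClosure_le_normal le)).resolve_left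
    fun e => ne (le_bot_iff.1 (e ▸ le_normalClosure))]
  refine (closure_le _).2 fun x hx => ?_
  obtain ⟨t, ht, e⟩ := Group.mem_conjugatesOfSet_iff.1 hx
  obtain ⟨g, rfl⟩ := isConj_iff.1 e
  exact h g (conj_mem_cj ht)

theorem inf_cen {N : Subgroup G} [N.Normal]
    (min : ∀ M : Subgroup G, M.Normal → M ≤ N → M = ⊥ ∨ M = N) (nab : ¬ IsMulCommutative N) :
    N ⊓ centralizer (N : Set G) = ⊥ :=
  (min _ inferInstance inf_le_left).resolve_right fun e => nab (comm_of_le (e.ge.trans inf_le_right))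

section Soc

variable {N T : Subgroup G}

theorem soc_cj (h : Soc N T) (g : G) : Soc N (cj g T) := by
  have := h.norm
  have e : cj g N = N := cj_eq_iff.2 (le_normalizer_of_normal (mem_top g))
  have i := T.equivMapOfInjective (MulAut.conj g).toMonoidHom (MulAut.conj g).injective
  have := h.simple
  refine ⟨h.norm, h.min, e ▸ cj_mono g h.le, fun k => h.ne (cj_inj (k.trans e.symm)),
    by rw [← cj_norm, ← e]; exact cj_mono g h.tn, i.symm.isSimpleGroup,
    fun k => h.nab ⟨⟨fun a b => i.injective (by rw [map_mul, map_mul, k.1.1])⟩⟩, fun n hn => ?_,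
    fun k hk => ?_⟩
  · obtain ⟨t, ht, p⟩ := h.dec (g⁻¹ * n * g) (h.norm.conj_mem' n hn g)
    refine ⟨_, conj_mem_cj ht, ?_⟩
    rw [← cj_cen, mem_cj]
    simpa [mul_assoc] using p
  · have p : cj k (cj g T) = cj g (cj (g⁻¹ * k * g) T) := by rw [cj_cj, cj_cj]; congr 1; group
    rw [← cj_cen, p]
    exact cj_mono g (h.comm _ fun q => hk (by rw [p, q]))

theorem soc_ne (h : Soc N T) : T ≠ ⊥ := fun e => h.nab (comm_of_le (e ▸ bot_le))

theorem soc_Z (h : Soc N T) : T ⊓ centralizer (T : Set G) = ⊥ :=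
  (bot_or h.simple inf_le_left (le_norm_inf le_normalizer (le_norm_cen le_normalizer))).resolve_right
    fun e => h.nab (comm_of_le (e.ge.trans inf_le_right))

theorem soc_one (h : Soc N T) {n : G} (hn : n ∈ N) (c : ∀ g, n ∈ centralizer (cj g T : Set G)) :
    n = 1 := by
  have := h.norm
  have k : N ≤ centralizer (zpowers n : Set G) := le_of_cj h.min h.le (soc_ne h) fun g =>
    le_centralizer_iff.1 (zpowers_le.2 (c g))
  exact mem_bot.1 (inf_cen h.min (fun e => h.nab ⟨⟨fun a b => Subtype.ext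
    (congrArg Subtype.val (e.1.1 ⟨a, h.le a.2⟩ ⟨b, h.le b.2⟩) :)⟩⟩) ▸
      ⟨hn, le_centralizer_iff.1 k (mem_zpowers n)⟩)

end Soc

variable {Ω : Type v} [MulAction G Ω] [FaithfulSMul G Ω] {α β : Ω}

theorem one_of_fix {g : G} (h : ∀ ω : Ω, g • ω = ω) : g = 1 :=
  eq_of_smul_eq_smul (α := Ω) fun ω => by rw [h, one_smul]

theorem st_cj (g : G) (ω : Ω) : cj g (stabilizer G ω) = stabilizer G (g • ω) :=
  (stabilizer_smul_eq_stabilizer_map_conj g ω).symm

theorem coat (h : Hy G Ω α β) (ω : Ω) : IsCoatom (stabilizer G ω) :=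
  have := h.prim
  have : Nontrivial Ω := ⟨_, _, h.ne⟩
  (isCoatom_stabilizer_iff_preprimitive G ω).2 h.prim

theorem fac (h : Hy G Ω α β) {N : Subgroup G} [hN : N.Normal] (ne : N ≠ ⊥) (ω : Ω) (g : G) :
    ∃ n ∈ N, ∃ a ∈ stabilizer G ω, g = n * a := by
  have := h.prim
  refine (mem_sup_right_norm le_normalizer_of_normal).1 (((coat h ω).2 _ (right_lt_sup.2 fun e =>
    ne (eq_bot_iff.2 fun n hn => one_of_fix fun ω' : Ω => ?_))).ge (mem_top g))
  obtain ⟨k, rfl⟩ := exists_smul_eq G ω ω'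
  have : (k⁻¹ * n * k) • ω = ω := e (hN.conj_mem' n hn k)
  rwa [mul_smul, mul_smul, inv_smul_eq_iff] at this

theorem tr (h : Hy G Ω α β) {N : Subgroup G} [N.Normal] (ne : N ≠ ⊥) (ω ω' : Ω) :
    ∃ n ∈ N, n • ω = ω' := by
  have := h.prim
  obtain ⟨g, rfl⟩ := exists_smul_eq G ω ω'
  obtain ⟨n, hn, a, ha, rfl⟩ := fac h ne ω g
  exact ⟨n, hn, by rw [mul_smul, mem_stabilizer_iff.1 ha]⟩

/-- An element centralising a transitive subgroup and fixing a point is trivial. -/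
theorem semi (h : Hy G Ω α β) {N : Subgroup G} [N.Normal] (ne : N ≠ ⊥) {c : G}
    (hc : c ∈ centralizer (N : Set G)) {ω : Ω} (e : c • ω = ω) : c = 1 := one_of_fix fun ω' => by
  obtain ⟨n, hn, rfl⟩ := tr h ne ω ω'
  rw [smul_smul, ← hc n hn, mul_smul, e]

theorem cj_eq (h : Hy G Ω α β) {N T : Subgroup G} (s : Soc N T) (g : G) :
    ∃ a ∈ stabilizer G α, cj g T = cj a T := by
  have := s.norm
  obtain ⟨n, hn, a, ha, e⟩ := fac h (fun e => soc_ne s (le_bot_iff.1 (e ▸ s.le))) α g⁻¹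
  refine ⟨a⁻¹, inv_mem ha, ?_⟩
  rw [inv_eq_iff_eq_inv.1 e, mul_inv_rev, ← cj_cj, cj_eq_iff.2 (s.tn (inv_mem hn))]

theorem bot_of (h : Hy G Ω α β) {M : Subgroup G} {k : G} (hk : k • α = β) (h1 : M ≤ stabilizer G α)
    (h2 : stabilizer G α ≤ normalizer (M : Set G)) (h3 : M ≤ cj k M) : M = ⊥ := by
  have := h.prim
  have e : M = cj k M := eq_of_le_of_card_ge h3 (card_cj k M).le
  have n : stabilizer G β ≤ normalizer (M : Set G) := by
    rw [e, ← cj_norm, ← hk, ← st_cj]; exact cj_mono k h2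
  have t : normalizer (M : Set G) = ⊤ := (coat h β).2 _ (lt_of_le_of_ne n fun q => by
    have : Subsingleton (orbit (stabilizer G α) β) := ⟨by
      rintro ⟨_, a, rfl⟩ ⟨_, b, rfl⟩
      exact Subtype.ext ((q.ge (h2 a.2)).trans (q.ge (h2 b.2)).symm)⟩
    have := h.two
    have := Finite.card_le_one_iff_subsingleton.2 ‹_›
    omega)
  refine eq_bot_iff.2 fun m hm => one_of_fix fun ω : Ω => ?_
  obtain ⟨g, rfl⟩ := exists_smul_eq G α ω
  have : (g⁻¹ * m * g) • α = α := h1 (conj_mem_of_mem_normalizer' (t ▸ mem_top g) hm)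
  rwa [mul_smul, mul_smul, inv_smul_eq_iff] at this

theorem mv (h : Hy G Ω α β) {N : Subgroup G} [N.Normal] (ne : N ⊓ stabilizer G α ≠ ⊥) :
    ∃ d ∈ N ⊓ stabilizer G α, d • β ≠ β := by
  have := h.prim
  by_contra! e
  obtain ⟨k, hk⟩ := exists_smul_eq G α β
  refine ne (bot_of h hk inf_le_right (le_norm_inf le_normalizer_of_normal le_normalizer) ?_)
  rw [cj_inf, st_cj, hk, cj_eq_iff.2 (le_normalizer_of_normal (mem_top k))]
  exact fun d hd => ⟨hd.1, e d hd⟩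

theorem two (h : Hy G Ω α β) {a b : G} (ha : a ∈ stabilizer G α) (hb : b ∈ stabilizer G α)
    (h1 : a • β ≠ β) (h2 : b • β ≠ β) : ∃ c ∈ stabilizer G α, c • β = β ∧ c • a • β = b • β := by
  have k : ∀ {a b c d : orbit (stabilizer G α) β}, a ≠ b → c ≠ d →
      ∃ g : stabilizer G α, g • a = c ∧ g • b = d := is_two_pretransitive_iff.1 h.t2
  obtain ⟨c, e1, e2⟩ := k (a := ⟨β, mem_orbit_self β⟩)
    (b := ⟨_, mem_orbit β (⟨a, ha⟩ : stabilizer G α)⟩) (c := ⟨β, mem_orbit_self β⟩)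
    (d := ⟨_, mem_orbit β (⟨b, hb⟩ : stabilizer G α)⟩) (fun e => h1 (congrArg Subtype.val e).symm)
    fun e => h2 (congrArg Subtype.val e).symm
  exact ⟨c, c.2, congrArg Subtype.val e1, congrArg Subtype.val e2⟩

theorem hz [Finite Ω] (z : HZ'.{u, v}) (h : Hy G Ω α β) {D : Subgroup G} (h1 : D ≤ stabilizer G α)
    (h2 : stabilizer G α ≤ normalizer (D : Set G))
    (min : ∀ E ≤ D, stabilizer G α ≤ normalizer (E : Set G) → E = ⊥ ∨ E = D)
    (nab : ¬ IsMulCommutative D) (m : ∃ d ∈ D, d • β ≠ β) :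
    IsSimpleGroup D ∧ (∀ M, D ⊓ stabilizer G β ≤ M → M ≤ D → M = D ⊓ stabilizer G β ∨ M = D) ∧
      ∀ x ∈ D, x • β = β → (∀ t ∈ D, t • β = β → Commute x t) → x = 1 := by
  have i := subgroupOfEquivOfLe h1
  obtain ⟨d, hd, m⟩ := m
  obtain ⟨s, k⟩ := z (stabilizer G α) _ h.t2 (D.subgroupOf _) (normal_subgroupOf_of_le_normalizer h2)
    (fun E _ hE => (min (E.map (stabilizer G α).subtype) (map_le_iff_le_comap.2 hE)
      (H98.le_normalizer_map_subtype E)).imp ((map_eq_bot_iff_of_injective _ (subtype_injective _)).1)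
        fun e => by rw [← e, subgroupOf, comap_map_eq_self_of_injective (subtype_injective _)])
    (fun e => nab ⟨⟨fun a b => i.symm.injective (by rw [map_mul, map_mul, e.1.1])⟩⟩)
    ⟨⟨d, h1 hd⟩, hd, ⟨β, mem_orbit_self β⟩, fun e => m (congrArg Subtype.val e)⟩
  obtain ⟨k1, k2⟩ := k ⟨β, mem_orbit_self β⟩
  refine ⟨i.symm.isSimpleGroup, fun M p q => ?_, fun x hx e c => congrArg Subtype.val
    (k2 ⟨x, h1 hx⟩ ⟨hx, Subtype.ext e, fun t ht e' => Subtype.ext (c t ht (congrArg Subtype.val e'))⟩)⟩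
  refine (k1 (M.subgroupOf _) (fun x hx => p ⟨hx.1, congrArg Subtype.val hx.2⟩) (comap_mono q)).imp
    (fun e => le_antisymm (fun x hx => ⟨q hx, congrArg Subtype.val
      (e.le (show (⟨x, h1 (q hx)⟩ : stabilizer G α) ∈ M.subgroupOf _ from hx)).2⟩) p)
    fun e => le_antisymm q fun x hx =>
      e.ge (show (⟨x, h1 hx⟩ : stabilizer G α) ∈ D.subgroupOf _ from hx)

end H24.FS
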