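/- Tower KU (S2196), slot Frm: dual isotropic vectors. -/
import Cfsg.Agent.H53.KUSpec

set_option autoImplicit false

namespace H24.KUFrm

open Cfsg H59 H53.WU H53.KU Module

section

variable {F V : Type} [Field F] [AddCommGroup V] [Module F V] {σ : F →+* F}
  {B : V →ₛₗ[σ] V →ₗ[F] F}

theorem exists_theta (h : IsHerm B) : ∃ θ : F, θ + σ θ = 1 := by
  obtain ⟨a, ha⟩ : ∃ a : F, a + σ a ≠ 0 := by
    by_contra hc
    push Not at hc
    refine h.ne_id (RingHom.ext fun a => ?_)
    have h1 := hc 1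
    have h2 := hc a
    rw [map_one] at h1
    rw [RingHom.id_apply]
    linear_combination h2 - a * h1
  refine ⟨a / (a + σ a), ?_⟩
  rw [map_div₀, map_add, h.invol, add_comm (σ a) a, ← add_div, div_self ha]

theorem exists_dual [FiniteDimensional F V] (h : IsHerm B) {m : ℕ} {e : Fin m → V}
    (he : LinearIndependent F e) : ∃ g : Fin m → V, ∀ i j, B (e i) (g j) = if i = j then 1 else 0 := by
  have key : ∀ j, ∃ d : V, ∀ i, B (e i) d = if i = j then 1 else 0 := fun j => by
    obtain ⟨d, hd, h0⟩ := h.exists_perp_ne_zero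
      (he.notMem_span_image (s := {i | i ≠ j}) (x := j) (by simp))
    refine ⟨(B (e j) d)⁻¹ • d, fun i => ?_⟩
    rw [form_smul_right]
    split_ifs with hij
    · rw [hij, inv_mul_cancel₀ h0]
    · rw [mem_perp_span.1 hd (e i) ⟨i, hij, rfl⟩, mul_zero]
  exact ⟨fun j => (key j).choose, fun i j => (key j).choose_spec i⟩

theorem exists_frame [FiniteDimensional F V] (h : IsHerm B) {m : ℕ} {e : Fin m → V}
    (ee : ∀ i j, B (e i) (e j) = 0) (he : LinearIndependent F e) :
    ∃ f : Fin m → V, (∀ i j, B (f i) (f j) = 0) ∧ ∀ i j, B (e i) (f j) = if i = j then 1 else 0 := by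
  obtain ⟨θ, hθ⟩ := exists_theta h
  obtain ⟨g, hg⟩ := exists_dual h he
  have hg' : ∀ i j, B (g i) (e j) = if i = j then 1 else 0 := fun i j => by
    rw [← h.symm, hg]
    by_cases hij : i = j
    · simp [hij]
    · simp [hij, Ne.symm hij]
  have h1 : ∀ i j, B (e i) (g j - ∑ k, (θ * B (g k) (g j)) • e k) = if i = j then 1 else 0 := fun i j => by
    simp [ee, hg]
  refine ⟨fun j => g j - ∑ k, (θ * B (g k) (g j)) • e k, fun i j => ?_, h1⟩
  have h2 : B (g i) (g j - ∑ k, (θ * B (g k) (g j)) • e k) = B (g i) (g j) - θ * B (g i) (g j) := by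
    simp [hg']
  rw [map_sub B, LinearMap.sub_apply, h2, map_sum B, LinearMap.sum_apply,
    Finset.sum_congr rfl fun k _ => by rw [form_smul_left, h1]]
  simp only [mul_ite, mul_one, mul_zero, Finset.sum_ite_eq', Finset.mem_univ, if_true, map_mul, h.symm]
  linear_combination (-B (g i) (g j)) * hθ

end

theorem jobFrm : JobFrm := fun S _ e ee he => by
  obtain ⟨f, ff, ef⟩ := exists_frame S.h ee he
  exact ⟨⟨e, f, ee, ff, ef⟩, rfl⟩

end H24.KUFrm

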