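import Cfsg.Agent.H24.L33QA
import Cfsg.Agent.H85.L3Spec
import Cfsg.Agent.H85.FZWA

/-! L33, slot Q: `Q₀` is normal in `C(z)` and `C_X(U)` is solvable. -/

set_option autoImplicit false
set_option linter.unusedSectionVars false

namespace H24.L33

open Subgroup Cfsg H98 H1.Gold H85.FZ H85.L33

universe u

variable {G : Type u} [Group G] [Finite G] {x : ℕ → G}

def Qw : List (List ℕ) := (subs 3).map (app [(1, [2]), (2, [3])])

theorem wfS : TS.wf = true := by decide +kernel

theorem memQ (P : Pres TS x) {q : G} (h : q ∈ cl [x 2, x 3]) : ∃ w ∈ Qw, q = W x w := by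
  have P' := P.derive (.of 3 [(2, 1, [1, 0])] [(1, [0]), (2, [0])]) [(1, [2]), (2, [3])]
    (by decide +kernel)
  obtain ⟨w, hw, e⟩ := P'.mem (by decide +kernel) (k := 3) le_rfl (cl_le.2 (by
    intro y hy
    simp only [List.mem_cons, List.not_mem_nil, or_false] at hy
    rcases hy with rfl | rfl
    · simpa [app, W] using x_mem (x := fun i => W x (app [(1, [2]), (2, [3])] [i])) (i := 1) (k := 3) (by omega)
    · simpa [app, W] using x_mem (x := fun i => W x (app [(1, [2]), (2, [3])] [i])) (i := 2) (k := 3) (by omega)) h)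
  exact ⟨_, List.mem_map_of_mem hw, e.trans (W_app (fun _ _ => rfl) (subs_lt hw))⟩

def sq2 (u : List ℕ) : List ℕ := TS.col (u ++ u)
def good (u : List ℕ) : Bool := Tb.nf 10 u && !Qw.contains u && (sq2 u == [] || sq2 u == [0])
def u1 (w : List ℕ) : List ℕ := TS.col (w ++ w.filter fun i => i == 2 || i == 3)

theorem chk : ((subs 9).all fun w =>
    Qw.contains w || good (u1 w) || good (sq2 (u1 w)) || good (sq2 (sq2 (u1 w)))) = true := by
  decide +kernel

theorem W1 (i : ℕ) : W x [i] = x i := by simp [W]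

theorem zQ (P : Pres TS x) : x 0 ∈ cl [x 2, x 3] := by
  have : x 2 * x 2 = x 0 := (P.sq 2 (by decide)).trans (W1 0)
  exact this ▸ mul_mem (mem_cl (by simp)) (mem_cl (by simp))

theorem QW (P : Pres TS x) {w : List ℕ} (h : w ∈ Qw) : W x w ∈ cl [x 2, x 3] :=
  W_mem_of fun r hr => by
    rcases (by decide +kernel : ∀ w ∈ Qw, ∀ r ∈ w, r = 0 ∨ r = 2 ∨ r = 3) w h r hr with rfl | rfl | rfl
    exacts [zQ P, mem_cl (by simp), mem_cl (by simp)]

theorem le_Q (P : Pres TS x) (I : Ind x 10) {K : Subgroup G} (QK : cl [x 2, x 3] ≤ K)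
    (h : ∀ s ∈ K, s ∈ H x 9 → s * s ∈ zpowers (x 0) → s ∈ cl [x 2, x 3]) :
    H x 9 ⊓ K ≤ cl [x 2, x 3] := fun s hs => by
  obtain ⟨w, hw, rfl⟩ := P.mem wfS (k := 9) (by decide) hs.1
  have Q9 : cl [x 2, x 3] ≤ H x 9 := cl_le.2 (by simp [x_mem])
  have s2 : ∀ u, W x (sq2 u) = W x u * W x u := fun u => by rw [sq2, P.W_col, W_append]
  have m1 : W x (u1 w) ∈ H x 9 ⊓ K := by
    rw [u1, P.W_col, W_append]
    refine mul_mem hs (W_mem_of fun r hr => le_inf Q9 QK ?_)
    simp only [List.mem_filter, Bool.or_eq_true, beq_iff_eq] at hr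
    rcases hr.2 with rfl | rfl <;> exact mem_cl (by simp)
  have m2 : ∀ u, W x u ∈ H x 9 ⊓ K → W x (sq2 u) ∈ H x 9 ⊓ K := fun u hu => s2 u ▸ mul_mem hu hu
  have no : ∀ u, W x u ∈ H x 9 ⊓ K → good u ≠ true := fun u hu g => by
    simp only [good, Bool.and_eq_true, Bool.or_eq_true, beq_iff_eq, Bool.not_eq_true',
      List.contains_eq_mem, decide_eq_false_iff_not] at g
    obtain ⟨q, hq, e⟩ := memQ P (h _ hu.2 hu.1 (by
      rw [← s2]
      rcases g.2 with e | e <;> rw [e]
      exacts [one_mem _, W1 (x := x) 0 ▸ mem_zpowers _]))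
    exact g.1.2 (I.eq g.1.1 ((by decide +kernel : ∀ q ∈ Qw, Tb.nf 10 q = true) q hq) e ▸ hq)
  have := List.all_eq_true.1 chk w hw
  simp only [Bool.or_eq_true, List.contains_eq_mem, decide_eq_true_eq] at this
  rcases this with ((k | k) | k) | k
  exacts [QW P k, (no _ m1 k).elim, (no _ (m2 _ m1) k).elim, (no _ (m2 _ (m2 _ m1)) k).elim]

theorem cjW (P : Pres TS x) (i j : ℕ) (w : List ℕ) (h : TS.same [i, j] (w ++ [i]) = true) :
    x i * x j * (x i)⁻¹ = W x w := by
  have := P.W_eq h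
  rw [W_append, W1, W_cons, W1] at this
  rw [this, mul_inv_cancel_right]

theorem H_cen (P : Pres TS x) (k j : ℕ)
    (h : ((List.range k).all fun i => TS.same [i, j] [j, i]) = true) : H x k ≤ cen1 (x j) :=
  H_le fun i hi => mem_cen1.2 (by
    simpa [W] using P.W_eq (List.all_eq_true.1 h i (List.mem_range.2 hi)))

theorem hU (K : Subgroup G) : H x 2 ≤ K ↔ x 0 ∈ K ∧ x 1 ∈ K :=
  ⟨fun h => ⟨h (x_mem (by omega)), h (x_mem (by omega))⟩, fun h => H_le fun i hi => by
    interval_cases i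
    exacts [h.1, h.2]⟩

theorem jobQ : JobQ.{u} := fun G _ _ X A x f o1 => by
  have := Fact.mk Nat.prime_two
  have := f.st.as.normal
  have P := f.pres
  have I := f.ind
  have W2 : ∀ i j, W x [i, j] = x i * x j := fun i j => by simp [W]
  have z1 : x 0 ≠ 1 := by simpa [W] using P.ne I (w := [0]) (w' := []) (by decide +kernel)
  have z2 : x 0 * x 0 = 1 := P.sq 0 (by decide)
  have c0 := H_cen P 10 0 (by decide +kernel)
  have c1 := H_cen P 8 1 (by decide +kernel)
  have S0X : H x 9 ≤ X := f.SX ▸ inf_le_right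
  have S0C : H x 9 ≤ X ⊓ cen1 (x 0) := le_inf S0X ((H_mono (by omega)).trans c0)
  have hS : IsSyl 2 (H x 9) (X ⊓ cen1 (x 0)) :=
    (f.SX ▸ f.syl.inf_of_le_normalizer le_top le_normalizer_of_normal).of_le S0C inf_le_left
  have Q4 : cl [x 2, x 3] ≤ H x 4 := cl_le.2 (by simp [x_mem])
  have R0U : H x 8 ≤ cen (H x 2) := le_centralizer_iff.1 ((hU _).2
    ⟨fun h hh => mem_cen1.1 (c0 (H_mono (by omega) hh)), fun h hh => mem_cen1.1 (c1 hh)⟩)
  obtain ⟨K, QK, KC, CK, h1, h2⟩ := gold_cen inf_le_right z2 (zQ P) hS (Q4.trans (H_mono (by omega)))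
    o1 (fun a ha b hb => by
      obtain ⟨w, hw, rfl⟩ := memQ P ha
      obtain ⟨w', hw', rfl⟩ := memQ P hb
      rcases (by decide +kernel : ∀ w ∈ Qw, ∀ w' ∈ Qw, TS.same (w ++ w') (w' ++ w) = true ∨
        TS.same (w ++ w') (0 :: (w' ++ w)) = true) w hw w' hw' with e | e <;>
        have e := P.W_eq e <;> simp only [W_cons, W_append] at e <;> rw [e] <;> simp [mul_assoc])
    fun h hh => f.sc h hh.2
  have hQ : IsSyl 2 (cl [x 2, x 3]) K :=
    le_antisymm (le_Q P I QK h1) (le_inf (Q4.trans (H_mono (by omega))) QK) ▸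
      hS.inf_of_le_normalizer KC (S0C.trans CK)
  obtain ⟨r, rR, rz, ry, r4⟩ := f.r
  have tz := (cjW P 9 0 [0] (by decide +kernel)).trans (W1 0)
  have ty := (cjW P 9 1 [1, 0] (by decide +kernel)).trans (W2 1 0)
  have sol := sol_K hU z1 z2 (P.sq 1 (by decide)) (P.sq 9 (by decide)) (S0C (x_mem (by omega))) KC CK hQ
    ((Q4.trans (H_mono (by omega))).trans R0U) (fun q hq e => by
      obtain ⟨w, hw, rfl⟩ := memQ P hq
      rcases (by decide +kernel : ∀ w ∈ Qw, w = [] ∨ w = [0] ∨ TS.eqv (w ++ w) [] = false) w hw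
        with rfl | rfl | k
      exacts [.inl rfl, .inr (W1 0), (P.ne I k (by rwa [W_append])).elim]) o1 rz ry tz ty f.solv
  have KQ : K ≤ nor (cl [x 2, x 3]) := fun k hk => mem_normalizer_of_cj_le (by
    rintro _ ⟨q, hq, rfl⟩
    simpa using mul_mem (zpowers_le.2 (zQ P) (h2 sol k hk q (QK hq))) hq)
  have nQ : cen1 (x 0) ≤ nor (cl [x 2, x 3]) := by
    rw [← top_inf_eq (cen1 (x 0)), ← f.st.as.sup, sup_comm, sup_inf_of_le_left le_normalizer_of_normal
      (zpowers_le.2 (c0 (x_mem (by omega))))]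
    refine sup_le (zpowers_le.2 (nor_of_gens (z := x 2) (y := x 3) (fun K => by simp [cl_le]) ?_ ?_)) ?_
    · rw [cjW P 9 2 [2, 0] (by decide +kernel)]; exact QW P (by decide +kernel)
    · rw [cjW P 9 3 [3, 2, 0] (by decide +kernel)]; exact QW P (by decide +kernel)
    · rw [hQ.eq_pCoreOf KQ]; exact le_normalizer_pCoreOf CK
  refine ⟨f, o1, nQ, ?_⟩
  obtain ⟨zU, yU⟩ := (hU (H x 2)).1 le_rfl
  have vy := (cjW P 8 1 [1, 0] (by decide +kernel)).trans (W2 1 0)
  have rU := nor_of_gens hU (rz ▸ mul_mem yU zU) (by rwa [ry])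
  have vU := nor_of_gens hU (g := x 8) (by rwa [cjW P 8 0 [0] (by decide +kernel), W1])
    (vy ▸ mul_mem yU zU)
  have n4 : cen (H x 2) ≤ nor (H x 4) := by
    rw [show H x 4 = H x 2 ⊔ cl [x 2, x 3] from le_antisymm (H_le fun i hi => by
      interval_cases i
      exacts [mem_sup_left zU, mem_sup_left yU, mem_sup_right (mem_cl (by simp)),
        mem_sup_right (mem_cl (by simp))]) (sup_le (H_mono (by omega)) Q4)]
    exact le_normalizer_sup (centralizer_le_normalizer _) ((cen_le_cen1 zU).trans nQ)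
  have nc : ∀ g ∈ nor (H x 2), cen (H x 2) ≤ nor (cj g (H x 4)) := fun g hg => by
    rw [nor, ← cj_normalizer]
    exact (cj_eq_self (normalizer_le_normalizer_centralizer _ hg)).ge.trans (cj_mono g n4)
  have r8 : cj r (H x 4) ≤ H x 8 := cj_le_of_le (H_mono (by omega)) rR
  have n8 : cen (H x 2) ≤ nor (H x 8) := by
    rw [show H x 8 = H x 4 ⊔ cj r (H x 4) ⊔ cj (x 8 * r) (H x 4) from le_antisymm (H_le fun i hi => by
      have k : ∀ j, j = 6 ∨ j = 7 → x j ∈ cj r (H x 4) := fun j hj => r4 ▸ mem_cl (by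
        rcases hj with rfl | rfl <;> simp)
      have k' : ∀ j j', j = 6 ∨ j = 7 → TS.same [8, j] ([j'] ++ [8]) = true →
          x j' ∈ cj (x 8 * r) (H x 4) := fun j j' hj e => by
        rw [← cj_cj, ← W1 (x := x) j', ← cjW P 8 j _ e]
        exact conj_mem_cj (k j hj)
      by_cases h : i < 4
      · exact mem_sup_left (mem_sup_left (x_mem h))
      interval_cases i
      exacts [mem_sup_right (k' 6 4 (by omega) (by decide +kernel)),
        mem_sup_right (k' 7 5 (by omega) (by decide +kernel)),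
        mem_sup_left (mem_sup_right (k 6 (by omega))), mem_sup_left (mem_sup_right (k 7 (by omega)))])
      (sup_le (sup_le (H_mono (by omega)) r8) (by
        rw [← cj_cj]; exact cj_le_of_le r8 (P.x_nor wfS (k := 8) (by decide))))]
    exact le_normalizer_sup (le_normalizer_sup n4 (nc r rU)) (nc _ (mul_mem vU rU))
  have hT := f.sylU.inf_of_le_normalizer (N := X ⊓ cen (H x 2)) inf_le_right
    (le_normalizer_inf le_normalizer_of_normal (le_normalizer_of_le f.sylU.le))
  refine sol_of_nor (T := H x 8) ((hT.eq_of_le (P.isPGroup wfS (k := 8) (by decide)) (fun s hs => ?_)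
    (le_inf ((H_mono (by omega)).trans S0X) R0U)).symm ▸ hT) (inf_le_right.trans n8)
  refine (P.mem_succ wfS (k := 8) (by decide) (f.SX.le ⟨hs.1.1, hs.2.1⟩)).resolve_right fun e => z1 ?_
  have e : x 8 * x 1 = x 1 * x 8 := mem_cen1.1 (by
    simpa using (cen1 (x 1)).mul_mem hs.1.2 ((cen1 (x 1)).inv_mem (c1 e)))
  rw [e, mul_inv_cancel_right] at vy
  simpa using vy

end H24.L33
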