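import Cfsg.Agent.S2775
import Cfsg.Agent.H99.ZStarMin
import Cfsg.Agent.H27.ZDB4
import Cfsg.Agent.H1.GBasic
import Cfsg.Agent.H98.Core
import Cfsg.Agent.H2.PrimeCore

/-! L33, slot Q: Goldschmidt's theorem modulo a central involution. -/

set_option autoImplicit false
set_option linter.unusedSectionVars false

namespace H24.L33

open Subgroup Cfsg H98 H1.Gold

universe u

theorem gold0 {H : Type u} [Group H] [Finite H] (hO : pPrimeCore 2 H = ⊥) {S A : Subgroup H}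
    (hS : IsSyl 2 S ⊤) (AS : A ≤ S) (ab : ∀ a ∈ A, ∀ b ∈ A, a * b = b * a)
    (sc : ∀ a ∈ A, ∀ h, h * a * h⁻¹ ∈ S → h * a * h⁻¹ ∈ A) :
    (∀ s ∈ normalClosure (A : Set H), s ∈ S → s * s = 1 → s ∈ A) ∧
      (Group.IsSolvable (normalClosure (A : Set H)) →
        ∀ a ∈ normalClosure (A : Set H), ∀ b ∈ normalClosure (A : Set H), a * b = b * a) := by
  have := Fact.mk Nat.prime_two
  set K := normalClosure (A : Set H) with hK
  have hOK : pPrimeCore 2 K = ⊥ := by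
    have : ((pPrimeCore 2 K).map K.subtype).Normal := inferInstance
    have h1 : (pPrimeCore 2 K).map K.subtype ≤ pPrimeCore 2 H := H2.le_pPrimeCore (by
      rw [card_map_of_injective K.subtype_injective]; exact H2.coprime_card_pPrimeCore 2 K)
    rwa [hO, le_bot_iff, map_eq_bot_iff_of_injective _ K.subtype_injective] at h1
  obtain ⟨h0, hc, ⟨T, -, h2⟩, ι, _, L, _, hL, ⟨e⟩⟩ := Cfsg.Agent.S2775.result hS.toSylowTop A
    ⟨⟨fun a b => Subtype.ext (ab a a.2 b b.2)⟩⟩ ⟨AS, fun v hv g h => sc v hv g h⟩ K hK K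
    (MonoidHom.id K) Function.surjective_id (by rw [hOK]; exact MonoidHom.ker_id)
  rw [map_id] at h2
  refine ⟨fun s hs hsS s2 => ?_, fun sol a ha b hb => ?_⟩
  · obtain ⟨k, hk, h4⟩ := (isSyl_map_subtype T).exists_cj_le
      (hS.isPGroup.to_le (inf_le_left : S ⊓ K ≤ S)) inf_le_right
    obtain ⟨w, hw, e⟩ := h4 (conj_mem_cj (⟨hsS, hs⟩ : s ∈ S ⊓ K))
    have e' : (w : H) = k * s * k⁻¹ := e
    have h6 : w ∈ A.subgroupOf K := h2 ▸ mem_sup_right (subset_closure ⟨hw, Subtype.ext (by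
      rw [SubgroupClass.coe_pow, e', conj_pow, pow_two, s2]; simp)⟩)
    have h7 : k * s * k⁻¹ ∈ A := e' ▸ h6
    simpa [mul_assoc] using sc _ h7 k⁻¹ (by simpa [mul_assoc] using hsS)
  · have cz : ∀ g : commutator K, g ∈ center (commutator K) := fun g => by
      rw [← QuotientGroup.eq_one_iff, ← e.map_eq_one_iff]
      funext i
      obtain ⟨h1, h2, -⟩ := hL i
      have : Group.IsSolvable (L i) := solvable_of_surjective
        (f := (Pi.evalMonoidHom L i).comp e.toMonoidHom)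
        ((Function.surjective_eval i).comp e.surjective)
      exact (h2 ⟨⟨IsSimpleGroup.comm_iff_isSolvable.2 this⟩⟩).elim
    have m : ∀ c : K, c ∈ pCore 2 K ⊔ commutator K := fun c => h0 ▸ mem_top c
    obtain ⟨z, hz, c, hc1, e1⟩ := mem_sup_of_normal_right.1 (m ⟨a, ha⟩)
    obtain ⟨z', hz', c', hc', e2⟩ := mem_sup_of_normal_right.1 (m ⟨b, hb⟩)
    have e3 : c * c' = c' * c :=
      congrArg Subtype.val (mem_center_iff.1 (cz ⟨c', hc'⟩) ⟨c, hc1⟩)
    have e4 : (⟨a, ha⟩ : K) * ⟨b, hb⟩ = ⟨b, hb⟩ * ⟨a, ha⟩ := by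
      rw [← e1, ← e2]
      have p := mem_center_iff.1 (hc hz)
      have p' := mem_center_iff.1 (hc hz')
      calc z * c * (z' * c') = z * z' * (c * c') := by rw [mul_assoc, ← mul_assoc c, p' c]; group
        _ = z' * z * (c' * c) := by rw [e3, p' z]
        _ = _ := by rw [mul_assoc z' c', ← mul_assoc c', p c']; group
    exact congrArg Subtype.val e4

variable {G : Type u} [Group G] [Finite G]

theorem gold_cen {C S Q : Subgroup G} {z : G} (hC : C ≤ cen1 z) (z2 : z * z = 1) (zQ : z ∈ Q)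
    (hS : IsSyl 2 S C) (QS : Q ≤ S)
    (hO : ∀ W ≤ C, Odd (Nat.card W) → C ≤ nor W → W = ⊥)
    (ab : ∀ a ∈ Q, ∀ b ∈ Q, a * b * a⁻¹ * b⁻¹ ∈ zpowers z)
    (sc : ∀ h ∈ C, ∀ q ∈ Q, h * q * h⁻¹ ∈ S → h * q * h⁻¹ ∈ Q) :
    ∃ K, Q ≤ K ∧ K ≤ C ∧ C ≤ nor K ∧ (∀ s ∈ K, s ∈ S → s * s ∈ zpowers z → s ∈ Q) ∧
      (Group.IsSolvable K → ∀ a ∈ K, ∀ b ∈ K, a * b * a⁻¹ * b⁻¹ ∈ zpowers z) := by
  have := Fact.mk Nat.prime_two
  set Z := (zpowers z).subgroupOf C with hZ
  have zc : Z ≤ center C := fun w hw => mem_center_iff.2 fun g => Subtype.ext (by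
    obtain ⟨n, hn⟩ := mem_zpowers_iff.1 hw
    have hn : z ^ n = w := hn
    show (g : G) * w = w * g
    rw [← hn]
    exact (Commute.zpow_right (mem_cen1.1 (hC g.2)) n).eq)
  have : Z.Normal := ⟨fun n hn g => by rw [mem_center_iff.1 (zc hn) g]; simpa using hn⟩
  have O1 : pPrimeCore 2 C = ⊥ := by
    rw [← map_eq_bot_iff_of_injective _ C.subtype_injective]
    refine hO _ (map_subtype_le _) ?_ (le_normalizer_map_subtype _)
    rw [card_map_of_injective C.subtype_injective]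
    exact H2.odd_card_oddCore C
  have O2 := H99.pPrimeCore_quotient_central O1 Z
    (isPGroup_subgroupOf (isPGroup_zpowers (k := 1) (by simpa [pow_two] using z2)) C) zc
  set f := QuotientGroup.mk' Z with hf
  have fs : Function.Surjective f := QuotientGroup.mk'_surjective Z
  have mem : ∀ P : Subgroup G, z ∈ P → ∀ c : C, f c ∈ (P.subgroupOf C).map f ↔ (c : G) ∈ P :=
    fun P hP c => by
      rw [← mem_comap, comap_map_eq_self]
      · rfl
      · rw [hf, QuotientGroup.ker_mk']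
        exact comap_mono (zpowers_le.2 hP)
  have one : ∀ c : C, f c = 1 ↔ (c : G) ∈ zpowers z := fun c => QuotientGroup.eq_one_iff c
  have hSb := hS.subgroupOf_top.map f
  rw [map_top_of_surjective f fs] at hSb
  obtain ⟨g1, g2⟩ := gold0 O2 (A := (Q.subgroupOf C).map f) hSb (map_mono (comap_mono QS))
    (by
      rintro _ ⟨a, ha, rfl⟩ _ ⟨b, hb, rfl⟩
      have := (one (a * b * a⁻¹ * b⁻¹)).2 (ab a ha b hb)
      simp only [map_mul, map_inv] at this
      rw [mul_inv_eq_one, mul_inv_eq_iff_eq_mul] at this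
      exact this)
    (by
      rintro _ ⟨a, ha, rfl⟩ h hh
      obtain ⟨h, rfl⟩ := fs h
      rw [← map_inv, ← map_mul, ← map_mul] at hh ⊢
      exact (mem Q zQ _).2 (sc h h.2 a ha ((mem S (QS zQ) _).1 hh)))
  set Kb := normalClosure (((Q.subgroupOf C).map f : Subgroup (C ⧸ Z)) : Set (C ⧸ Z)) with hKb
  refine ⟨(Kb.comap f).map C.subtype, fun q hq => ⟨⟨q, hS.le (QS hq)⟩,
    le_normalClosure ((mem Q zQ _).2 hq), rfl⟩, map_subtype_le _, le_normalizer_map_subtype _, ?_, ?_⟩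
  · rintro _ ⟨s, hs, rfl⟩ hsS s2
    refine (mem Q zQ s).1 (g1 _ hs ((mem S (QS zQ) s).2 hsS) ?_)
    rw [← map_mul]
    exact (one (s * s)).2 s2
  · rintro sol _ ⟨a, ha, rfl⟩ _ ⟨b, hb, rfl⟩
    have s1 : Group.IsSolvable (Kb.comap f) := solvable_of_solvable_injective
      (f := ((Kb.comap f).equivMapOfInjective _ C.subtype_injective).toMonoidHom) (MulEquiv.injective _)
    have s2 : Group.IsSolvable Kb := solvable_of_surjective
      (f := f.subgroupComap Kb) (f.subgroupComap_surjective_of_surjective Kb fs)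
    refine (one (a * b * a⁻¹ * b⁻¹)).1 ?_
    simp only [map_mul, map_inv]
    rw [g2 s2 _ ha _ hb]
    group

/-- A group with a normal Sylow `2`-subgroup is solvable. -/
theorem sol_of_nor {T Y : Subgroup G} (h : IsSyl 2 T Y) (n : Y ≤ nor T) : Group.IsSolvable Y := by
  have := Fact.mk Nat.prime_two
  have : (T.subgroupOf Y).Normal := normal_subgroupOf_of_le_normalizer n
  have : Group.IsNilpotent (T.subgroupOf Y) := (isPGroup_subgroupOf h.isPGroup Y).isNilpotent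
  have : Group.IsSolvable (Y ⧸ T.subgroupOf Y) :=
    H42.odd_order (Nat.odd_iff.2 (Nat.two_dvd_ne_zero.1 h.not_dvd_relIndex))
  exact solvable_of_ker_le_range (T.subgroupOf Y).subtype (QuotientGroup.mk' (T.subgroupOf Y)) (by simp)

/-- Two commuting subgroups swapped by `t`. -/
theorem sol_of_swap {K D : Subgroup G} {r t : G} (t2 : t * t = 1) (hD : cj r K ≤ D) (ht : t ∈ D)
    (com : ∀ a ∈ cj r K, ∀ b ∈ cj t (cj r K), a * b = b * a) (inf : cj r K ⊓ cj t (cj r K) = ⊥)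
    (sol : Group.IsSolvable ↥(cen1 t ⊓ D)) : Group.IsSolvable K := by
  have ti : t⁻¹ = t := inv_eq_of_mul_eq_one_right t2
  have m : ∀ k : K, r * k * r⁻¹ ∈ cj r K := fun k => conj_mem_cj k.2
  let φ : K →* ↥(cen1 t ⊓ D) := MonoidHom.mk' (fun k => ⟨r * k * r⁻¹ * (t * (r * k * r⁻¹) * t⁻¹),
    mem_cen1.2 (by
      have := com _ (m k) _ (conj_mem_cj (m k))
      generalize r * k * r⁻¹ = a at this
      calc a * (t * a * t⁻¹) * t = t⁻¹ * t * a * t * a := by group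
        _ = t * (t * a * t⁻¹ * a) := by rw [ti]; group
        _ = _ := by rw [this]), D.mul_mem (hD (m k)) (D.mul_mem (D.mul_mem ht (hD (m k))) (D.inv_mem ht))⟩)
    fun k l => Subtype.ext (by
      have := com _ (m l) _ (conj_mem_cj (m k))
      show r * (k * l) * r⁻¹ * (t * (r * (k * l) * r⁻¹) * t⁻¹) =
        r * k * r⁻¹ * (t * (r * k * r⁻¹) * t⁻¹) * (r * l * r⁻¹ * (t * (r * l * r⁻¹) * t⁻¹))
      rw [mul_assoc (r * k * r⁻¹), ← mul_assoc (t * (r * k * r⁻¹) * t⁻¹), ← this]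
      group)
  refine solvable_of_solvable_injective (f := φ) ((injective_iff_map_eq_one φ).2 fun k hk => ?_)
  have e : r * k * r⁻¹ * (t * (r * k * r⁻¹) * t⁻¹) = 1 := congrArg Subtype.val hk
  have : r * k * r⁻¹ ∈ cj r K ⊓ cj t (cj r K) :=
    ⟨m k, by rw [eq_inv_of_mul_eq_one_left e]; exact Subgroup.inv_mem _ (conj_mem_cj (m k))⟩
  rw [inf, mem_bot, conj_eq_one_iff] at this
  exact Subtype.ext this

theorem nor_of_gens {U : Subgroup G} {z y g : G} (hU : ∀ K : Subgroup G, U ≤ K ↔ z ∈ K ∧ y ∈ K)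
    (h1 : g * z * g⁻¹ ∈ U) (h2 : g * y * g⁻¹ ∈ U) : g ∈ nor U :=
  mem_normalizer_of_cj_le (cj_le_iff.2 ((hU _).2
    ⟨mem_cj.2 (by rwa [inv_inv]), mem_cj.2 (by rwa [inv_inv])⟩))

/-- The normal closure of `Q` is solvable. -/
theorem sol_K {X U Q K : Subgroup G} [X.Normal] {z y r t : G}
    (hU : ∀ K : Subgroup G, U ≤ K ↔ z ∈ K ∧ y ∈ K) (z1 : z ≠ 1) (z2 : z * z = 1) (y2 : y * y = 1)
    (t2 : t * t = 1) (yC : y ∈ X ⊓ cen1 z) (KC : K ≤ X ⊓ cen1 z) (CK : X ⊓ cen1 z ≤ nor K)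
    (hQ : IsSyl 2 Q K) (QU : Q ≤ cen U) (inv : ∀ q ∈ Q, q * q = 1 → q = 1 ∨ q = z)
    (hO : ∀ W ≤ X ⊓ cen1 z, Odd (Nat.card W) → X ⊓ cen1 z ≤ nor W → W = ⊥)
    (rz : r * z * r⁻¹ = y * z) (ry : r * y * r⁻¹ = y) (tz : t * z * t⁻¹ = z)
    (ty : t * y * t⁻¹ = y * z) (sol : Group.IsSolvable ↥(cen1 t ⊓ cen1 z)) : Group.IsSolvable K := by
  have := Fact.mk Nat.prime_two
  obtain ⟨zU, yU⟩ := (hU U).1 le_rfl
  have kz : ∀ k ∈ K, k * z * k⁻¹ = z := fun k hk => by rw [mem_cen1.1 (KC hk).2]; group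
  have O0 : H46.Op' 2 K = ⊥ :=
    hO _ ((H51.core_le _ _).trans KC) (H82.odd_core K) (H51.nrm_core _ CK)
  have OK : ∀ g, ∀ W ≤ cj g K, Odd (Nat.card W) → cj g K ≤ nor W → W = ⊥ := fun g W h1 h2 h3 => by
    rw [← cj_eq_bot_iff (g := g⁻¹), ← le_bot_iff, ← O0]
    refine H51.le_core ⟨le_cj_iff.1 h1, ?_⟩ (H82.odd_iff_pi.1 (by rwa [card_cj]))
    rw [H46.Nrm, ← cj_normalizer]
    exact cj_le_iff.1 h3
  have invK : ∀ k ∈ K, k * k = 1 → k = 1 ∨ k = z := fun k hk k2 => by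
    obtain ⟨g, hg, h⟩ := hQ.exists_cj_le
      (isPGroup_zpowers (k := 1) (x := k) (by simpa [pow_two] using k2)) (zpowers_le.2 hk)
    refine (inv _ (h (conj_mem_cj (mem_zpowers k))) (by rw [conj_mul, k2]; group)).imp
      conj_eq_one_iff.1 fun e => ?_
    rw [← kz g hg] at e
    simpa using e
  have yK : y ∈ nor K := CK yC
  have Ky : ∀ k ∈ K, y * k * y⁻¹ * k⁻¹ = 1 := fun k hk => by
    rw [← mem_bot, ← O0]
    refine H27.ZD.zstar_nrm yK y2 (fun g hg e => ?_) hk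
    have yi : y⁻¹ = y := inv_eq_of_mul_eq_one_right y2
    have d : g * y * g⁻¹ * y⁻¹ ∈ K := by
      simpa [mul_assoc] using K.mul_mem hg (conj_mem_of_mem_normalizer yK (K.inv_mem hg))
    refine (invK _ d ?_).elim mul_inv_eq_one.1 fun e' => (z1 ?_).elim
    · have w2 : g * y * g⁻¹ * (g * y * g⁻¹) = 1 := by rw [conj_mul, y2]; group
      generalize g * y * g⁻¹ = w at e w2
      rw [yi, mul_assoc, ← mul_assoc y, e, mul_assoc, y2, mul_one, w2]
    obtain ⟨j, m, hm, e2⟩ := Nat.exists_eq_two_pow_mul_odd (orderOf_pos g).ne'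
    have p : ∀ n : ℕ, g ^ n * y * (g ^ n)⁻¹ = z ^ n * y := fun n => by
      induction n with
      | zero => simp
      | succ n ih =>
        calc g ^ (n + 1) * y * (g ^ (n + 1))⁻¹ = g * (g ^ n * y * (g ^ n)⁻¹) * g⁻¹ := by group
          _ = (g * z * g⁻¹) ^ n * (g * y * g⁻¹ * y⁻¹) * y := by rw [ih, conj_pow]; group
          _ = _ := by rw [e', kz g hg, pow_succ]
    have zm : z ^ m = z := by
      obtain ⟨i, rfl⟩ := hm
      rw [pow_succ, pow_mul, pow_two, z2, one_pow, one_mul]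
    have gm := K.pow_mem hg m
    have p' := p m
    rw [zm] at p'
    have gU : g ^ m ∈ nor U :=
      nor_of_gens hU (by rwa [kz _ gm]) (by rw [p']; exact U.mul_mem zU yU)
    obtain ⟨h, hh, h4⟩ := (hQ.of_le (le_inf hQ.le (le_normalizer_of_le_centralizer QU))
      inf_le_left).exists_cj_le (isPGroup_zpowers (k := j) (x := g ^ m) (by
        rw [← pow_mul, mul_comm, ← e2, pow_orderOf_eq_one])) (zpowers_le.2 ⟨gm, gU⟩)
    have h5 := conj_mem_of_mem_normalizer' (normalizer_le_normalizer_centralizer U hh.2)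
      (QU (h4 (conj_mem_cj (mem_zpowers _))))
    have h6 : y * g ^ m = g ^ m * y := by simpa [mul_assoc] using h5 y yU
    rw [← h6, mul_inv_cancel_right] at p'
    simpa using p'
  have KE : K ≤ X ⊓ cen U := fun k hk => ⟨(KC hk).1, fun u hu => mem_cen1.1
    ((hU (cen1 k)).2 ⟨mem_cen1.2 (mem_cen1.1 (KC hk).2).symm, mem_cen1.2 (by
      rw [← mul_inv_eq_iff_eq_mul, ← mul_inv_eq_one]; exact Ky k hk)⟩ hu)⟩
  have EC : X ⊓ cen U ≤ X ⊓ cen1 z := inf_le_inf_left _ (cen_le_cen1 zU)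
  have nE : ∀ g ∈ nor U, cj g K ≤ X ⊓ cen U ∧ X ⊓ cen U ≤ nor (cj g K) := fun g hg => by
    have : cj g (X ⊓ cen U) = X ⊓ cen U := by
      rw [cj_inf, cj_eq_self_of_normal, cj_eq_self (normalizer_le_normalizer_centralizer U hg)]
    rw [← this, nor, ← cj_normalizer]
    exact ⟨cj_mono g KE, cj_mono g (EC.trans CK)⟩
  have rU := nor_of_gens hU (rz ▸ U.mul_mem yU zU) (by rwa [ry])
  have tU := nor_of_gens hU (by rwa [tz]) (ty ▸ U.mul_mem yU zU)
  obtain ⟨a1, a2⟩ := nE r rU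
  obtain ⟨b1, b2⟩ := nE _ (mul_mem tU rU)
  have inf : cj r K ⊓ cj (t * r) K = ⊥ := by
    refine OK r _ inf_le_left ?_ (le_normalizer_inf le_normalizer (a1.trans b2))
    rw [← Nat.not_even_iff_odd, even_iff_two_dvd]
    intro h
    obtain ⟨⟨w, hw⟩, h⟩ := exists_prime_orderOf_dvd_card' 2 h
    rw [← orderOf_coe] at h
    have w2 : w * w = 1 := by rw [← pow_two, ← h, pow_orderOf_eq_one]
    have k : ∀ g, w ∈ cj g K → w = g * z * g⁻¹ := fun g hg => by
      obtain ⟨k, hk, rfl⟩ := hg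
      have w2 : g * k * g⁻¹ * (g * k * g⁻¹) = 1 := w2
      rw [conj_mul, conj_eq_one_iff] at w2
      rcases invK k hk w2 with rfl | rfl
      · simp at h
      · rfl
    have e := (k _ hw.1).symm.trans (k _ hw.2)
    rw [show t * r * z * (t * r)⁻¹ = t * (r * z * r⁻¹) * t⁻¹ by group, rz, ← conj_mul, ty, tz,
      mul_assoc, z2, mul_one] at e
    exact z1 (by simpa using e)
  rw [← cj_cj] at inf b1 b2
  refine sol_of_swap t2 (a1.trans (EC.trans inf_le_right))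
    (mem_cen1.2 (by rw [← mul_inv_eq_iff_eq_mul, tz])) (fun a ha b hb => ?_) inf sol
  exact (commutator_eq_bot_iff_le_centralizer.1 (le_bot_iff.1 ((le_inf
    (commutator_le_left' (b1.trans a2)) (commutator_le_right' (a1.trans b2))).trans inf.le)) ha b hb).symm

end H24.L33
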