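/- Tower NSFT, USE1 redone with the prime version `GTp` of the geometric theorem. -/
import Cfsg.Agent.H36.NSUse1
import Cfsg.Agent.H24.NSFinal
import Cfsg.Agent.H43.CpAll

set_option autoImplicit false
set_option linter.unusedSectionVars false

open Cfsg hiding pRank
open Subgroup H46 H24.NS H36.NSU
open H14 (CP layerOf)
open H98 (SubN)

namespace H24.NSU

universe u
variable {G : Type u} [Group G] [Finite G] {r m : ℕ} {A E J K S : Subgroup G} {θ : G → Subgroup G}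
  {a b c s t : G}

theorem concl' (h : Su r A θ) (gt : GTp.{u}) {W : Subgroup G} (hW1 : W ≠ ⊥)
    (hle : ∀ a ∈ A, a ≠ 1 → θ a ≤ W)
    (hkg : ∀ a ∈ A, a ≠ 1 → layerOf (θ a) ≠ ⊥ → IsKGroup (layerOf (θ a)))
    (hW : W = ⨆ a : {a : G // a ∈ A ∧ a ≠ 1}, layerOf (θ a.1)) :
    (∃ m, ASimple r m A W) ∧ IsKGroup W ∧ ∀ a ∈ A, a ≠ 1 → W ⊓ Cent1 a = θ a := by
  have := Fact.mk h.prime
  have hne : ∃ x : G × Subgroup G, x.1 ∈ A ∧ x.1 ≠ 1 ∧ CP x.2 (layerOf (θ x.1)) := by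
    by_contra hn
    refine hW1 (le_bot_iff.1 (hW ▸ iSup_le fun a => le_bot_iff.2 ?_))
    by_contra hl
    obtain ⟨K, hK⟩ := exists_cp (h.ctx a.1 a.2.1 a.2.2 hl).ss hl
    exact hn ⟨(a.1, K), a.2.1, a.2.2, hK⟩
  obtain ⟨⟨a0, K0⟩, ⟨ha0, ha1, hK0⟩, hmax⟩ := Set.exists_max_image
    {x : G × Subgroup G | x.1 ∈ A ∧ x.1 ≠ 1 ∧ CP x.2 (layerOf (θ x.1))} (fun x => Nat.card x.2)
    (Set.toFinite _) hne
  have hm : ∀ a ∈ A, a ≠ 1 → ∀ K, CP K (layerOf (θ a)) → Nat.card K ≤ Nat.card K0 :=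
    fun a ha h1 K hK => hmax (a, K) ⟨ha, h1, hK⟩
  have hf0 : Fu (Nat.card K0) A θ a0 := ⟨ha0, ha1, live_of hK0, fun K hK => by
    obtain ⟨x, -, rfl⟩ := h.trans ha0 ha1 hK0 hK
    exact card_cj _ _⟩
  obtain ⟨S, hSA, hSc, hS⟩ := h.exists_S hm hf0
  obtain ⟨g1, g2, g3⟩ := gt r (Nat.card K0) G A S (fun a => layerOf (θ a)) h.prime h.rank hSA hSc
    (fun a ha hn => by
      obtain ⟨h1, h2⟩ := hS a ha hn
      exact ⟨⟨h.ctx a ha h1.ne h1.live, h1.live, fun K K' hK hK' => h.trans ha h1.ne hK hK', h1.card⟩,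
        h.E_cent ha h1.ne, (h.cA a ha h1.ne h1.live).le, fun K hK => by rw [← h.T_eq ha h1.ne hK, h2]⟩)
    (fun a ha hn b hb hbn hab => by
      obtain ⟨h1, h2⟩ := hS a ha hn
      by_cases hT : b ∈ TT A θ a
      · rw [h2] at hT
        obtain ⟨x, hx, y, hy, e⟩ := (mem_sup_of_nrm (K := zpowers a) (H := S)
          (hSA.trans (nrm_of_le_cent (H15.elem_le_cent h.elem (zpowers_le.2 ha))))).1 hT
        have hy1 : y = 1 := by
          refine mem_bot.1 (hab ▸ mem_inf.2 ⟨?_, hy⟩)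
          rw [show y = x⁻¹ * b by rw [e]; group]
          exact mul_mem (mem_sup_left (inv_mem hx)) (mem_sup_right (mem_zpowers b))
        rw [hy1, mul_one] at e
        rw [← h.theta_eq ha (e ▸ hx) (hS b hb hbn).1.ne]
        exact inf_le_left
      · exact h.inf_le ha h1.ne h1.live hb hT)
    (fun a ha hn b hb hbn => by
      refine le_trans (inf_le_inf_right _ (H14.layerOf_le_self _)) ?_
      exact (h.bal a ha b hb (hS a ha hn).1.ne (hS b hb hbn).1.ne).trans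
        (le_nrm_self.trans (H14.normalizer_le_normalizer_layerOf _))) _ rfl
  obtain ⟨B, hB1, hB2⟩ := H9.exists_compl_of_elementary h.elem hSA
  have hBA : B ≤ A := hB2 ▸ le_sup_right
  have hBS : ∀ b ∈ B, b ≠ 1 → b ∉ S := fun b hb h1 hs => h1 (mem_bot.1 (hB1 ▸ mem_inf.2 ⟨hs, hb⟩))
  have hBc : r ^ 2 ≤ Nat.card B := by
    have h1 := card_mul_relIndex hBA
    have h2 : B.relIndex A ≤ r := by
      rw [← hB2, sup_comm, relIndex_sup_of_nrm (hSA.trans (nrm_of_le_cent (H15.elem_le_cent h.elem hBA)))]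
      exact Nat.le_of_dvd h.prime.pos ((relIndex_dvd_card _ _).trans hSc)
    have h3 := h.rank
    have h4 : r ^ 2 * r ≤ Nat.card B * r := by
      calc r ^ 2 * r = r ^ 3 := by ring
        _ ≤ Nat.card B * B.relIndex A := h1 ▸ h3
        _ ≤ Nat.card B * r := Nat.mul_le_mul_left _ h2
    exact Nat.le_of_mul_le_mul_right h4 h.prime.pos
  have e : W = ⨆ a : {a : G // a ∈ A ∧ a ∉ S}, layerOf (θ a.1) := by
    rw [hW]
    refine le_antisymm (iSup_le fun a => ?_)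
      (iSup_le fun a => le_iSup_of_le ⟨a.1, a.2.1, (hS a.1 a.2.1 a.2.2).1.ne⟩ le_rfl)
    by_cases hl : layerOf (θ a.1) = ⊥
    · rw [hl]; exact bot_le
    refine h.tk.gen_layer (h.tk.restrict (h.ctx a.1 a.2.1 a.2.2 hl) hBA) hBc fun b hb h1 => ?_
    exact (h.balE a.1 a.2.1 b (hBA hb) a.2.2 h1).trans (le_iSup_of_le ⟨b, hBA hb, hBS b hb h1⟩ le_rfl)
  rw [← e] at g1 g2 g3
  have hth : ∀ a ∈ A, a ∉ S → W ⊓ Cent1 a ≤ θ a := fun a ha hn =>
    (g2 a ha hn).le.trans (H14.layerOf_le_self _)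
  refine ⟨⟨_, g1⟩, kgroup_of_ss h.tk.p g1.ctx.ss fun K hK => ?_, fun a ha h1 => ?_⟩
  · obtain ⟨a, ha, hn, K', hK', ⟨f⟩⟩ := g3 K hK
    exact ⟨_, (inclusion hK'.le).comp f.toMonoidHom, (inclusion_injective hK'.le).comp f.injective,
      hkg a ha (hS a ha hn).1.ne (live_of hK')⟩
  · refine le_antisymm ?_ (le_inf (hle a ha h1) (h.cent a ha h1))
    refine H15.le_of_cent1 h.prime (H15.elem_of_le h.elem hBA) hBc
      (hBA.trans (nrm_inf g1.ctx.nrm (nrm_cent1 (H15.elem_le_cent1 h.elem ha)))) g1.ctx.pi.inf_left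
      fun b hb hb1 => le_trans ?_ (h.bal b (hBA hb) a ha hb1 h1)
    exact le_inf (le_trans (inf_le_inf_right _ inf_le_left) (hth b (hBA hb) (hBS b hb hb1)))
      (inf_le_left.trans inf_le_right)

theorem s1923_of' (tk : TK.{u}) (gt : GTp.{u}) (kf : AllKF.{u})
    {X : Type u} [Group X] [Finite X] {r : ℕ} [Fact r.Prime] (A G : Subgroup X) (hG : G ≠ ⊥)
    (hA : Cfsg.IsElementaryAbelian r A) (hrank : r ^ 3 ≤ Nat.card A)
    (θ : X → Subgroup X)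
    (hθ : ∀ a ∈ A, a ≠ 1 → θ a ≤ G ⊓ Subgroup.centralizer ({a} : Set X) ∧ A ≤ Subgroup.normalizer ((θ a : Subgroup X) : Set X) ∧ (Nat.card ↥(θ a)).Coprime r)
    (hE : ∀ a ∈ A, a ≠ 1 → Cfsg.layer ↥(θ a) ≠ ⊥ →
      ¬ IsMulCommutative ↥((Cfsg.layer ↥(θ a)).map (θ a).subtype) ∧
      (∀ N : Subgroup X, N ≤ (Cfsg.layer ↥(θ a)).map (θ a).subtype → (N.subgroupOf ((Cfsg.layer ↥(θ a)).map (θ a).subtype)).Normal →
         A ≤ Subgroup.normalizer (N : Set X) → N = ⊥ ∨ N = (Cfsg.layer ↥(θ a)).map (θ a).subtype) ∧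
      Cfsg.IsKGroup ↥((Cfsg.layer ↥(θ a)).map (θ a).subtype) ∧
      Cfsg.fittingSubgroup ↥(θ a) = ⊥ ∧
      A ⊓ Subgroup.centralizer (((Cfsg.layer ↥(θ a)).map (θ a).subtype : Subgroup X) : Set X) = Subgroup.zpowers a)
    (hbal : ∀ a ∈ A, ∀ b ∈ A, a ≠ 1 → b ≠ 1 →
      θ a ⊓ Subgroup.centralizer ({b} : Set X) ≤ θ b ∧
      (Cfsg.layer ↥((Cfsg.layer ↥(θ a)).map (θ a).subtype ⊓ Subgroup.centralizer ({b} : Set X))).map
          ((Cfsg.layer ↥(θ a)).map (θ a).subtype ⊓ Subgroup.centralizer ({b} : Set X)).subtype ≤ (Cfsg.layer ↥(θ b)).map (θ b).subtype)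
    (hgen : G = ⨆ a : {a : X // a ∈ A ∧ a ≠ 1}, (Cfsg.layer ↥(θ a.1)).map (θ a.1).subtype) :
    (Nat.card G).Coprime r ∧ ¬ IsMulCommutative ↥G ∧
    (∀ N : Subgroup X, N ≤ G → (N.subgroupOf G).Normal → A ≤ Subgroup.normalizer (N : Set X) → N = ⊥ ∨ N = G) ∧
    Cfsg.IsKGroup ↥G ∧ ∀ a ∈ A, a ≠ 1 → G ⊓ Subgroup.centralizer ({a} : Set X) = θ a := by
  have hr : r.Prime := Fact.out
  have hE' := fun a ha h1 (hl : layerOf (θ a) ≠ ⊥) =>
    hE a ha h1 fun e => hl (H14.layerOf_eq_bot_iff.2 e)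
  have hsim : ∀ a ∈ A, a ≠ 1 → layerOf (θ a) ≠ ⊥ → ∀ N, N ⊴ layerOf (θ a) → A ≤ Nrm N →
      N = ⊥ ∨ N = layerOf (θ a) := fun a ha h1 hl N hN hn =>
    (hE' a ha h1 hl).2.1 N hN.1 (normal_subgroupOf_of_le_normalizer hN.2) hn
  have hctx : ∀ a ∈ A, a ≠ 1 → layerOf (θ a) ≠ ⊥ → Ctx r A (layerOf (θ a)) := by
    intro a ha h1 hl
    have hn : A ≤ Nrm (layerOf (θ a)) :=
      (hθ a ha h1).2.1.trans (H14.normalizer_le_normalizer_layerOf _)
    have hpi : IsPi {r}ᶜ (layerOf (θ a)) :=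
      ((isPi_compl_singleton_iff_coprime hr).2 (hθ a ha h1).2.2).of_le (H14.layerOf_le_self _)
    have hss : SS (layerOf (θ a)) := by
      refine ⟨le_antisymm (H14.layerOf_le_self _) (H14.layerOf_le fun K hK =>
        (hK.of_le hK.le_layerOf (H14.layerOf_le_self _)).le_layerOf), ?_⟩
      refine (hsim a ha h1 hl _ ⟨inf_le_left, nrm_zc le_nrm_self⟩ (nrm_zc hn)).resolve_right fun e => ?_
      exact (hE' a ha h1 hl).1 (comm_iff_le_cent.2 (e.symm.le.trans inf_le_right))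
    refine ⟨hr, hA, hpi, hn, hss, fun K hK => ?_⟩
    obtain ⟨hs, hc, -⟩ := tk.p.simple hss hK
    refine kf K hc (H82.known_of_surjective (hE' a ha h1 hl).2.2.1 (K.subgroupOf _)
      (subgroupOfEquivOfLe hK.le).toMonoidHom (MulEquiv.surjective _) hs hc) r hr ?_
    exact (isPi_compl_singleton hr).1 (hpi.of_le hK.le)
  have hS : Su r A θ :=
    { tk := tk
      prime := hr
      elem := hA
      rank := hrank
      cent := fun a ha h1 => (hθ a ha h1).1.trans inf_le_right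
      ctx := hctx
      orb := fun a ha h1 K hK => by
        obtain ⟨g1, g2, g3, -⟩ := tk.orb_ctx (hctx a ha h1 (live_of hK)) hK
        exact (hsim a ha h1 (live_of hK) _ g2 g1.nrm).resolve_left
          (live_of ((g3 K).2 ⟨1, one_mem _, (cj_one K).symm⟩))
      cA := fun a ha h1 hl => (hE' a ha h1 hl).2.2.2.2
      bal := fun a ha b hb h1 h2 => (hbal a ha b hb h1 h2).1
      balE := fun a ha b hb h1 h2 => (hbal a ha b hb h1 h2).2 }
  obtain ⟨⟨m, g1⟩, g2, g3⟩ := concl' hS gt hG (fun a ha h1 => (hθ a ha h1).1.trans inf_le_left)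
    (fun a ha h1 hl => (hE' a ha h1 hl).2.2.1) hgen
  refine ⟨(isPi_compl_singleton_iff_coprime hr).1 g1.ctx.pi, fun hc => hG ?_, fun N hN hn hA' =>
    asimple_normal tk.p g1 ⟨hN, (normal_subgroupOf_iff_le_normalizer hN).1 hn⟩ hA', g2, g3⟩
  rw [← g1.ctx.ss.zc]
  exact (inf_eq_left.2 (comm_iff_le_cent.1 hc)).symm

end H24.NSU
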