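/- O8 tower, slot CL2: a 2-group normalised by a Frobenius group of order 21 has class two. -/
import Cfsg.Agent.H74.O8Kit2

set_option autoImplicit false
set_option linter.unusedSectionVars false

namespace H24.O8

open Cfsg Subgroup H98 H74.OC H74.O8
open scoped commutatorElement

universe u

variable {G : Type u} [Group G] [Finite G]

local instance : Fact (Nat.Prime 2) := ⟨Nat.prime_two⟩

/-- The abelianisation of `A`, written additively. -/
abbrev Ab (A : Subgroup G) : Type u := Additive (Abelianization A)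

/-- The class of an element. -/
def ab {A : Subgroup G} (a : A) : Ab A := Additive.ofMul (Abelianization.of a)

section
variable {A C : Subgroup G}

theorem ab_mul (a b : A) : ab (a * b) = ab a + ab b := congrArg Additive.ofMul (map_mul _ a b)

theorem ab_one : ab (1 : A) = 0 := rfl

theorem ab_surj (v : Ab A) : ∃ a, ab a = v := QuotientGroup.mk_surjective (Additive.toMul v)

theorem ab_eq_zero {a : A} : ab a = 0 ↔ (a : G) ∈ ⁅A, A⁆ := by
  rw [← map_subtype_commutator, ← coe_subtype, mem_map_iff_mem A.subtype_injective,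
    ← Abelianization.ker_of]
  rfl

/-- The action on the abelianisation. -/
def act (A : Subgroup G) [A.Normal] : G →* AddMonoid.End (Ab A) where
  toFun g := MonoidHom.toAdditive (Abelianization.map (MulAut.conjNormal g : MulAut A).toMonoidHom)
  map_one' := AddMonoidHom.ext fun v => by obtain ⟨a, rfl⟩ := ab_surj v; rw [map_one]; rfl
  map_mul' g h := AddMonoidHom.ext fun v => by obtain ⟨a, rfl⟩ := ab_surj v; rw [map_mul]; rfl

theorem exists_bil {W : Type u} [AddCommGroup W] (f : A → C → W)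
    (h1 : ∀ a a' c, f (a * a') c = f a c + f a' c) (h2 : ∀ a c c', f a (c * c') = f a c + f a c') :
    ∃ β : Ab A →+ Ab C →+ W, ∀ a c, β (ab a) (ab c) = f a c :=
  ⟨MonoidHom.toAdditiveLeft (Abelianization.lift (MonoidHom.mk' (fun a => Multiplicative.ofAdd
    (MonoidHom.toAdditiveLeft (Abelianization.lift (MonoidHom.mk'
      (fun c => Multiplicative.ofAdd (f a c)) (h2 a))))) fun a a' => AddMonoidHom.ext fun v => by
        obtain ⟨c, rfl⟩ := ab_surj v
        exact h1 a a' c)), fun _ _ => rfl⟩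

variable [A.Normal] [C.Normal] (hs : Sp 8 G) (hA : IsPGroup 2 A) {σ x y : G}

theorem act_ab (g : G) (a : A) : act A g (ab a) = ab (MulAut.conjNormal g a) := rfl

include hA in
theorem fix_lift (hy : orderOf y = 3) {v : Ab A} (h : act A y v = v) :
    ∃ a : A, ab a = v ∧ (a : G) ∈ centralizer ({y} : Set G) := by
  obtain ⟨a, rfl⟩ := ab_surj v
  have h1 : ⁅A, A⁆ ≤ A := commutator_le_left A A
  obtain ⟨n, hn, h2⟩ := lift_fix (hA.to_le h1) hy (x := a) (by rw [normalizer_eq_top]; trivial)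
    ((ab_eq_zero (a := MulAut.conjNormal y a * a⁻¹)).1 (by
      rw [ab_mul, ← act_ab, h, ← ab_mul, mul_inv_cancel, ab_one]))
  exact ⟨⟨n, h1 hn⟩ * a, by rw [ab_mul, ab_eq_zero.2 hn, zero_add], h2⟩

include hs hA

theorem nrm (h7 : orderOf σ = 7) : 1 + act A σ + act A σ ^ 2 + act A σ ^ 3 + act A σ ^ 4 +
    act A σ ^ 5 + act A σ ^ 6 = 0 := AddMonoidHom.ext fun v => by
  obtain ⟨a, rfl⟩ := ab_surj v
  have h1 : orderOf (QuotientGroup.mk' A σ) = 7 := by
    have := Fact.mk (by norm_num : Nat.Prime 7)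
    refine orderOf_eq_prime (by rw [← map_pow, ← h7, pow_orderOf_eq_one, map_one]) fun k => ?_
    have := two_dvd_order hA ((QuotientGroup.eq_one_iff σ).1 k) (by rintro rfl; simp at h7)
    omega
  have h2 := ord_eq hs (QuotientGroup.mk' A) (g := a * σ) (n := 7) (by norm_num) (by
    rwa [map_mul, show QuotientGroup.mk' A a = 1 from (QuotientGroup.eq_one_iff _).2 a.2, one_mul])
  simp only [← map_pow]
  change ab a + act A _ _ + act A _ _ + act A _ _ + act A _ _ + act A _ _ + act A _ _ = 0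
  simp only [act_ab, ← ab_mul]
  rw [← ab_one]
  refine congrArg ab (Subtype.ext ?_)
  have h3 : (a * σ) ^ 7 = σ ^ 7 := by
    rw [← h2, pow_orderOf_eq_one, h2, ← h7, pow_orderOf_eq_one]
  simp only [coe_mul, MulAut.conjNormal_apply, coe_one]
  rw [← mul_left_inj (σ ^ 7), one_mul]
  conv_rhs => rw [← h3]
  simp only [pow_succ, pow_zero]
  group

theorem isAct (h7 : orderOf σ = 7) (h3 : orderOf x = 3) (h : x * σ * x⁻¹ = σ ^ 2) :
    Act (Ab A) (act A σ) (act A x) := by
  have h1 := nrm hs hA h7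
  have h2 : x * σ = σ ^ 2 * x := mul_inv_eq_iff_eq_mul.1 h
  have x3 : x ^ 3 = 1 := h3 ▸ pow_orderOf_eq_one x
  have s7 : σ ^ 7 = 1 := h7 ▸ pow_orderOf_eq_one σ
  refine ⟨fun v => ?_, by rw [← map_pow, x3, map_one], by rw [← map_pow, ← map_mul, h2, map_mul], h1⟩
  have key : ∀ i j : ℕ, j = 3 * i % 7 →
      2 • (v + (act A σ ^ i) (act A x v) + (act A σ ^ j) (act A x (act A x v))) = 0 := by
    rintro i _ rfl
    have h4 : x * σ ^ i * x⁻¹ = σ ^ (2 * i) := by rw [← conj_pow, h, pow_mul]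
    have h5 : orderOf (σ ^ i * x) = 3 := by
      rw [← h3, ← (MulAut.conj (σ ^ i)⁻¹).orderOf_eq x, MulAut.conj_apply, inv_inv, mul_assoc,
        mul_inv_eq_iff_eq_mul.1 h4, two_mul, pow_add, mul_assoc, inv_mul_cancel_left]
    have h6 : σ ^ i * x * (σ ^ i * x) = σ ^ (3 * i % 7) * x * x := by
      rw [← pow_eq_pow_mod _ s7, mul_assoc, ← mul_assoc x, mul_inv_eq_iff_eq_mul.1 h4,
        ← mul_assoc, ← mul_assoc, ← pow_add, show i + 2 * i = 3 * i by ring]
    have h7 : act A (σ ^ i * x) (act A (σ ^ i * x * (σ ^ i * x)) v) = v :=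
      DFunLike.congr_fun (show act A _ * act A _ = 1 by
        rw [← map_mul, ← pow_three, ← h5, pow_orderOf_eq_one, map_one]) v
    obtain ⟨a, h8, h9⟩ := fix_lift hA h5 (v := v + act A (σ ^ i * x) v +
      act A (σ ^ i * x * (σ ^ i * x)) v) (by rw [map_add, map_add, h7, map_mul _ (_ * x), ← add_rotate]; rfl)
    rw [h6, map_mul, map_mul, map_mul, map_pow, map_pow] at h8
    refine (congrArg (2 • ·) h8).symm.trans ?_
    rw [two_nsmul, ← ab_mul, ← ab_one]
    exact congrArg ab (Subtype.ext ((sq _).symm.trans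
      ((el3 hs h5 hA.to_inf_left inf_le_right).2 a ⟨a.2, h9⟩)))
  have n1 : ∀ w, (act A σ ^ 0) w + (act A σ ^ 1) w + (act A σ ^ 2) w + (act A σ ^ 3) w +
      (act A σ ^ 4) w + (act A σ ^ 5) w + (act A σ ^ 6) w = 0 := fun w => by
    rw [pow_zero, pow_one]; exact DFunLike.congr_fun h1 w
  have h14 : 14 • v = 0 := by
    linear_combination (norm := module) key 0 0 rfl + key 1 3 rfl + key 2 6 rfl + key 3 2 rfl +
      key 4 5 rfl + key 5 1 rfl + key 6 4 rfl - 2 • n1 (act A x v) - 2 • n1 (act A x (act A x v))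
  obtain ⟨k, hk⟩ := hA.to_quotient (commutator A) (Additive.toMul v)
  rw [← two_nsmul, ← addOrderOf_dvd_iff_nsmul_eq_zero]
  exact (Nat.Coprime.coprime_dvd_left (addOrderOf_dvd_of_nsmul_eq_zero (n := 2 ^ k) hk)
    (Nat.Coprime.pow_left k (by norm_num : Nat.Coprime 2 7))).dvd_of_dvd_mul_right
      (addOrderOf_dvd_of_nsmul_eq_zero h14)

theorem bil (j : JobBIL.{u}) (h7 : orderOf σ = 7) (h3 : orderOf x = 3) (h : x * σ * x⁻¹ = σ ^ 2)
    (hC : C ≤ A) {E : Subgroup G} [E.Normal] (hE : E ≤ A) {W : Type u} [AddCommGroup W]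
    {r : AddMonoid.End W} (hr : 1 + r + r ^ 2 + r ^ 3 + r ^ 4 + r ^ 5 + r ^ 6 = 0)
    (β : Ab C →+ Ab E →+ W) (h1 : ∀ a b, β (act C σ (ab a)) (act E σ (ab b)) = r (β (ab a) (ab b)))
    (h2 : ∀ (a : C) (b : E), (a : G) * b = b * a → β (ab a) (ab b) = 0) (a : Ab C) (b : Ab E) :
    β (eP (act C σ) a) (eM (act E σ) b) = 0 ∧ β (eM (act C σ) a) (eP (act E σ) b) = 0 ∧
      eP r (β (eP (act C σ) a) (eP (act E σ) b)) = 0 ∧
      eM r (β (eM (act C σ) a) (eM (act E σ) b)) = 0 := by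
  refine (j _ _ W _ _ _ _ r β (isAct hs (hA.to_le hC) h7 h3 h) (isAct hs (hA.to_le hE) h7 h3 h) hr
    (fun a b => ?_) fun a b ha hb => ?_).2 a b
  · obtain ⟨a, rfl⟩ := ab_surj a
    obtain ⟨b, rfl⟩ := ab_surj b
    exact h1 a b
  · obtain ⟨a, rfl, h4⟩ := fix_lift (hA.to_le hC) h3 ha
    obtain ⟨b, rfl, h5⟩ := fix_lift (hA.to_le hE) h3 hb
    exact h2 a b (congrArg Subtype.val ((el3 hs h3 hA.to_inf_left inf_le_right).1.1.1
      ⟨a, hC a.2, h4⟩ ⟨b, hE b.2, h5⟩))

omit hs hA in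
theorem eP_add_eM {U : Type u} [AddCommGroup U] {s x : AddMonoid.End U} (h : Act U s x) (v : U) :
    eP s v + eM s v = v := by
  have h1 : v + s v + (s ^ 2) v + (s ^ 3) v + (s ^ 4) v + (s ^ 5) v + (s ^ 6) v = 0 :=
    DFunLike.congr_fun h.nrm v
  change s v + (s ^ 2) v + (s ^ 4) v + ((s ^ 3) v + (s ^ 5) v + (s ^ 6) v) = v
  linear_combination (norm := module) h1 - h.two v

theorem step (j : JobBIL.{u}) (h7 : orderOf σ = 7) (h3 : orderOf x = 3) (h : x * σ * x⁻¹ = σ ^ 2)
    (hc : ⁅⁅A, A⁆, A⁆ ≤ centralizer (A : Set G)) : ⁅A, A⁆ ≤ centralizer (A : Set G) := by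
  have h0 : ⁅A, A⁆ ≤ A := commutator_le_left A A
  have h1 : ⁅⁅A, A⁆, ⁅A, A⁆⁆ = ⊥ := commutator_commutator_eq_bot_of_rotate
    (commutator_eq_bot_iff_le_centralizer.2 (by rwa [commutator_comm]))
    (commutator_eq_bot_iff_le_centralizer.2 hc)
  have m : ∀ {a b : G}, a ∈ A → b ∈ A → ⁅a, b⁆ ∈ ⁅A, A⁆ := commutator_mem_commutator
  have z : ∀ {a b c : G}, a ∈ ⁅A, A⁆ → b ∈ A → c ∈ A → c * ⁅a, b⁆ = ⁅a, b⁆ * c := fun ha hb hc' =>
    hc (commutator_mem_commutator ha hb) _ hc'
  obtain ⟨β, hβ⟩ := exists_bil (fun (a : ↥⁅A, A⁆) (c : A) => ab (A := ⁅A, A⁆) ⟨_, m (h0 a.2) c.2⟩)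
    (fun a a' c => by
      rw [add_comm, ← ab_mul]
      exact congrArg ab (Subtype.ext ((commutatorElement_mul_left_eq_conj_mul _ _ _).trans (by
        rw [z a'.2 c.2 (h0 a.2), mul_inv_cancel_right]; rfl))))
    (fun a c c' => by
      rw [← ab_mul]
      exact congrArg ab (Subtype.ext ((commutatorElement_mul_right_eq_mul_conj _ _ _).trans (by
        rw [mul_assoc _ (c : G), z a.2 c'.2 c.2, ← mul_assoc, mul_inv_cancel_right]; rfl))))
  have hK : ∀ w : ↥⁅A, A⁆, β (ab w) = 0 ↔ (w : G) ∈ centralizer (A : Set G) := fun w =>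
    ⟨fun k c hc => by
      have := (hβ w ⟨c, hc⟩).symm.trans (DFunLike.congr_fun k _)
      rw [AddMonoidHom.zero_apply, ab_eq_zero, h1] at this
      exact (commutatorElement_eq_one_iff_mul_comm.1 this).symm,
    fun k => AddMonoidHom.ext fun v => by
      obtain ⟨c, rfl⟩ := ab_surj v
      exact (hβ w c).trans (congrArg ab
        (Subtype.ext (commutatorElement_eq_one_iff_mul_comm.2 (k c c.2).symm)))⟩
  let π := QuotientAddGroup.mk' β.ker
  let r : AddMonoid.End (Ab ⁅A, A⁆ ⧸ β.ker) := QuotientAddGroup.map _ _ (act _ σ) fun v hv => by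
    obtain ⟨w, rfl⟩ := ab_surj v
    exact (hK _).2 (Normal.conj_mem inferInstance _ ((hK w).1 hv) σ)
  have r1 : ∀ (n : ℕ) v, (r ^ n) (π v) = π ((act _ σ ^ n) v) := fun n => by
    induction n with
    | zero => exact fun _ => rfl
    | succ n ih => exact fun v => by rw [pow_succ, pow_succ]; exact ih (act _ σ v)
  have π1 : ∀ a ∈ A, ∀ w : ↥⁅A, A⁆, π (ab (MulAut.conjNormal a w)) = π (ab w) := fun a ha w => by
    rw [← inv_mul_cancel_right (MulAut.conjNormal (H := ⁅A, A⁆) a w) w, ab_mul, map_add, add_eq_right]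
    exact (QuotientAddGroup.eq_zero_iff _).2 ((hK _).2
      (hc ((commutator_comm A _).le (commutator_mem_commutator ha w.2))))
  obtain ⟨γ, hγ⟩ := exists_bil (fun a c : A => π (ab ⟨_, m a.2 c.2⟩))
    (fun a a' c => by
      rw [add_comm, ← π1 a a.2 ⟨_, m a'.2 c.2⟩, ← map_add, ← ab_mul]
      exact congrArg (π <| ab ·) (Subtype.ext (commutatorElement_mul_left_eq_conj_mul _ _ _)))
    (fun a c c' => by
      rw [← π1 c c.2 ⟨_, m a.2 c'.2⟩, ← map_add, ← ab_mul]
      exact congrArg (π <| ab ·) (Subtype.ext ((commutatorElement_mul_right_eq_mul_conj _ _ _).trans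
        (by rw [mul_assoc, mul_assoc, ← mul_assoc (c : G)]; rfl))))
  have a1 := isAct hs (hA.to_le h0) h7 h3 h
  have b1 := bil hs hA j h7 h3 h h0 le_rfl a1.nrm β (fun a b => by
      rw [act_ab, act_ab, hβ, hβ, act_ab]
      exact congrArg ab (Subtype.ext (conjugate_commutatorElement _ _ _).symm))
    fun a b k => (hβ a b).trans (congrArg ab
      (Subtype.ext (commutatorElement_eq_one_iff_mul_comm.2 k)))
  have b2 := bil hs hA j h7 h3 h le_rfl le_rfl (r := r) (AddMonoidHom.ext fun v => by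
      obtain ⟨v, rfl⟩ := QuotientAddGroup.mk'_surjective _ v
      change π v + r (π v) + (r ^ 2) _ + (r ^ 3) _ + (r ^ 4) _ + (r ^ 5) _ + (r ^ 6) _ = 0
      rw [r1, r1, r1, r1, r1, ← pow_one r, r1, pow_one]
      simp only [← map_add]
      exact (congrArg π (DFunLike.congr_fun a1.nrm v)).trans (map_zero π)) γ (fun a b => by
      rw [act_ab, act_ab, hγ, hγ]
      exact congrArg (π <| ab ·) (Subtype.ext (conjugate_commutatorElement _ _ _).symm))
    fun a b k => (hγ a b).trans (congrArg (π <| ab ·)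
      (Subtype.ext (commutatorElement_eq_one_iff_mul_comm.2 k)))
  let T := QuotientAddGroup.kerLift β
  have t1 : ∀ a b c, γ a c = 0 → γ b c = 0 → T (γ a b) c = 0 := fun a b c k1 k2 => by
    obtain ⟨a, rfl⟩ := ab_surj a
    obtain ⟨b, rfl⟩ := ab_surj b
    obtain ⟨c, rfl⟩ := ab_surj c
    rw [hγ] at k1 k2 ⊢
    have k3 := inv_mem ((hK _).1 ((QuotientAddGroup.eq_zero_iff _).1 k1))
    have k4 := inv_mem ((hK _).1 ((QuotientAddGroup.eq_zero_iff _).1 k2))
    rw [commutatorElement_inv] at k3 k4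
    refine (hβ _ c).trans (congrArg ab (Subtype.ext (commutatorElement_eq_one_iff_mul_comm.2
      (mul_inv_eq_iff_eq_mul.1 ?_).symm)))
    rw [conjugate_commutatorElement, ← inv_mul_cancel_right (_ * _ * _) (a : G),
      ← inv_mul_cancel_right (c * b * _ : G) (b : G), ← commutatorElement_def (c : G),
      ← commutatorElement_def (c : G), commutatorElement_mul_left_eq_conj_mul,
      commutatorElement_eq_one_iff_mul_comm.2 (k3 _ (mul_mem (h0 (m c.2 b.2)) b.2)).symm, mul_one,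
      commutatorElement_mul_right_eq_mul_conj, commutatorElement_eq_one_iff_mul_comm.2 (k4 _ a.2),
      one_mul, ← k4 _ (h0 (m a.2 b.2)), mul_inv_cancel_right, ← k3 _ (h0 (m a.2 b.2)),
      mul_inv_cancel_right]
  have t2 : ∀ v c, eP r v = 0 → T v (eP (act A σ) c) = 0 := fun v c k => by
    obtain ⟨v, rfl⟩ := QuotientAddGroup.mk'_surjective _ v
    change r (π v) + (r ^ 2) _ + (r ^ 4) _ = 0 at k
    rw [r1, r1, ← pow_one r, r1, pow_one, ← map_add, ← map_add] at k
    change β v _ = 0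
    rw [← eP_add_eM a1 v, map_add, AddMonoidHom.add_apply, (b1 v c).2.1,
      show β (eP _ v) = 0 from (QuotientAddGroup.eq_zero_iff _).1 k, add_zero]
    rfl
  have t3 : ∀ v c, eM r v = 0 → T v (eM (act A σ) c) = 0 := fun v c k => by
    obtain ⟨v, rfl⟩ := QuotientAddGroup.mk'_surjective _ v
    change (r ^ 3) (π v) + (r ^ 5) _ + (r ^ 6) _ = 0 at k
    rw [r1, r1, r1, ← map_add, ← map_add] at k
    change β v _ = 0
    rw [← eP_add_eM a1 v, map_add, AddMonoidHom.add_apply, (b1 v c).1,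
      show β (eM _ v) = 0 from (QuotientAddGroup.eq_zero_iff _).1 k, zero_add]
    rfl
  refine commutator_le.2 fun a ha b hb => (hK ⟨_, m ha hb⟩).1 (AddMonoidHom.ext fun c => ?_)
  change T (π _) c = 0
  have a2 := isAct hs hA h7 h3 h
  rw [← hγ ⟨a, ha⟩ ⟨b, hb⟩, ← eP_add_eM a2 (ab ⟨a, ha⟩), ← eP_add_eM a2 (ab ⟨b, hb⟩),
    ← eP_add_eM a2 c]
  simp only [map_add, AddMonoidHom.add_apply, (b2 _ _).1, (b2 _ _).2.1, map_zero, add_zero,
    zero_add, t2 _ _ (b2 _ _).2.2.1, t3 _ _ (b2 _ _).2.2.2, t1 _ _ _ (b2 _ _).1 (b2 _ _).1,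
    t1 _ _ _ (b2 _ _).2.1 (b2 _ _).2.1]

end

theorem class_two (j : JobBIL.{u}) (n : ℕ) : ∀ (G : Type u) [Group G] [Finite G] (A : Subgroup G)
    [A.Normal] (σ x : G), Nat.card A = n → Sp 8 G → IsPGroup 2 A → orderOf σ = 7 → orderOf x = 3 →
    x * σ * x⁻¹ = σ ^ 2 → ⁅A, A⁆ ≤ centralizer (A : Set G) := by
  induction n using Nat.strong_induction_on with
  | _ n ih =>
  rintro G _ _ A _ σ x rfl hs hA h7 h3 h
  by_cases h0 : A = ⊥
  · simp [h0]
  refine step hs hA j h7 h3 h ?_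
  have h1 := inf_centralizer_ne_bot hA hA le_normalizer h0
  have key : ∀ y q, q.Prime → q ≠ 2 → orderOf y = q →
      orderOf (QuotientGroup.mk' (A ⊓ centralizer (A : Set G)) y) = q := fun y q hq h2 hy => by
    have := Fact.mk hq
    refine orderOf_eq_prime (by rw [← map_pow, ← hy, pow_orderOf_eq_one, map_one]) fun k => ?_
    have := two_dvd_order hA ((QuotientGroup.eq_one_iff y).1 k).1
      (by rintro rfl; exact hq.ne_one (by simpa using hy.symm))
    exact h2 ((Nat.prime_dvd_prime_iff_eq Nat.prime_two hq).1 (hy ▸ this)).symm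
  have h2 := ih _ ?_ _ (A.map (QuotientGroup.mk' (A ⊓ centralizer (A : Set G)))) _ _ rfl
    (hs.quot _) (hA.map _) (key σ 7 (by norm_num) (by norm_num) h7)
    (key x 3 (by norm_num) (by norm_num) h3) (by rw [← map_inv, ← map_mul, ← map_mul, h, map_pow])
  · rw [← commutator_eq_bot_iff_le_centralizer, ← map_commutator, ← map_commutator,
      Subgroup.map_eq_bot_iff, QuotientGroup.ker_mk'] at h2
    exact h2.trans inf_le_right
  · rw [← relIndex_ker, QuotientGroup.ker_mk', ← ((A ⊓ centralizer (A : Set G)).subgroupOf A).card_mul_index]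
    exact lt_mul_of_one_lt_left (Nat.pos_of_ne_zero index_ne_zero_of_finite)
      ((one_lt_card_iff_ne_bot _).2 fun k => h1 ((subgroupOf_eq_bot.1 k).eq_bot_of_le inf_le_left))

theorem jobCL2 : JobCL2.{u} := by
  rintro j G _ _ J hs hJ ⟨σ, h1, x, h2, h7, h3, h⟩
  have h4 : IsPGroup 2 (J.subgroupOf (normalizer (J : Set G))) := hJ.comap_subtype
  have h5 := class_two j _ _ (J.subgroupOf (normalizer (J : Set G))) ⟨σ, h1⟩ ⟨x, h2⟩ rfl (hs.sub _)
    h4 ((orderOf_coe _).symm.trans h7) ((orderOf_coe _).symm.trans h3) (Subtype.ext h)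
  have h6 := (isAct (hs.sub _) (h4.to_le (commutator_le_self _)) (σ := ⟨σ, h1⟩) (x := ⟨x, h2⟩)
    ((orderOf_coe _).symm.trans h7) ((orderOf_coe _).symm.trans h3) (Subtype.ext h)).two
  intro a ha
  rw [← map_subgroupOf_eq_of_le (le_normalizer (H := J)), ← map_commutator] at ha
  obtain ⟨a, ha, rfl⟩ := ha
  refine mem_oz.2 ⟨commutator_le_self (J.subgroupOf _) ha, fun b hb =>
    congrArg Subtype.val (h5 ha ⟨b, le_normalizer hb⟩ hb), ?_⟩
  have h8 := h6 (ab ⟨a, ha⟩)
  rw [← ab_mul, ab_eq_zero, commutator_eq_bot_iff_le_centralizer.2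
    (h5.trans (centralizer_le (commutator_le_left _ _)))] at h8
  exact (sq _).trans (congrArg Subtype.val h8)

end H24.O8
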