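import Cfsg.Agent.H24.O8SM0
import Cfsg.Agent.H98.O8Core
import Cfsg.Agent.H99.Product
import Cfsg.Agent.H74.O8A5b

/-! Tower O8, job SM8: a maximal 2-local subgroup `2^4 : S5` in a group with a large Sylow
2-subgroup. -/

set_option autoImplicit false

namespace H24.O8

open Subgroup Cfsg H98 H1.Gold H74.OC H74.O8
open H98.O8c (L0 exists_sq)
open H98.Oc (rel_card)

universe u

variable {G : Type u} [Group G] {Q B E : Subgroup G} {m : ℕ}

theorem l0cm (h : L0 Q m) {a b : G} (ha : a ∈ Q) (hb : b ∈ Q) : a * b = b * a := h.ab hb a ha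

theorem l0sq (h : L0 Q m) {a : G} (ha : a ∈ Q) : a * a = 1 := pow_two a ▸ h.sq a ha

theorem l0inv (h : L0 Q m) {a : G} (ha : a ∈ Q) : a⁻¹ = a :=
  inv_eq_of_mul_eq_one_right (l0sq h ha)

theorem mem_sup_zp {D : Subgroup G} {a x : G} (a2 : a * a = 1) (hn : a ∈ nor D)
    (hx : x ∈ D ⊔ zpowers a) : x ∈ D ∨ x * a ∈ D := by
  obtain ⟨n, hn, _, ⟨k, rfl⟩, rfl⟩ := (mem_sup_right_norm (zpowers_le_of_mem hn)).1 hx
  have e : ∀ j : ℤ, a ^ (2 * j) = 1 := fun j => by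
    rw [zpow_mul, show a ^ (2 : ℤ) = 1 by rw [zpow_two, a2], one_zpow]
  obtain ⟨j, rfl | rfl⟩ := Int.even_or_odd' k
  · left; simpa [e j] using hn
  · right
    simp only [zpow_add, e j, one_mul, zpow_one, mul_assoc, a2, mul_one]
    exact hn

/-- Two elementary subgroups of order 16 that normalise each other. -/
structure Pr (Q B : Subgroup G) : Prop where
  q : L0 Q 4
  b : L0 B 4
  ne : B ≠ Q
  qb : B ≤ nor Q
  bq : Q ≤ nor B

namespace Pr

theorem symm (h : Pr Q B) : Pr B Q := ⟨h.b, h.q, h.ne.symm, h.bq, h.qb⟩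

theorem two (h : Pr Q B) : IsPGroup 2 ↥(Q ⊔ B) := h.q.isP.to_sup_of_normal_left' h.b.isP h.qb

theorem cenZ (h : Pr Q B) : Q ⊔ B ≤ cen (Q ⊓ B) :=
  sup_le (h.q.ab.trans (centralizer_anti inf_le_left)) (h.b.ab.trans (centralizer_anti inf_le_right))

theorem norQ (h : Pr Q B) : Q ⊔ B ≤ nor Q := sup_le le_normalizer h.qb

theorem norB (h : Pr Q B) : Q ⊔ B ≤ nor B := sup_le h.bq le_normalizer

variable [Finite G]

theorem inf (h : Pr Q B) :
    Nat.card ↥(Q ⊓ B) = 4 ∧ ∀ b ∈ B, b ∉ Q → Q ⊓ B = Q ⊓ cen1 b := by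
  have h1 := h.q.two B h.qb fun b hb => h.b.sq' hb _
  rw [h.b.card, inf_comm] at h1
  have k : ∀ b ∈ B, b ∉ Q → Q ⊓ B = Q ⊓ cen1 b := fun b hb r =>
    eq_of_le_of_card_ge (fun x hx => ⟨hx.1, cen_le_cen1 hb (h.b.ab hx.2)⟩) (by
      rw [h.q.cen b (h.qb hb) r (h.b.sq' hb _)]; omega)
  obtain ⟨b, hb, r⟩ := SetLike.not_le_iff_exists.1 fun c : B ≤ Q =>
    h.ne (eq_of_le_of_card_ge c (h.q.card.trans h.b.card.symm).le)
  exact ⟨by rw [k b hb r, h.q.cen b (h.qb hb) r (h.b.sq' hb _)], k⟩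

theorem card (h : Pr Q B) : Nat.card ↥(Q ⊔ B) = 64 := by
  have s := H99.card_sup_mul_card_inf_of_le_normalizer' h.qb
  rw [h.inf.1, h.q.card, h.b.card] at s
  omega

theorem cover (h : Pr Q B) (e : E ≤ Q ⊔ B) (hE : ∀ x ∈ E, x ^ 2 = 1) : E ≤ Q ∨ E ≤ B := by
  refine SubgroupClass.subset_union.1 fun x hx => ?_
  obtain ⟨q, hq, b, hb, rfl⟩ := (mem_sup_right_norm h.qb).1 (e hx)
  by_cases r : b ∈ Q
  · exact Or.inl (mul_mem hq r)
  refine Or.inr (mul_mem ((h.inf.2 b hb r).ge ⟨hq, mem_cen1.2 ?_⟩).2 hb)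
  have := eq_inv_of_mul_eq_one_right (pow_two (q * b) ▸ hE _ hx)
  rwa [mul_inv_rev, l0inv h.q hq, l0inv h.b hb] at this

theorem cj_or (h : Pr Q B) (hE : L0 E 4) (e : E ≤ Q ⊔ B) : E = Q ∨ E = B :=
  (h.cover e hE.sq).imp (fun k => eq_of_le_of_card_ge k (h.q.card.trans hE.card.symm).le)
    fun k => eq_of_le_of_card_ge k (h.b.card.trans hE.card.symm).le

theorem perm (h : Pr Q B) {g : G} (hg : g ∈ nor (Q ⊔ B)) :
    (cj g Q = Q ∧ cj g B = B) ∨ (cj g Q = B ∧ cj g B = Q) := by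
  obtain a | a := h.cj_or (h.q.cj g) (cj_le_of_le le_sup_left hg) <;>
    obtain b | b := h.cj_or (h.b.cj g) (cj_le_of_le le_sup_right hg)
  · exact absurd (cj_inj.1 (b.trans a.symm)) h.ne
  · exact Or.inl ⟨a, b⟩
  · exact Or.inr ⟨a, b⟩
  · exact absurd (cj_inj.1 (b.trans a.symm)) h.ne

theorem norZ (h : Pr Q B) : nor (Q ⊔ B) ≤ nor (Q ⊓ B) := fun g hg => H98.cj_eq_self_iff.1 (by
  obtain ⟨a, b⟩ | ⟨a, b⟩ := h.perm hg
  · rw [cj_inf, a, b]
  · rw [cj_inf, a, b, inf_comm])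

theorem swap (h : Pr Q B) {a : G} (a2 : a * a = 1) (h1 : cj a Q = B) (h2 : cj a B = Q)
    (hc : a ∈ cen (Q ⊓ B)) : (Q ⊔ B) ⊓ cen1 a ≤ Q ⊓ B := by
  rintro x ⟨hx, xa⟩
  obtain ⟨q, hq, b, hb, rfl⟩ := (mem_sup_right_norm h.qb).1 hx
  have e : a * (q * b) * a⁻¹ = q * b := by rw [← mem_cen1.1 xa, mul_inv_cancel_right]
  have b' : a * q * a⁻¹ ∈ B := h1 ▸ conj_mem_cj hq
  have q' : a * b * a⁻¹ ∈ Q := h2 ▸ conj_mem_cj hb
  have z : (a * q * a⁻¹)⁻¹ * b ∈ Q ⊓ B := by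
    refine mem_inf.2 ⟨?_, mul_mem (inv_mem b') hb⟩
    have := mul_mem (inv_mem (conj_mem_of_mem_normalizer' (h.qb b') hq)) q'
    rwa [show ((a * q * a⁻¹)⁻¹ * q * (a * q * a⁻¹))⁻¹ * (a * b * a⁻¹) =
      (a * q * a⁻¹)⁻¹ * q⁻¹ * (a * (q * b) * a⁻¹) by group, e,
      show (a * q * a⁻¹)⁻¹ * q⁻¹ * (q * b) = (a * q * a⁻¹)⁻¹ * b by group] at this
  have c : q * (a * q * a⁻¹) = a * q * a⁻¹ * q := by
    have za := hc _ z
    have hb' : b = a * q * a⁻¹ * ((a * q * a⁻¹)⁻¹ * b) := by group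
    generalize (a * q * a⁻¹)⁻¹ * b = w at za hb'
    rw [hb', show a * (q * (a * q * a⁻¹ * w)) * a⁻¹ =
      a * q * a⁻¹ * (a * a * q * (a * a)⁻¹) * (a * w * a⁻¹) by group, ← za, a2, mul_inv_cancel_right,
      one_mul, inv_one, mul_one, ← mul_assoc] at e
    exact (mul_right_cancel e).symm
  have qB : q ∈ B := by
    by_contra r
    refine r ((h.inf.2 _ b' fun k => r ?_).ge ⟨hq, mem_cen1.2 c⟩).2
    have := h1 ▸ conj_mem_cj (g := a) k
    rwa [show a * (a * q * a⁻¹) * a⁻¹ = a * a * q * (a * a)⁻¹ by group, a2, one_mul, inv_one,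
      mul_one] at this
  have k : a * q * a⁻¹ = q := by rw [← hc _ ⟨hq, qB⟩, mul_inv_cancel_right]
  rw [k] at z
  have qZ : q ∈ Q ⊓ B := ⟨hq, qB⟩
  have := mul_mem (mul_mem qZ qZ) z
  rwa [show q * q * (q⁻¹ * b) = q * b by group] at this

theorem fin (hG : Big G) (h : Pr Q B) {a : G} (a2 : a * a = 1) (h1 : cj a Q = B) (h2 : cj a B = Q)
    (hc : a ∈ cen (Q ⊓ B))
    (hk : ∀ k ∈ nor Q, k ∈ nor (Q ⊔ B) → k ∈ cen (Q ⊓ B) → k ∈ Q ⊔ B) : False := by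
  have an : a ∈ nor (Q ⊔ B) := H98.cj_eq_self_iff.1 (by rw [cj_sup, h1, h2, sup_comm])
  have a2' : IsPGroup 2 (zpowers a) := isPGroup_zpowers (k := 1) (by rw [pow_one, pow_two, a2])
  have aD : a ∉ Q ⊔ B := fun k => h.ne (h1.symm.trans (cj_eq_self (h.norQ k)))
  set W := Q ⊔ B ⊔ zpowers a with hW
  have W2 : IsPGroup 2 W := h.two.to_sup_of_normal_left' a2' (zpowers_le_of_mem an)
  have aW : a ∈ W := mem_sup_right (mem_zpowers a)
  have WC : W ≤ cen (Q ⊓ B) := sup_le h.cenZ (zpowers_le_of_mem hc)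
  have mW : ∀ x ∈ W, x ∈ Q ⊔ B ∨ x * a ∈ Q ⊔ B := fun x => mem_sup_zp a2 an
  have ai : a⁻¹ = a := inv_eq_of_mul_eq_one_right a2
  have e16 : ∀ E, L0 E 4 → E ≤ W → E ≤ Q ⊔ B := fun E hE e x hx => by
    by_contra r
    have xa := (mW x (e hx)).resolve_left r
    have ex : x = x * a * a := by rw [mul_assoc, a2, mul_one]
    have s := h.swap (l0sq hE hx) (by rw [ex, ← cj_cj, h1, cj_eq_self (h.norB xa)])
      (by rw [ex, ← cj_cj, h2, cj_eq_self (h.norQ xa)]) (WC (e hx))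
    have i2 : (Q ⊔ B).relIndex E = 2 := relIndex_eq_two_iff_exists_notMem_and'.2
      ⟨x, hx, r, fun y hy => (mW y (e hy)).symm.imp_left fun k => by
        have := mul_mem xa (conj_mem_of_mem_normalizer an k)
        rwa [show x * a * (a * (y * a) * a⁻¹) = x * (a * a) * y by group, a2, mul_one] at this⟩
    have c := rel_card (Q ⊔ B) E
    have c2 := card_le_of_le (show (Q ⊔ B) ⊓ E ≤ Q ⊓ B from fun y hy =>
      s ⟨hy.1, mem_cen1.2 (l0cm hE hy.2 hx)⟩)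
    rw [i2, hE.card] at c
    rw [h.inf.1] at c2
    omega
  obtain ⟨S, hS, WS⟩ := exists_isSyl_le W2 le_top
  have syl : S ⊓ cen (Q ⊓ B) ≤ W := by
    by_contra r
    obtain ⟨g, hg, gW⟩ := SetLike.exists_of_lt (lt_inf_normalizer (hS.isPGroup.to_le inf_le_left)
      (lt_of_le_of_ne (le_inf WS WC) fun e => r e.ge))
    have gn : g ∈ nor (Q ⊔ B) := mem_normalizer_of_cj_le (by
      rw [cj_sup]
      exact sup_le (e16 _ (h.q.cj g) (cj_le_of_le (le_sup_left.trans le_sup_left) hg.2))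
        (e16 _ (h.b.cj g) (cj_le_of_le (le_sup_right.trans le_sup_left) hg.2)))
    obtain ⟨k, -⟩ | ⟨-, k⟩ := h.perm gn
    · exact gW (mem_sup_left (hk g (H98.cj_eq_self_iff.1 k) gn hg.1.2))
    · have := mul_mem (mem_sup_left (hk (g * a) (H98.cj_eq_self_iff.1 (by rw [← cj_cj, h1, k]))
        (mul_mem gn an) (mul_mem hg.1.2 hc)) : g * a ∈ W) aW
      rw [mul_assoc, a2, mul_one] at this
      exact gW this
  have aZ : a ∈ nor (Q ⊓ B) := h.norZ an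
  have ZD : Q ⊓ B ≤ Q ⊔ B := inf_le_left.trans le_sup_left
  have EW : Q ⊓ B ⊔ zpowers a ≤ W := sup_le_sup_right ZD _
  have aE : a ∈ Q ⊓ B ⊔ zpowers a := mem_sup_right (mem_zpowers a)
  have ab : Q ⊓ B ⊔ zpowers a ≤ cen (Q ⊓ B ⊔ zpowers a) := by
    rw [cen, centralizer_sup]
    refine le_inf (EW.trans WC) (le_centralizer_iff.1 (zpowers_le_of_mem ?_))
    rw [centralizer_sup]
    exact ⟨hc, le_centralizer _ (mem_zpowers a)⟩
  refine hG.har S (Q ⊓ B ⊔ zpowers a) hS (EW.trans WS)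
    ⟨le_centralizer_iff_isMulCommutative.1 ab, fun x hx => ?_⟩ ?_ fun x hx => ?_
  · obtain k | k := mem_sup_zp a2 aZ hx
    · exact h.q.sq x k.1
    · have := l0sq h.q k.1
      rwa [show x * a * (x * a) = x * (a * x) * a by group, ← ab hx a aE |>.symm, ← mul_assoc,
        mul_assoc, a2, mul_one, ← pow_two] at this
  · have c := rel_card (Q ⊓ B) (Q ⊓ B ⊔ zpowers a)
    rw [relIndex_eq_two_iff_exists_notMem_and'.2 ⟨a, aE, fun k => aD (ZD k), fun y hy =>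
      (mem_sup_zp a2 aZ hy).symm.imp_left fun k => by rwa [ab hy a aE]⟩,
      inf_eq_left.2 le_sup_left, h.inf.1] at c
    exact c.symm
  · have xa : x ∈ cen1 a := cen_le_cen1 aE hx.2
    obtain k | k := mW x (syl ⟨hx.1, centralizer_anti le_sup_left hx.2⟩)
    · exact mem_sup_left (h.swap a2 h1 h2 hc ⟨k, xa⟩)
    · have := mul_mem (mem_sup_left (h.swap a2 h1 h2 hc ⟨k, mul_mem xa (mem_cen1.2 rfl)⟩) :
        x * a ∈ Q ⊓ B ⊔ zpowers a) aE
      rwa [mul_assoc, a2, mul_one] at this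

theorem exY (hs : Sp 8 G) (h : Pr Q B) (hE : Ext S5 (nor Q) Q) :
    ∃ y ∈ nor Q, orderOf y = 3 ∧ y ∈ nor (Q ⊔ B) ∧ ∀ k ∈ nor Q, k ∈ nor (Q ⊔ B) →
      k ∈ Q ⊔ B ∨ k * y⁻¹ ∈ Q ⊔ B ∨ k * y ∈ Q ⊔ B ∨ (k ^ 3 ≠ 1 ∧ k * y * k⁻¹ * y ∈ Q ⊔ B) := by
  obtain ⟨f, fs, fk⟩ := hE
  have hs' : Sp 8 (nor Q) := fun g => orderOf_coe g ▸ hs g
  have fm : ∀ x : nor Q, f x = 1 ↔ (x : G) ∈ Q := fun x => by
    rw [← MonoidHom.mem_ker, fk, mem_subgroupOf]
  have nz : ∀ c b : nor Q, (b : G) ∈ B → f b ≠ 1 → f c * f b = f b * f c →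
      (c : G) ∈ nor (Q ⊓ B) := fun c b hb r e => mem_normalizer_of_cj_le (by
    have q : ((c * b * c⁻¹ * b⁻¹ : nor Q) : G) ∈ Q := (fm _).1 (by
      rw [map_mul, map_mul, map_mul, e, map_inv, map_inv]; group)
    rw [h.inf.2 _ hb fun k => r ((fm b).2 k), cj_inf, cj_eq_self c.2, cj_cen1]
    rintro x ⟨x1, x2⟩
    refine ⟨x1, mem_cen1.2 ?_⟩
    have x3 := mem_cen1.1 x2
    have x4 := l0cm h.q x1 q
    push_cast at x4
    generalize (c : G) = c, (b : G) = b at x3 x4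
    calc x * b = (c * b * c⁻¹ * b⁻¹)⁻¹ * ((c * b * c⁻¹ * b⁻¹) * x) * b := by group
      _ = (c * b * c⁻¹ * b⁻¹)⁻¹ * (x * (c * b * c⁻¹)) := by rw [← x4]; group
      _ = _ := by rw [x3]; group)
  have n5 : ∀ b b' : nor Q, (b : G) ∈ B → (b' : G) ∈ B → f b ≠ 1 → f b' ≠ 1 →
      ¬ P5 (f b) (f b') := by
    rintro b b' hb hb' r r' ⟨c, c1, -, -, c', c2, c3, c4⟩
    obtain ⟨c, rfl⟩ := fs c
    obtain ⟨c', rfl⟩ := fs c'
    have o : orderOf ((c * c' : nor Q) : G) = 5 := by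
      rw [orderOf_coe]
      exact ord_eq hs' f le_rfl (by
        rw [map_mul]; exact haveI : Fact (Nat.Prime 5) := ⟨by norm_num⟩; orderOf_eq_prime c4 c3)
    have := card_modEq (by norm_num) o (mul_mem (nz c b hb r c1) (nz c' b' hb' r' c2))
    rw [fpf hs (Or.inl o) (h.q.isP.to_le inf_le_left), h.inf.1, card_bot] at this
    exact absurd this (by decide)
  obtain ⟨b₁, h1, r1⟩ := SetLike.not_le_iff_exists.1 fun c : B ≤ Q =>
    h.ne (eq_of_le_of_card_ge c (h.q.card.trans h.b.card.symm).le)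
  obtain ⟨b₂, h2, r3, r2⟩ : ∃ b ∈ B, b₁ * b ∉ Q ∧ b ∉ Q := by
    by_contra r
    push Not at r
    have c := rel_card Q B
    rw [relIndex_eq_two_iff_exists_notMem_and'.2 ⟨b₁, h1, r1, fun b hb =>
      or_iff_not_imp_left.2 (r b hb)⟩, h.inf.1, h.b.card] at c
    omega
  lift b₁ to nor Q using h.qb h1
  lift b₂ to nor Q using h.qb h2
  have sq : ∀ b : nor Q, (b : G) ∈ B → f b * f b = 1 := fun b hb => by
    rw [← map_mul, show b * b = 1 from Subtype.ext (l0sq h.b hb), map_one]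
  have cm : ∀ b b' : nor Q, (b : G) ∈ B → (b' : G) ∈ B → f b * f b' = f b' * f b :=
    fun b b' hb hb' => by
      rw [← map_mul, show b * b' = b' * b from Subtype.ext (l0cm h.b hb hb'), map_mul]
  have n1 : f b₁ ≠ 1 := fun k => r1 ((fm _).1 k)
  have n2 : f b₂ ≠ 1 := fun k => r2 ((fm _).1 k)
  have n3 : f (b₁ * b₂) ≠ 1 := fun k => r3 ((fm _).1 k)
  have h12 : ((b₁ * b₂ : nor Q) : G) ∈ B := mul_mem h1 h2
  obtain ⟨y, y1, y2, y3, y4⟩ | p | p | p := s5_four (f b₁) (sq _ h1) n1 (f b₂) (sq _ h2) n2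
    (fun k => n3 (by rw [map_mul, k, sq _ h2])) (cm _ _ h1 h2)
  rotate_left
  · exact absurd p (n5 _ _ h1 h2 n1 n2)
  · exact absurd (map_mul f _ _ ▸ p) (n5 _ _ h1 h12 n1 n3)
  · exact absurd (map_mul f _ _ ▸ p) (n5 _ _ h2 h12 n2 n3)
  have key : ∀ x : nor Q, V4 (f b₁) (f b₂) (f x) ↔ (x : G) ∈ Q ⊔ B := fun x => by
    have k : ∀ b : nor Q, (b : G) ∈ B → f x = f b → (x : G) ∈ Q ⊔ B := fun b hb e => by
      have := mul_mem (mem_sup_left ((fm (x * b⁻¹)).1 (by rw [map_mul, e, map_inv, mul_inv_cancel])) :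
        _ ∈ Q ⊔ B) (mem_sup_right hb)
      simpa using this
    refine ⟨?_, fun hx => ?_⟩
    · rintro (e | e | e | e)
      · exact mem_sup_left ((fm x).1 e)
      · exact k _ h1 e
      · exact k _ h2 e
      · exact k _ h12 (e.trans (map_mul f _ _).symm)
    obtain ⟨q, hq, b, hb, e⟩ := (mem_sup_right_norm h.qb).1 hx
    lift q to nor Q using le_normalizer hq
    lift b to nor Q using h.qb hb
    rw [show x = q * b from Subtype.ext e, map_mul, (fm q).2 hq, one_mul]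
    exact (y4 _).1 (cm _ _ hb h1) (cm _ _ hb h2)
  obtain ⟨y, rfl⟩ := fs y
  obtain ⟨o, e⟩ := lift3 hs' f (g := y) (orderOf_eq_prime y3 fun k => n3 (by
    rw [k, one_mul, inv_one, mul_one] at y1
    rw [map_mul, y1, sq _ h2]))
  rw [← e] at y1 y2 y4
  generalize y ^ 4 = y at *
  refine ⟨y, y.2, orderOf_coe y ▸ o, mem_normalizer_of_cj_le ?_, fun k hk kn => ?_⟩
  · rintro _ ⟨x, hx, rfl⟩
    lift x to nor Q using h.norQ hx
    refine (key (y * x * y⁻¹)).1 ?_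
    rw [map_mul, map_mul, map_inv]
    obtain e | e | e | e := (key x).2 hx <;> rw [e]
    · exact Or.inl (by group)
    · exact Or.inr (Or.inr (Or.inl y1))
    · exact Or.inr (Or.inr (Or.inr y2))
    · refine Or.inr (Or.inl ?_)
      rw [← conj_mul, y1, y2, cm _ _ h1 h2, ← mul_assoc, sq _ h2, one_mul]
  lift k to nor Q using hk
  have v : ∀ b : nor Q, (b : G) ∈ B → V4 (f b₁) (f b₂) (f k * f b * (f k)⁻¹) := fun b hb => by
    rw [← map_inv, ← map_mul, ← map_mul]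
    exact (key _).2 (conj_mem_of_mem_normalizer kn (mem_sup_right hb))
  refine ((y4 (f k)).2 (v _ h1) (v _ h2)).imp (key k).1 (Or.imp (fun e => (key (k * y⁻¹)).1 ?_)
    (Or.imp (fun e => (key (k * y)).1 ?_) (And.imp (fun e e' => e ?_)
      fun e => (key (k * y * k⁻¹ * y)).1 ?_)))
  · rwa [map_mul, map_inv]
  · rwa [map_mul]
  · rwa [map_mul, map_mul, map_mul, map_inv]
  · rw [← map_pow, show k ^ 3 = 1 from Subtype.ext e', map_one]

end Pr

theorem jobSM8 : JobSM8.{u} := fun G _ _ M Q hG hM hE hL h3 => by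
  obtain rfl := hM.eq
  have hs := hG.sp
  have h0 := H98.O8c.l0 hL
  obtain ⟨T, hT⟩ := exists_isSyl 2 (nor Q)
  have cT : Nat.card T = 128 := by
    obtain ⟨f, fs, fk⟩ := hE
    have := f.ker.card_mul_index
    rw [index_ker, MonoidHom.range_eq_top.2 fs, card_top, Nat.card_perm, Nat.card_fin, fk,
      Nat.card_congr (subgroupOfEquivOfLe le_normalizer).toEquiv, h0.card] at this
    rw [hT.card_eq, ← this, show 4 ^ 2 * Nat.factorial 5 = 1920 from rfl, fact1920]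
    norm_num
  obtain ⟨S, hS, TS⟩ := exists_isSyl_le hT.isPGroup le_top
  have QT : Q ≤ T := hT.le_of_le_normalizer h0.isP le_normalizer hT.le
  have lt : T < S := lt_of_le_of_ne TS fun e => by
    have := hG.card_syl hS
    rw [← e, cT] at this
    omega
  obtain ⟨d, hd, dT, dd⟩ := exists_sq (hS.isPGroup.to_le inf_le_left)
    (lt_inf_normalizer hS.isPGroup lt).not_ge
  have SN : S ⊓ nor Q = T :=
    hT.eq_of_le (hS.isPGroup.to_le inf_le_left) (le_inf TS hT.le) inf_le_right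
  have BT : cj d Q ≤ T := cj_le_of_le QT hd.2
  have TB : T ≤ nor (cj d Q) :=
    (cj_eq_self hd.2).ge.trans ((cj_mono d hT.le).trans (cj_normalizer d Q).le)
  have h : Pr Q (cj d Q) := ⟨h0, h0.cj d, fun e => dT (SN.le ⟨hd.1, H98.cj_eq_self_iff.1 e⟩),
    BT.trans hT.le, QT.trans TB⟩
  have dB : cj d (cj d Q) = Q := by rw [cj_cj, cj_eq_self (hT.le dd)]
  generalize hB : cj d Q = B at h BT TB dB
  obtain ⟨y, yM, o, yD, hy⟩ := h.exY hs hE
  have DT : Q ⊔ B ≤ T := sup_le QT BT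
  have TD : T ≤ nor (Q ⊔ B) := le_normalizer_sup hT.le TB
  have dD : d ∈ nor (Q ⊔ B) := H98.cj_eq_self_iff.1 (by rw [cj_sup, hB, dB, sup_comm])
  have n3 : ∀ v : G, orderOf v = 3 → v ∉ T := fun v ov k => by
    have := two_dvd_order hT.isPGroup k fun e => by rw [e, orderOf_one] at ov; omega
    omega
  have yZ : y ∉ cen (Q ⊓ B) := fun k => by
    have c := card_le_of_le (show Q ⊓ B ≤ Q ⊓ cen1 y from fun x hx => ⟨hx.1, mem_cen1.2 (k x hx)⟩)
    rw [h3 y yM o, card_bot, h.inf.1] at c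
    omega
  have hk : ∀ k ∈ nor Q, k ∈ nor (Q ⊔ B) → k ∈ cen (Q ⊓ B) → k ∈ Q ⊔ B := fun k kM kD kC => by
    obtain e | e | e | ⟨-, e⟩ := hy k kM kD
    · exact e
    · exact absurd (by simpa using mul_mem (inv_mem (h.cenZ e)) kC) yZ
    · exact absurd (by simpa using mul_mem (inv_mem kC) (h.cenZ e)) yZ
    · refine absurd (mem_of_sq3 o ?_) yZ
      have := mul_mem (mul_mem (conj_mem_of_mem_normalizer
        (normalizer_le_normalizer_centralizer _ (h.norZ yD)) kC) (inv_mem kC)) (h.cenZ e)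
      rwa [show y * k * y⁻¹ * k⁻¹ * (k * y * k⁻¹ * y) = y * (k * (y⁻¹ * y) * k⁻¹) * y by group,
        inv_mul_cancel, mul_one, mul_inv_cancel, mul_one] at this
  obtain ⟨t, ht, tD⟩ := SetLike.not_le_iff_exists.1 fun k : T ≤ Q ⊔ B => by
    have := card_le_of_le k
    rw [cT, h.card] at this
    omega
  have ty : t * y * t⁻¹ * y ∈ Q ⊔ B := by
    obtain e | e | e | ⟨-, e⟩ := hy t (hT.le ht) (TD ht)
    · exact absurd e tD
    · exact absurd (by simpa using mul_mem (inv_mem (DT e)) ht) (n3 y o)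
    · exact absurd (by simpa using mul_mem (inv_mem ht) (DT e)) (n3 y o)
    · exact e
  have yB : cj y B = B := by
    obtain ⟨-, e⟩ | ⟨e, -⟩ := h.perm yD
    · exact e
    · exact absurd (e.symm.trans (cj_eq_self yM)) h.ne
  have o' : orderOf (d * y * d⁻¹) = 3 := by
    rw [← o]; exact MulAut.conj d |>.orderOf_eq y
  obtain ⟨x, xS, xQ, xy⟩ : ∃ x ∈ S, cj x Q = B ∧ y * x * y⁻¹ * x⁻¹ ∈ Q ⊔ B := by
    obtain e | e | e | ⟨e, -⟩ := hy (d * y * d⁻¹) (H98.cj_eq_self_iff.1 (by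
      rw [← cj_cj, ← cj_cj, ← dB, cj_inv_cj, yB])) (mul_mem (mul_mem dD yD) (inv_mem dD))
    · exact absurd (DT e) (n3 _ o')
    · exact ⟨d, hd.1, hB, by simpa [mul_assoc] using inv_mem e⟩
    · refine ⟨d * t, mul_mem hd.1 (TS ht), by rw [← cj_cj, cj_eq_self (hT.le ht), hB], ?_⟩
      have := mul_mem (conj_mem_of_mem_normalizer yD e) (inv_mem (conj_mem_of_mem_normalizer dD ty))
      rwa [show y * (d * y * d⁻¹ * y) * y⁻¹ * (d * (t * y * t⁻¹ * y) * d⁻¹)⁻¹ =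
        y * (d * t) * y⁻¹ * (d * t)⁻¹ by group] at this
    · exact absurd (o' ▸ pow_orderOf_eq_one _) e
  obtain ⟨n, hn, ay⟩ := lift_fix h.two o yD xy
  have aS : n * x ∈ S := mul_mem (TS (DT hn)) xS
  have aQ : cj (n * x) Q = B := by rw [← cj_cj, xQ, cj_eq_self (h.norB hn)]
  generalize n * x = a at ay aS aQ
  have ap : IsPGroup 2 (zpowers a) := hS.isPGroup.to_le (zpowers_le_of_mem aS)
  have a2 : a * a = 1 := pow_two a ▸ (el3 hs o ap (zpowers_le_of_mem ay)).2 a (mem_zpowers a)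
  have aB : cj a B = Q := by rw [← aQ, cj_cj, a2, cj_one]
  have aZ : a ∈ nor (Q ⊓ B) := H98.cj_eq_self_iff.1 (by rw [cj_inf, aQ, aB, inf_comm])
  refine h.fin hG a2 aQ aB ?_ hk
  have Z2 : IsPGroup 2 ↥(Q ⊓ B) := h0.isP.to_le inf_le_left
  have ne := inf_centralizer_ne_bot Z2 ap (zpowers_le_of_mem aZ) fun e => by
    have := h.inf.1
    rw [e, card_bot] at this
    omega
  rw [cen_zp] at ne
  have md := card_modEq (U := Q ⊓ B ⊓ cen1 a) (by norm_num) o (H98.cj_eq_self_iff.1 (by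
    rw [cj_inf, cj_eq_self (h.norZ yD), cj_cen1, ← mem_cen1.1 ay, mul_inv_cancel_right]))
  rw [eq_bot_iff.2 ((inf_le_inf_right _ (inf_le_left.trans inf_le_left)).trans (h3 y yM o).le),
    card_bot] at md
  have le := card_le_of_le (inf_le_left : Q ⊓ B ⊓ cen1 a ≤ Q ⊓ B)
  have gt : 1 < Nat.card ↥(Q ⊓ B ⊓ cen1 a) := (one_lt_card_iff_ne_bot _).2 ne
  have e : Q ⊓ B ⊓ cen1 a = Q ⊓ B := eq_of_le_of_card_ge inf_le_left (by
    rw [h.inf.1] at le ⊢
    unfold Nat.ModEq at md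
    omega)
  exact fun x hx => mem_cen1.1 (e.ge hx).2

end H24.O8
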