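import Cfsg.Agent.H74.O8Kit2

/-! Tower O8, job SM8: the four-groups of the symmetric group of degree 5. -/

set_option autoImplicit false

namespace H24.O8

open H74.O8

/-- Elements commuting with `a` and `b` have a product of order 5. -/
def P5 (a b : S5) : Prop :=
  ∃ c, c * a = a * c ∧ c ^ 3 = 1 ∧ c ≠ 1 ∧ ∃ c', c' * b = b * c' ∧ c * c' ≠ 1 ∧ (c * c') ^ 5 = 1

/-- Membership in the four-group generated by `a` and `b`. -/
def V4 (a b k : S5) : Prop := k = 1 ∨ k = a ∨ k = b ∨ k = a * b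

instance (a b : S5) : Decidable (P5 a b) := by unfold P5; infer_instance
instance (a b k : S5) : Decidable (V4 a b k) := by unfold V4; infer_instance

/-- `y` permutes the involutions of the four-group, whose normaliser is `S4`. -/
def Y3 (a b y : S5) : Prop := y * a * y⁻¹ = b ∧ y * b * y⁻¹ = a * b ∧ y ^ 3 = 1 ∧
  ∀ k, (k * a = a * k → k * b = b * k → V4 a b k) ∧ (V4 a b (k * a * k⁻¹) → V4 a b (k * b * k⁻¹) →
    V4 a b k ∨ V4 a b (k * y⁻¹) ∨ V4 a b (k * y) ∨ (k ^ 3 ≠ 1 ∧ V4 a b (k * y * k⁻¹ * y)))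

instance (a b y : S5) : Decidable (Y3 a b y) := by unfold Y3; infer_instance

set_option maxRecDepth 100000 in
theorem s5_four : ∀ a : S5, a * a = 1 → a ≠ 1 → ∀ b : S5, b * b = 1 → b ≠ 1 → a ≠ b →
    a * b = b * a → (∃ y : S5, Y3 a b y) ∨ P5 a b ∨ P5 a (a * b) ∨ P5 b (a * b) := by
  decide +kernel

theorem fact1920 : (1920 : ℕ).factorization 2 = 7 := by
  rw [show (1920 : ℕ) = 2 ^ 7 * 15 by norm_num, Nat.factorization_mul (by norm_num) (by norm_num),
    Nat.Prime.factorization_pow Nat.prime_two]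
  simp [Nat.factorization_eq_zero_of_not_dvd]

end H24.O8
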