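import Cfsg.Agent.H52.RCSpec
import Cfsg.Agent.S2901

/-! Tower RC: the application of Holt's theorem. -/

set_option autoImplicit false

namespace H24.RC

open H52.RC Subgroup

universe u

theorem zp2 {S : Type u} [Group S] [Finite S] {y : S} (h : P2 y) : IsPGroup 2 (zpowers y) := by
  obtain ⟨k, hk⟩ := h
  obtain ⟨i, -, hi⟩ := (Nat.dvd_prime_pow Nat.prime_two).1 (orderOf_dvd_of_pow_eq_one hk)
  exact IsPGroup.of_card (by rw [Nat.card_zpowers, hi])

theorem alt4 : ∀ t w : alternatingGroup (Fin 4), w * t * w⁻¹ = t⁻¹ → t * t = 1 := by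
  decide +kernel

theorem jobHS : JobHS.{u} := by
  intro ka S _ _ _ hna M W r x s hr hi hC hf hWM hW hN hx hx1 hs hinv
  have hrC : r ∈ C1 r := mem_C1.2 (Commute.refl r)
  have hrM : r ∈ M := hC hrC
  have hxo : Odd (orderOf x) := hW.of_dvd_nat (W.orderOf_dvd_natCard hx)
  have simple : ¬ IsSimpleGroup M := fun hM => by
    have hn : (W.subgroupOf M).Normal := (normal_subgroupOf_iff_le_normalizer hWM).2 hN
    rcases hn.eq_bot_or_eq_top with e | e
    · exact hx1 (congrArg Subtype.val (mem_bot.1 (e.le (show (⟨x, hWM hx⟩ : M) ∈ _ from hx))))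
    · have h1 : r ∈ W := e.ge (mem_top (⟨r, hrM⟩ : M))
      have h2 := hW.of_dvd_nat (W.orderOf_dvd_natCard h1)
      rw [hr] at h2
      exact absurd h2 (by decide)
  have hM : M ≠ ⊤ := by
    rintro rfl
    exact simple (topEquiv (G := S)).isSimpleGroup
  have hr2 : P2 r := ⟨1, by rw [pow_one, ← hr, pow_orderOf_eq_one]⟩
  obtain ⟨P, h1, ⟨h2, h3, h4⟩, -⟩ := (ka S).2.2.2.2.2.2.1 (C1 r) (zpowers r) (zp2 hr2)
    (zpowers_le.2 hrC)
  have h5 : ¬ 2 ∣ P.index := by
    rw [← relIndex_mul_index h2]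
    exact (h4.mul hi).not_two_dvd_nat
  rcases Cfsg.Agent.S2901.result hna M hM r hrM ⟨hr, h3.toSylow h5, h1 (mem_zpowers r),
    fun y hy => (mem_C1.1 (h2 hy)).eq⟩ hC (fun g hg => ⟨g, hf g hg, rfl⟩) with
    ⟨-, T, rfl⟩ | ⟨n, hn, -, ⟨e⟩⟩
  · refine hx1 (((ka S).1 _).2 ⟨T, le_normalizer, T.isPGroup', fun y hy hy2 => ?_⟩ x (hWM hx) s hs
      hxo hinv)
    have h6 := T.3 ((zp2 hy2).to_sup_of_normal_right' T.isPGroup' (zpowers_le.2 hy)) le_sup_right
    exact h6.le (mem_sup_left (mem_zpowers y))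
  · by_cases h6 : n = 5
    · subst h6
      have h7 := alt4 (e ⟨x, hWM hx⟩) (e ⟨s, hs⟩) (by
        rw [← map_inv, ← map_inv, ← map_mul, ← map_mul]
        exact congrArg e (Subtype.ext hinv))
      rw [← map_mul, map_eq_one_iff _ e.injective] at h7
      exact hx1 (eq_one_of_P2 ⟨1, by rw [pow_one, pow_two]; exact congrArg Subtype.val h7⟩ hxo)
    · have := alternatingGroup.isSimpleGroup (α := Fin (n - 1)) (by simp; omega)
      exact simple e.isSimpleGroup

end H24.RC
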