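/- The listed rows of BG section 14, conditional on the classes. -/
import Cfsg.Agent.H24.Inst14

namespace H24
open Cfsg hiding pRank
open H46 H50 Subgroup

universe u

theorem classSupport_top_eq {G : Type u} [Group G] (A : Set G) :
    classSupport A ⊤ = {a : G | ∃ g : G, ∃ z ∈ A, a = g * z * g⁻¹} := by
  ext a
  exact ⟨fun ⟨z, hz, g, _, e⟩ => ⟨g, z, hz, e⟩, fun ⟨g, z, hz, e⟩ => ⟨z, hz, g, mem_top _, e⟩⟩

theorem partner_unique [T14_2.{u}] {G : Type u} [Group G] [Finite G] (hG : IsMinSimpleOddOrder G)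
    {M K L L' : Subgroup G} (hM : TypeP M) (hK : IsPiHallOf (kappa M) K M)
    (e : PtypeEmbedding M K L) (hL : IsCoatom L') (h1 : K = kStar L' (kStar M K))
    (h2 : IsPiHallOf (kappa L') (kStar M K) L') : L' = L := by
  obtain ⟨X, hX, pX⟩ := exists_prime_le (hM.hall_ne_bot hK)
  have s := T14_2.Ptype_structure hG hM hK
  have s' := T14_2.Ptype_structure hG (typeP_of_ne_bot hL h2.isPi s.kStar_ne) h2
  exact (e.uniq X hX pX).2.2 L' hL (s'.uniq_cent X (h1 ▸ hX) pX).2.1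

theorem row1429 [T14_1.{u}] {G : Type u} [Group G] [Finite G] (hG : Cfsg.IsMinSimpleOddOrder G)
    (M : Subgroup G) (hM : IsCoatom M) (hP1 : ¬ (∀ q : ℕ, q.Prime → q ∣ Nat.card M → q ∉ Cfsg.sigma M → q ∈ Cfsg.kappa M))
    (p : ℕ) [Fact p.Prime] (hpM : p ∣ Nat.card M) (hp : p ∉ Cfsg.sigma M ∪ Cfsg.kappa M) (S : Sylow p M) :
    Nat.card ↥(Subgroup.closure {x : G | x ∈ (S : Subgroup M).map M.subtype ∧ x ^ p = 1}) ≤ p ^ 2 ∧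
      Cfsg.sigmaCore M ⊓ Subgroup.centralizer ((Subgroup.closure {x : G | x ∈ (S : Subgroup M).map M.subtype ∧ x ^ p = 1} : Subgroup G) : Set G) = ⊥ ∧
      Group.IsNilpotent (Cfsg.sigmaCore M) := by
  have h := T14_1.sigma'_kappa'_facts hG hM Fact.out (isSylowOf_map_subtype S) hpM hp
  exact ⟨Nat.le_of_dvd (pow_pos (Fact.out : p.Prime).pos 2) h.2.1, h.2.2⟩

theorem row1430 [T14_2.{u}] {G : Type u} [Group G] [Finite G] (hG : Cfsg.IsMinSimpleOddOrder G)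
    (M : Subgroup G) (hM : IsCoatom M) (K : Subgroup G) (hK : Cfsg.IsPiHallOf (Cfsg.kappa M) K M) (hK1 : K ≠ ⊥) :
    (∀ k ∈ K, k ≠ 1 → Cfsg.sigmaCore M ⊓ Subgroup.centralizer ({k} : Set G) = (Cfsg.sigmaCore M ⊓ Subgroup.centralizer (K : Set G))) ∧
      (∃ U : Subgroup G, IsMulCommutative U ∧ Cfsg.IsPiHallOf {q | q.Prime ∧ q ∉ Cfsg.kappa M ∧ q ∉ Cfsg.sigma M} U M ∧
        K ≤ Subgroup.normalizer (U : Set G) ∧ ∀ k ∈ K, k ≠ 1 → U ⊓ Subgroup.centralizer ({k} : Set G) = ⊥) ∧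
      ∀ X : Subgroup G, X ≤ K → (Nat.card X).Prime →
        M ⊓ Subgroup.normalizer (X : Set G) = K ⊔ (Cfsg.sigmaCore M ⊓ Subgroup.centralizer (K : Set G)) ∧ M ⊓ Subgroup.normalizer (K : Set G) = K ⊔ (Cfsg.sigmaCore M ⊓ Subgroup.centralizer (K : Set G)) ∧
        ∀ Mstar : Subgroup G, IsCoatom Mstar → Subgroup.normalizer (X : Set G) ≤ Mstar → X ≤ Cfsg.sigmaCore Mstar := by
  obtain ⟨U, hU⟩ := T14_2.ex_kappa_compl hG hM hK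
  obtain ⟨-, h1, -, h2, h3, h4⟩ := T14_2.kappa_compl_context hG hM hU
  have s := T14_2.Ptype_structure hG (typeP_of_ne_bot hM hK.isPi hK1) hK
  refine ⟨h2, ⟨U, h4 hK1, isPiHallOf_congr (fun p hp _ => ?_) hU.hallU, h1.norm, h3⟩,
    fun X hX pX => ⟨(s.nrm_prime X hX pX).trans s.sup_eq.symm, s.sup_eq.symm,
      s.le_sigmaCore X hX pX⟩⟩
  exact ⟨fun h => ⟨hp, fun h' => h (Or.inr h'), fun h' => h (Or.inl h')⟩,
    fun h h' => h'.elim h.2.2 h.2.1⟩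

theorem row1431 [T14_2.{u}] {G : Type u} [Group G] [Finite G] (hG : Cfsg.IsMinSimpleOddOrder G)
    (M : Subgroup G) (hM : IsCoatom M) (K : Subgroup G) (hK : Cfsg.IsPiHallOf (Cfsg.kappa M) K M) (hK1 : K ≠ ⊥) :
    (∀ g : G, g ∉ M → (Cfsg.sigmaCore M ⊓ Subgroup.centralizer (K : Set G)) ⊓ M.map (MulAut.conj g).toMonoidHom = ⊥) ∧
      (∀ g ∈ M, g ∉ K ⊔ (Cfsg.sigmaCore M ⊓ Subgroup.centralizer (K : Set G)) → K ⊓ K.map (MulAut.conj g).toMonoidHom = ⊥) ∧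
      (∀ (p : ℕ), p.Prime → p ∣ Nat.card ↥(Cfsg.sigmaCore M ⊓ Subgroup.centralizer (K : Set G)) → ∀ S : Sylow p ↥(Cfsg.sigmaCore M),
        Cfsg.InUniqueMaximal ((S : Subgroup ↥(Cfsg.sigmaCore M)).map (Cfsg.sigmaCore M).subtype) ∧
        (S : Subgroup ↥(Cfsg.sigmaCore M)).map (Cfsg.sigmaCore M).subtype ≤ M ∧
        ¬ (S : Subgroup ↥(Cfsg.sigmaCore M)).map (Cfsg.sigmaCore M).subtype ≤ (Cfsg.sigmaCore M ⊓ Subgroup.centralizer (K : Set G))) ∧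
      ∀ Y : Subgroup G, (∀ p : ℕ, p.Prime → p ∣ Nat.card Y → p ∈ Cfsg.sigma M) → Y ⊓ (Cfsg.sigmaCore M ⊓ Subgroup.centralizer (K : Set G)) ≠ ⊥ → Y ≤ Cfsg.sigmaCore M := by
  have s := T14_2.Ptype_structure hG (typeP_of_ne_bot hM hK.isPi hK1) hK
  refine ⟨s.ti_kStar, fun g hg h => s.ti_K g hg fun h' => h (s.sup_eq.ge ⟨hg, h'⟩),
    fun p hp hd S => ?_, s.le_of_meet⟩
  have := Fact.mk hp
  obtain ⟨h1, h2⟩ := s.sylow p _ hp hd (isSylowOf_map_subtype S)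
  exact ⟨uniqMax_inUniq h1, h1.2.1, h2⟩

theorem row1432 [T14_3.{u}] {G : Type u} [Group G] [Finite G] (hG : Cfsg.IsMinSimpleOddOrder G)
    (M : Subgroup G) (hM : IsCoatom M) (x : G) (hx : x ∈ Cfsg.sigmaCore M) (hx1 : x ≠ 1) (x' : G) (hx' : x' ∈ M ⊓ Subgroup.centralizer ({x} : Set G)) (hx'1 : x' ≠ 1)
    (hσ : ∀ p : ℕ, p.Prime → p ∣ orderOf x' → p ∉ Cfsg.sigma M) :
    ((∀ p : ℕ, p.Prime → p ∣ orderOf x' → p ∈ Cfsg.kappa M) ∧ Subgroup.centralizer ({x} : Set G) ≤ M) ∨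
      ((∀ p : ℕ, p.Prime → p ∣ orderOf x' → p ∈ Cfsg.tau2 M) ∧
        (∃ L : Subgroup G, IsCoatom L ∧ ∀ p : ℕ, p.Prime → p ∣ orderOf x' → p ∈ Cfsg.sigma L) ∧
        (Subgroup.centralizer ({x'} : Set G) ≤ M ∧ ∀ L : Subgroup G, IsCoatom L → Subgroup.centralizer ({x'} : Set G) ≤ L → L = M)) := by
  refine (T14_3.out hG hM hx hx1 hx'.1 hx'.2 hx'1 hσ).imp id fun ⟨h1, ⟨_, L, hL⟩, h3⟩ => ?_
  exact ⟨h1, ⟨L, hL.1, MSigma.elt hL⟩, h3.2⟩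

theorem row1433 [T14_4.{u}] [T14_5.{u}] {G : Type u} [Group G] [Finite G] (hG : Cfsg.IsMinSimpleOddOrder G)
    (M N : Subgroup G) (hM : IsCoatom M) (hN : IsCoatom N) (x y : G) (hx : x ∈ Cfsg.sigmaCore M) (hy : y ∈ Cfsg.sigmaCore N)
    (hx1 : x ≠ 1) (hy1 : y ≠ 1) (hxy : x ≠ y) :
    ∀ r ∈ Cfsg.supportR M x, ∀ s ∈ Cfsg.supportR N y, x * r ≠ y * s := by
  rw [T14_4.supportR_eq hG hx1 M ⟨hM, hx⟩, T14_4.supportR_eq hG hy1 N ⟨hN, hy⟩]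
  exact T14_5.sigma_cover_disjoint hG ⟨hx1, M, hM, hx⟩ ⟨hy1, N, hN, hy⟩ hxy

theorem row1434 [T14_2.{u}] [T14_7.{u}] {G : Type u} [Group G] [Finite G] (hG : Cfsg.IsMinSimpleOddOrder G)
    (M : Subgroup G) (hM : IsCoatom M) (K U : Subgroup G) (hKU : Cfsg.IsSigmaDecomposition M K U) (hK1 : K ≠ ⊥) (Mstar : Subgroup G) (hMstar : IsCoatom Mstar)
    (hKst : K = Cfsg.sigmaCore Mstar ⊓ Subgroup.centralizer ((Cfsg.sigmaCore M ⊓ Subgroup.centralizer (K : Set G)) : Set G))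
    (hKstH : Cfsg.IsPiHallOf (Cfsg.kappa Mstar) (Cfsg.sigmaCore M ⊓ Subgroup.centralizer (K : Set G)) Mstar) :
    Cfsg.kappa M = Cfsg.tau1 M ∧ Cfsg.IsPiHallOf (Cfsg.sigma M) (Cfsg.sigmaCore M ⊓ Subgroup.centralizer (K : Set G)) Mstar ∧
      (∀ x ∈ K, x ≠ 1 → ∀ y ∈ (Cfsg.sigmaCore M ⊓ Subgroup.centralizer (K : Set G)), y ≠ 1 →
        M ⊓ Subgroup.centralizer ({x} : Set G) = K ⊔ (Cfsg.sigmaCore M ⊓ Subgroup.centralizer (K : Set G)) ∧ Mstar ⊓ Subgroup.centralizer ({y} : Set G) = K ⊔ (Cfsg.sigmaCore M ⊓ Subgroup.centralizer (K : Set G)) ∧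
        Subgroup.centralizer ({x * y} : Set G) = K ⊔ (Cfsg.sigmaCore M ⊓ Subgroup.centralizer (K : Set G))) ∧
      (∀ g : G, g ∉ M → ∀ z ∈ ((↑(K ⊔ (Cfsg.sigmaCore M ⊓ Subgroup.centralizer (K : Set G))) : Set G) \ ((K : Set G) ∪ ↑(Cfsg.sigmaCore M ⊓ Subgroup.centralizer (K : Set G)))), z ∉ M.map (MulAut.conj g).toMonoidHom) ∧
      Nat.card K * Nat.card ↥(Cfsg.sigmaCore M ⊓ Subgroup.centralizer (K : Set G)) * Set.ncard {a : G | ∃ g : G, ∃ z ∈ ((↑(K ⊔ (Cfsg.sigmaCore M ⊓ Subgroup.centralizer (K : Set G))) : Set G) \ ((K : Set G) ∪ ↑(Cfsg.sigmaCore M ⊓ Subgroup.centralizer (K : Set G)))), a = g * z * g⁻¹} =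
        (Nat.card K * Nat.card ↥(Cfsg.sigmaCore M ⊓ Subgroup.centralizer (K : Set G)) - Nat.card K - Nat.card ↥(Cfsg.sigmaCore M ⊓ Subgroup.centralizer (K : Set G)) + 1) * Nat.card G ∧
      Nat.card G < 2 * Set.ncard {a : G | ∃ g : G, ∃ z ∈ ((↑(K ⊔ (Cfsg.sigmaCore M ⊓ Subgroup.centralizer (K : Set G))) : Set G) \ ((K : Set G) ∪ ↑(Cfsg.sigmaCore M ⊓ Subgroup.centralizer (K : Set G)))), a = g * z * g⁻¹} := by
  have hP := typeP_of_ne_bot hM hKU.hall.isPi hK1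
  have s := T14_2.Ptype_structure hG hP hKU.hall
  obtain ⟨L, e⟩ := T14_7.out hG hP hKU.hall
  obtain rfl := partner_unique hG hP hKU.hall e hMstar hKst hKstH
  refine ⟨e.kappa_eq, e.hall_sigma, fun x hx x1 y hy y1 =>
    ⟨e.cent_K x hx x1, e.cent_kStar y hy y1, e.cent_mul x hx x1 y hy y1⟩, e.disj, ?_, ?_⟩
  · rw [← classSupport_top_eq, e.card]
    have a1 := one_lt_card.2 hK1
    have b1 := one_lt_card.2 s.kStar_ne
    generalize Nat.card K = a at *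
    generalize Nat.card (kStar M K) = b at *
    obtain ⟨a, rfl⟩ : ∃ c, a = c + 2 := ⟨a - 2, by omega⟩
    obtain ⟨b, rfl⟩ : ∃ c, b = c + 2 := ⟨b - 2, by omega⟩
    congr 1
    have e1 : (a + 2) * (b + 2) = a * b + 2 * a + 2 * b + 4 := by ring
    have e2 : (a + 2 - 1) * (b + 2 - 1) = a * b + a + b + 1 := by
      rw [show a + 2 - 1 = a + 1 by omega, show b + 2 - 1 = b + 1 by omega]; ring
    rw [e1, e2]
    omega
  · rw [← classSupport_top_eq]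
    exact e.half

theorem row1435 [T10_2.{u}] [T14_2.{u}] [T14_7.{u}] [T14_12.{u}] {G : Type u} [Group G] [Finite G] (hG : Cfsg.IsMinSimpleOddOrder G)
    (M : Subgroup G) (hM : IsCoatom M) (K U : Subgroup G) (hKU : Cfsg.IsSigmaDecomposition M K U) (hK1 : K ≠ ⊥) (hU1 : U ≠ ⊥) (Mstar : Subgroup G) (hMstar : IsCoatom Mstar)
    (hKst : K = Cfsg.sigmaCore Mstar ⊓ Subgroup.centralizer ((Cfsg.sigmaCore M ⊓ Subgroup.centralizer (K : Set G)) : Set G))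
    (hKstH : Cfsg.IsPiHallOf (Cfsg.kappa Mstar) (Cfsg.sigmaCore M ⊓ Subgroup.centralizer (K : Set G)) Mstar)
    (r : ℕ) [Fact r.Prime] (hr : r ∣ Nat.card U) (R : Sylow r U) (H : Subgroup G) (hH : IsCoatom H)
    (hNR : Subgroup.normalizer (((R : Subgroup U).map U.subtype : Subgroup G) : Set G) ≤ H) :
    Cfsg.kappa H = ∅ ∧ U ≤ Cfsg.sigmaCore H ∧ M ⊓ H = U ⊔ K ∧ ¬ H ⊓ Subgroup.normalizer (U : Set G) ≤ M ∧
      K ≤ Cfsg.fittingOf (H ⊓ Mstar) ∧ Cfsg.IsComplIn (H ⊓ Mstar) (Cfsg.sigmaCore H) H := by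
  have hP := typeP_of_ne_bot hM hKU.hall.isPi hK1
  have hU := kappaCompl_of_decomp hG hM hKU
  have hP2 : TypeP2 M := ⟨hP, fun h => hU1 (hU.eq_bot_iff.2 h)⟩
  obtain ⟨L, e⟩ := T14_7.out hG hP hKU.hall
  obtain rfl := partner_unique hG hP hKU.hall e hMstar hKst hKstH
  have pK := ((T14_2.Ptype_structure hG hP hKU.hall).p2 hP2).2.1
  obtain ⟨h1, h2, h3, h4, h5, h6⟩ := T14_12.out hG hU hP2 hMstar (e.uniq K le_rfl pK).2.1 Fact.out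
    (isSylowOf_map_subtype R) hH hNR
  exact ⟨h1.2, h2, h3.symm, h4, h5, isComplIn_symm ((T10_2.Msigma_Hall hG hH).isComplIn h6)⟩

theorem row1436 [T14_4.{u}] [T14_13.{u}] {G : Type u} [Group G] [Finite G] (hG : Cfsg.IsMinSimpleOddOrder G)
    (M : Subgroup G) (hM : IsCoatom M) (x : G) (hx : x ∈ Cfsg.sigmaCore M) (hx1 : x ≠ 1) (hxM : ¬ Subgroup.centralizer ({x} : Set G) ≤ M)
    (N : Subgroup G) (hN : IsCoatom N) (hxN : Subgroup.centralizer ({x} : Set G) ≤ N) :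
    ((∃ p ∈ Cfsg.sigma N, p ∣ Nat.card M) → Cfsg.kappa M = ∅ ∧ Cfsg.tau2 M = ∅) ∧
      ∀ (y : G) (N' : Subgroup G) (g : G), y ∈ Cfsg.sigmaCore M → y ≠ 1 → ¬ Subgroup.centralizer ({y} : Set G) ≤ M → IsCoatom N' → Subgroup.centralizer ({y} : Set G) ≤ N' →
        N'.map (MulAut.conj g).toMonoidHom = N → ∃ m ∈ M, N'.map (MulAut.conj m).toMonoidHom = N := by
  have hn := (T14_4.nontrivial_iff hG hx1 M ⟨hM, hx⟩).2 hxM
  obtain rfl := (T14_4.ctx hG ⟨hx1, M, hM, hx⟩ hn).uniq.2.2 N hN hxN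
  refine ⟨fun ⟨p, h1, h2⟩ => ?_, fun y N' g hy y1 hyM hN' hyN e => ?_⟩
  · have h := T14_13.non_disjoint_signalizer_Frobenius hG hx1 hn ⟨hM, hx⟩ fun h => h p h1.1 h2 h1
    exact ⟨h.1.2, h.2.1⟩
  · obtain rfl := (T14_4.ctx hG ⟨y1, M, hM, hy⟩
      ((T14_4.nontrivial_iff hG y1 M ⟨hM, hy⟩).2 hyM)).uniq.2.2 N' hN' hyN
    exact T14_13.signalizer_conj hG hx1 y1 ⟨hM, hx⟩ ⟨hM, hy⟩ hxM hyM e

end H24
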