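import Cfsg.Agent.H28.TESpec
import Cfsg.Agent.H34.BS
import Cfsg.Agent.H84.Isolated

/-! # S1308, chapter TE part 1: job `ZQ` -/

set_option autoImplicit false

namespace H24.TE

open Cfsg Subgroup H14 H98 H1.Gold H31.S2 H14.GC H14.FE H14.NF H28.TE
open scoped commutatorElement

universe u

variable {G : Type u} [Group G]

theorem zst [Finite G] {S H : Subgroup G} (hS : IsSyl 2 S H) {t : G} (ht : t ∈ S) (t2 : t * t = 1)
    (hiso : ∀ g ∈ H, g * t * g⁻¹ ∈ S → g * t * g⁻¹ = t) {g : G} (hg : g ∈ H) :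
    ⁅g, t⁆ ∈ opp 2 H := by
  haveI : Fact (Nat.Prime 2) := ⟨Nat.prime_two⟩
  by_cases t1 : t = 1
  · subst t1
    rw [commutatorElement_one_right]
    exact one_mem _
  have to2 : orderOf t = 2 := orderOf_eq_prime (by rw [sq]; exact t2) t1
  obtain ⟨P, hP⟩ := hS.exists_sylow
  have := H34.zstar (H84.iso_of_sylow P (u := ⟨t, hS.le ht⟩) (by rw [← orderOf_coe]; exact to2)
    fun k hk => Subtype.ext (hiso k k.2 (hP.le hk))) ⟨g, hg⟩
  rw [oddCore, ← opp_subgroupOf] at this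
  have h2 : t * g * t⁻¹ * g⁻¹ ∈ opp 2 H := this
  rw [show ⁅g, t⁆ = (t * g * t⁻¹ * g⁻¹)⁻¹ by rw [commutatorElement_def]; group]
  exact inv_mem h2

theorem oz_conj {R : Subgroup G} {b e : G} (he : e ∈ OZ (cj b R)) : b⁻¹ * e * b ∈ OZ R := by
  obtain ⟨h1, h2, h3⟩ := he
  refine ⟨mem_cj.mp h1, ?_, ?_⟩
  · change e ∈ centralizer (cj b R : Set G) at h2
    rw [← cj_centralizer] at h2
    exact mem_cj.mp h2
  · rw [show b⁻¹ * e * b * (b⁻¹ * e * b) = b⁻¹ * (e * e) * b by group, h3]; group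

theorem jobZQ : JobZQ.{u} := by
  intro zc sc nr G _ _ Q h hl
  haveI : Fact (Nat.Prime 2) := ⟨Nat.prime_two⟩
  obtain ⟨Q₂, T, v2, ne, sT, nb, nf⟩ := h.ex
  obtain ⟨R, hR, -, hn⟩ := inv_syl (Y := Q) sT.isPGroup (sT.le.trans inf_le_right)
  have ln := (hl _ _ (vx_self _) v2 ne T sT nb R hR hn).2 nf
  have ar : AR Q (R ⊓ cen T) T R := ⟨hR, inf_le_left, hn⟩
  have eE := (zc G _ _ _ _ _ ln R ar).1
  have hsc := sc G _ _ _ _ _ ln R ar
  have hnr := nr G _ _ _ _ _ ln R ar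
  rw [eE] at hsc hnr
  have key : ∀ e ∈ OZ R, ∀ q ∈ Q, ⁅q, e⁆ ∈ opp 2 Q := by
    intro e he q hq
    refine zst hR he.1 he.2.2 (fun g hg hgR => ?_) hq
    have he' := hsc e he g hg hgR
    have s1 : IsSyl 2 R (Q ⊓ cen1 (g * e * g⁻¹)) := hR.of_le (le_inf hR.le fun r hr =>
      mem_centralizer_singleton_iff.mpr (mem_centralizer_iff.mp he'.2.1 r hr)) inf_le_left
    have s2 : IsSyl 2 (cj g R) (Q ⊓ cen1 (g * e * g⁻¹)) := by
      refine (hR.cj_of_mem hg).of_le (le_inf (hR.cj_of_mem hg).le fun r hr =>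
        mem_centralizer_singleton_iff.mpr ?_) inf_le_left
      have := mem_centralizer_iff.mp he.2.1 _ (mem_cj.mp hr)
      calc r * (g * e * g⁻¹) = g * (g⁻¹ * r * g * e) * g⁻¹ := by group
        _ = g * e * g⁻¹ * r := by rw [this]; group
    obtain ⟨c, hc, hcg⟩ := s2.exists_cj_eq s1
    rw [cj_cj] at hcg
    have h1 := mem_centralizer_iff.mp
      (hnr (c * g) (Q.mul_mem hc.1 hg) (H98.cj_eq_self_iff.mp hcg)) e he
    have h2 := mem_centralizer_singleton_iff.mp hc.2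
    have h3 : c * (g * e * g⁻¹) = e * c := by
      calc c * (g * e * g⁻¹) = (c * g * e) * g⁻¹ := by group
        _ = e * c := by rw [← h1]; group
    exact mul_right_cancel (h2.symm.trans h3)
  rintro Q₁ ⟨a, rfl⟩ R₁ hR₁ e he q hq
  obtain ⟨m, hm, rfl⟩ := (hR.cj a).exists_cj_eq hR₁
  rw [cj_cj] at he
  have hQ : cj (m * a) Q = cj a Q := by rw [← cj_cj, cj_eq_self_of_mem hm]
  rw [← hQ] at hq ⊢
  rw [← cj_opp, mem_cj]
  have := key _ (oz_conj he) _ (mem_cj.mp hq)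
  rwa [show ⁅(m * a)⁻¹ * q * (m * a), (m * a)⁻¹ * e * (m * a)⁆ = (m * a)⁻¹ * ⁅q, e⁆ * (m * a) by
    simp only [commutatorElement_def]; group] at this

end H24.TE
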