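/- A conjugacy class of involutions each fixing a unique coset. -/
import Cfsg.Agent.H24.WkA
import Cfsg.Agent.H34.BS

set_option autoImplicit false

namespace H24
open Cfsg Subgroup H10.W H98 H14

variable {G : Type*} [Group G]

/-- `x` is conjugate to `t` -/
def Cl (t x : G) : Prop := ∃ g, x = g * t * g⁻¹

theorem Cl.conj {t x : G} (h : Cl t x) (g : G) : Cl t (g * x * g⁻¹) := by
  obtain ⟨k, rfl⟩ := h
  exact ⟨g * k, by group⟩

theorem Cl.refl (t : G) : Cl t t := ⟨1, by simp⟩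

theorem Cl.inv {t x : G} (h : Cl t x) (ht : orderOf t = 2) : orderOf x = 2 := by
  obtain ⟨k, rfl⟩ := h
  rwa [orderOf_conj']

theorem Cl.exists_conj {t x y : G} (h : Cl t x) (h' : Cl t y) : ∃ g, y = g * x * g⁻¹ := by
  obtain ⟨a, rfl⟩ := h
  obtain ⟨b, rfl⟩ := h'
  exact ⟨b * a⁻¹, by group⟩

theorem exists_odd_trans [Finite G] {t : G} {M : Subgroup G} (ht : orderOf t = 2) (tM : t ∈ M)
    (h1 : ∀ x ∈ M, Cl t x → centralizer ({x} : Set G) ≤ M)
    (h2 : ∀ a ∈ M, Cl t a → ∃ m ∈ M, m * t * m⁻¹ = a)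
    (h3 : ∀ a b, Cl t a → Cl t b → a * b = b * a → a ≠ b → Cl t (a * b))
    {s : G} (hs : Cl t s) (sM : s ∉ M) :
    ∃ O ≤ M, Odd (Nat.card O) ∧ ∀ a ∈ M, Cl t a → ∃ o ∈ O, o * t * o⁻¹ = a := by
  have sq : ∀ {x}, Cl t x → x * x = 1 := fun hx => mul_self_of_two (hx.inv ht)
  have mem : ∀ a ∈ M, Cl t a → ∀ g, g * a * g⁻¹ ∈ M → g ∈ M := fun a ha hc g hg => by
    obtain ⟨m, hm, rfl⟩ := h2 a ha hc
    obtain ⟨n, hn, e⟩ := h2 _ hg (hc.conj g)
    have : n⁻¹ * g * m ∈ M := h1 t tM (Cl.refl t) (mem_centralizer_singleton_iff.2 (by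
      calc n⁻¹ * g * m * t = n⁻¹ * (g * (m * t * m⁻¹) * g⁻¹) * g * m := by group
        _ = _ := by rw [← e]; group))
    exact (M.mul_mem_cancel_left (M.inv_mem hn)).1 ((M.mul_mem_cancel_right hm).1 this)
  have odd : ∀ a c, Cl t a → Cl t c → c ∉ M → (a ∈ M ∨ a * c ∈ M) → Odd (orderOf (a * c)) := by
    intro a c ha hc cM hM
    refine Nat.not_even_iff_odd.1 fun he => ?_
    obtain ⟨z, hz, z2⟩ := H85.exists_ord2_mem_zpowers he
    obtain ⟨za, zc⟩ := H85.commute_of_ord2_mem_zpowers (ha.inv ht) (hc.inv ht) hz z2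
    have h4 : Cl t (a * z) := (exists_conj_mul (sq ha) (sq hc) hz).elim
      (fun ⟨g, e⟩ => e ▸ ha.conj g) fun ⟨g, e⟩ => e ▸ hc.conj g
    have h5 := h3 _ _ ha h4 ((Commute.refl a).mul_right za.symm).eq
      fun e => ne_one_of_two z2 (left_eq_mul.1 e)
    rw [← mul_assoc, sq ha, one_mul] at h5
    refine cM (h1 z (hM.elim (fun aM => h1 a aM ha (mem_centralizer_singleton_iff.2 za.eq))
      fun e => zpowers_le_of_mem e hz) h5 (mem_centralizer_singleton_iff.2 zc.symm.eq))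
  have is : s⁻¹ = s := inv_eq_of_mul_eq_one_right (sq hs)
  let D := M ⊓ cj s M
  have hD : zpowers s ≤ normalizer (D : Set G) := zpowers_le_of_mem (H98.cj_eq_self_iff.1 (by
    rw [cj_inf, cj_cj, sq hs, cj_one, inf_comm]))
  have noCl : ∀ w ∈ D, ¬ Cl t w := fun w hw hc => sM (is ▸ mem w hw.1 hc s⁻¹ (by
    simpa using mem_cj.1 hw.2))
  let X := D ⊔ zpowers s
  have memX : ∀ x ∈ X, x ∈ D ∨ x * s ∈ D := fun x hx => by
    obtain ⟨d, hd, a, ha, rfl⟩ := (mem_sup_right_norm hD).1 hx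
    rcases (mem_zpowers_two (hs.inv ht)).1 ha with rfl | rfl
    · exact Or.inl (by rwa [mul_one])
    · exact Or.inr (by rwa [mul_assoc, sq hs, mul_one])
  have sX : s ∈ X := mem_sup_right (mem_zpowers s)
  have iso : IsIsolatedInvolution (⟨s, sX⟩ : X) := ⟨(orderOf_coe _).symm.trans (hs.inv ht),
    fun g hg => Subtype.ext (by_contra fun hne => by
      have e : s * (g * s * (g : G)⁻¹) = g * s * (g : G)⁻¹ * s := congrArg Subtype.val hg
      rcases memX _ (X.mul_mem (X.mul_mem g.2 sX) (X.inv_mem g.2)) with e' | e'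
      · exact noCl _ e' (hs.conj g)
      · exact noCl _ e' (h3 _ _ (hs.conj g) hs e.symm hne))⟩
  refine ⟨opp 2 X, fun x hx => ?_, odd_card_opp X, fun a ha hc => ?_⟩
  · refine ((memX x (opp_le X hx)).resolve_right fun e => ?_).1
    obtain ⟨k, hk⟩ := odd_orderOf_of_mem (odd_card_opp X) hx
    have h4 : x * x ∈ D := by
      have := D.mul_mem e (conj_mem_of_mem_normalizer (hD (mem_zpowers s)) e)
      rwa [show x * s * (s * (x * s) * s⁻¹) = x * (s * s) * x by group, sq hs, mul_one] at this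
    have h5 : x⁻¹ ∈ D := by
      have := D.pow_mem h4 k
      rwa [← pow_two, ← pow_mul, eq_inv_of_mul_eq_one_left (show x ^ (2 * k) * x = 1 by
        rw [← pow_succ, ← hk, pow_orderOf_eq_one])] at this
    exact sM (by simpa using (D.mul_mem h5 e).1)
  have hc' : s * a * s⁻¹ ∉ M := fun e => sM (mem a ha hc s e)
  obtain ⟨g, hg⟩ := exists_swap (mul_self_of_two ht) (sq (hc.conj s))
    (odd _ _ (Cl.refl t) (hc.conj s) hc' (Or.inl tM))
  have hu : Cl t (g * t * g⁻¹) := ⟨g, rfl⟩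
  generalize g * t * g⁻¹ = u at hg hu
  have iu : u⁻¹ = u := inv_eq_of_mul_eq_one_right (sq hu)
  have e1 : s * u * t * (s * u)⁻¹ = a := by
    calc s * u * t * (s * u)⁻¹ = s * u⁻¹ * (t * u) * s⁻¹ := by rw [mul_inv_rev, iu]; group
      _ = s * s * a * (s * s)⁻¹ := by rw [← hg]; group
      _ = a := by rw [sq hs]; group
  have dM : s * u ∈ M := mem t tM (Cl.refl t) _ (e1 ▸ ha)
  have uM : u ∉ M := fun e => sM ((M.mul_mem_cancel_right e).1 dM)
  obtain ⟨k, hk⟩ := odd s u hs hu uM (Or.inr dM)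
  have hi := (inverts_mul (sq hs) (sq hu)).1
  have dX : s * u ∈ X := mem_sup_left (show _ ∈ D from
    ⟨dM, mem_cj.2 (by rw [← M.inv_mem_iff, ← hi, is] at dM; rwa [is])⟩)
  refine ⟨s * u, ⟨_, H34.zstar iso ⟨_, X.pow_mem dX k⟩, ?_⟩, e1⟩
  show s * (s * u) ^ k * s⁻¹ * ((s * u) ^ k)⁻¹ = s * u
  rw [H85.conj_pow_of_inv hi, ← mul_inv_rev, ← pow_add, ← two_mul]
  exact inv_eq_of_mul_eq_one_right (by rw [← pow_succ, ← hk, pow_orderOf_eq_one])

/-- the weak closure of the class of `t` in `C(e)` -/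
def Wf (t e : G) : Subgroup G := closure {x | ∃ g, x = g * t * g⁻¹ ∧ x * e = e * x}

def Af (t e : G) : Subgroup G := ⁅Wf t e, Wf t e⁆

theorem mem_Wf {t e x : G} (h : Cl t x) (hx : x * e = e * x) : x ∈ Wf t e :=
  subset_closure ⟨h.choose, h.choose_spec, hx⟩

theorem Wf_le_of {t e : G} {K : Subgroup G} (h : ∀ x, Cl t x → x * e = e * x → x ∈ K) :
    Wf t e ≤ K := (closure_le _).2 fun x ⟨g, h1, h2⟩ => h x ⟨g, h1⟩ h2

theorem cj_Wf (g t e : G) : cj g (Wf t e) = Wf t (g * e * g⁻¹) := by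
  have key : ∀ g e : G, Wf t e ≤ cj g⁻¹ (Wf t (g * e * g⁻¹)) := fun g e =>
    Wf_le_of fun x h1 h2 => mem_cj.2 (mem_Wf (by simpa using h1.conj g) (by
      simp only [inv_inv, conj_mul, h2]))
  refine le_antisymm (cj_le_iff.2 (key g e)) ?_
  simpa [mul_assoc] using key g⁻¹ (g * e * g⁻¹)

theorem cj_Af (g t e : G) : cj g (Af t e) = Af t (g * e * g⁻¹) := by
  rw [Af, cj_commutator, cj_Wf, Af]

theorem Wf_le (t e : G) : Wf t e ≤ centralizer ({e} : Set G) :=
  Wf_le_of fun _ _ h => mem_centralizer_singleton_iff.2 h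

theorem Af_le (t e : G) : Af t e ≤ Wf t e := commutator_le_of_le le_rfl le_rfl

theorem norm_Wf (t e : G) : centralizer ({e} : Set G) ≤ normalizer (Wf t e : Set G) := fun g hg =>
  H98.cj_eq_self_iff.1 (by rw [cj_Wf, mem_centralizer_singleton_iff.1 hg, mul_inv_cancel_right])

theorem norm_Af (t e : G) : centralizer ({e} : Set G) ≤ normalizer (Af t e : Set G) :=
  le_normalizer_commutator (norm_Wf t e) (norm_Wf t e)

theorem Cl.mem_ncl {t x : G} (h : Cl t x) : x ∈ normalClosure ({t} : Set G) := by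
  obtain ⟨g, rfl⟩ := h
  exact (normalClosure_normal (s := {t})).conj_mem t (subset_normalClosure (Set.mem_singleton t)) g

theorem Wf_le_ncl (t e : G) : Wf t e ≤ normalClosure {t} := Wf_le_of fun _ h _ => h.mem_ncl

/-- the weak closure is `Z₂ × A₅` -/
structure WJ (t e : G) : Prop where
  inv : orderOf t = 2
  cl : Cl t e
  iso : Nonempty (Wf t e ≃* Multiplicative (ZMod 2) × alternatingGroup (Fin 5))

theorem WJ.of_cl {t e x : G} (h : WJ t e) (hx : Cl t x) : WJ t x := by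
  obtain ⟨g, rfl⟩ := h.cl.exists_conj hx
  obtain ⟨φ⟩ := h.iso
  exact ⟨h.inv, hx, ⟨((MulEquiv.subgroupCongr (cj_Wf g t e).symm).trans
    ((MulAut.conj g).subgroupMap _).symm).trans φ⟩⟩

theorem WJ.spec {t e : G} (h : WJ t e) : (∀ w ∈ Wf t e, w ∈ Af t e ∨ e * w ∈ Af t e) ∧
    e ∉ Af t e ∧ Nonempty (Af t e ≃* alternatingGroup (Fin 5)) := by
  obtain ⟨φ⟩ := h.iso
  let f := (Wf t e).subtype.comp φ.symm.toMonoidHom
  have fi : Function.Injective f := (Wf t e).subtype_injective.comp φ.symm.injective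
  have fs : ∀ w ∈ Wf t e, ∃ x, f x = w := fun w hw => ⟨φ ⟨w, hw⟩, by simp [f]⟩
  have fr : (⊤ : Subgroup _).map f = Wf t e :=
    le_antisymm (by rintro _ ⟨x, -, rfl⟩; exact (φ.symm x).2) fun w hw => ⟨_, trivial, (fs w hw).choose_spec⟩
  obtain ⟨h3, h4⟩ := IsL2.simple (isL2_of_alt5 (MulEquiv.refl _)) (by decide)
  have hb : (⊥ : Subgroup (Multiplicative (ZMod 2))).prod (⊤ : Subgroup (alternatingGroup (Fin 5))) =
      (MonoidHom.inr _ _).range := by
    ext x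
    exact ⟨fun h => ⟨x.2, Prod.ext (Eq.symm h.1) rfl⟩, fun ⟨y, hy⟩ => hy ▸ ⟨rfl, trivial⟩⟩
  have hA : Af t e = (f.comp (MonoidHom.inr _ _)).range := by
    rw [Af, ← fr, ← map_commutator, ← top_prod_top, commutator_prod_prod, ← commutator_def,
      ← commutator_def, H87.commutator_eq_top h4, (commutator_eq_bot_iff_center_eq_top _).2
        CommGroup.center_eq_top, hb, MonoidHom.map_range]
  have mem : ∀ x, f x ∈ Af t e ↔ x.1 = 1 := fun x => by
    rw [hA]
    exact ⟨fun ⟨y, hy⟩ => (congrArg Prod.fst (fi hy)).symm, fun e => ⟨x.2, congrArg f (Prod.ext e.symm rfl)⟩⟩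
  obtain ⟨z, hz⟩ := fs e (mem_Wf h.cl rfl)
  have z2 : z.2 = 1 := (H87.center_eq_bot h4).le (mem_center_iff.2 fun a => by
    have : f ((1, a) * z) = f (z * (1, a)) := by
      rw [map_mul, map_mul, hz]
      exact mem_centralizer_singleton_iff.1 (Wf_le t e (fr.le (mem_map_of_mem f trivial)))
    exact congrArg Prod.snd (fi this))
  have z1 : z.1 ≠ 1 := fun e' => ne_one_of_two (h.cl.inv h.inv)
    (by rw [← hz, show z = 1 from Prod.ext e' z2, map_one])
  refine ⟨fun w hw => ?_, fun e' => z1 ((mem z).1 (hz.symm ▸ e')),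
    ⟨(MulEquiv.subgroupCongr hA).trans (MonoidHom.ofInjective
      (f := f.comp (MonoidHom.inr _ _)) (fi.comp (Prod.mk_right_injective 1))).symm⟩⟩
  obtain ⟨x, rfl⟩ := fs w hw
  have := mem (z * x)
  rw [map_mul, hz] at this
  rw [this, mem]
  exact (by decide : ∀ a b : Multiplicative (ZMod 2), a ≠ 1 → b = 1 ∨ a * b = 1) _ _ z1

end H24
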