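/- The local structure when the weak closure of `t` in `C(t)` is `Z₂ × A₅`. -/
import Cfsg.Agent.H24.WkB
import Cfsg.Agent.H86.AltAut

set_option autoImplicit false

namespace H24
open Cfsg Subgroup H10.W H98 H14

variable {G : Type*} [Group G]

theorem mem_sup_cent_of_inner {A : Subgroup G} {g : G} (hg : g ∈ normalizer (A : Set G)) {a : A}
    (h : ∀ x : A, A.normalizerMonoidHom ⟨g, hg⟩ x = a * x * a⁻¹) :
    g ∈ A ⊔ centralizer (A : Set G) := by
  rw [← mul_inv_cancel_left (a : G) g]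
  refine mul_mem_sup a.2 (mem_centralizer_iff.2 fun x hx => ?_)
  have : g * x * g⁻¹ = a * x * (a : G)⁻¹ := congrArg Subtype.val (h ⟨x, hx⟩)
  calc x * ((a : G)⁻¹ * g) = (a : G)⁻¹ * (a * x * (a : G)⁻¹) * g := by group
    _ = _ := by rw [← this]; group

theorem aut_alt5_sq (e : G ≃* alternatingGroup (Fin 5)) (φ : MulAut G) :
    ∃ a : G, ∀ x, (φ ^ 2) x = a * x * a⁻¹ := by
  obtain ⟨σ, hσ⟩ := H86.exists_conjNormal_eq (α := Fin 5) (by simp) (e.symm.trans (φ.trans e))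
    (H86.isThreeCycle_aut (by simp) _)
  have h : ∀ y, (e (φ y) : Equiv.Perm (Fin 5)) = σ * e y * σ⁻¹ := fun y => by
    simpa using (congrArg (fun ψ : MulAut (alternatingGroup (Fin 5)) =>
      (ψ (e y) : Equiv.Perm (Fin 5))) hσ).symm
  refine ⟨e.symm ⟨σ * σ, by simp [Equiv.Perm.mem_alternatingGroup]⟩,
    fun x => e.injective (Subtype.ext ?_)⟩
  simp [pow_two, h, mul_assoc]

theorem le_sup_cent_alt5 [Finite G] {A C S : Subgroup G} (e : A ≃* alternatingGroup (Fin 5))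
    (hC : C ≤ normalizer (A : Set G)) (hA : A ≤ C) (hS : IsSyl 2 S C)
    (hSV : S ≤ centralizer ((S ⊓ A : Subgroup G) : Set G)) : C ≤ A ⊔ centralizer (A : Set G) := by
  obtain ⟨h3, h4⟩ := IsL2.simple (isL2_of_alt5 e) (by decide)
  rw [← hS.sup_res]
  refine sup_le (fun s hs => ?_) (res_le_of_forall_pow fun x hx => ⟨1, ?_⟩)
  · obtain ⟨P, hP⟩ := (hS.inf_of_le_normalizer hA (hS.le.trans hC)).exists_sylow
    obtain ⟨j, hj⟩ := hS.isPGroup ⟨s, hs⟩
    have := (four_of_alt5 e P).1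
    obtain ⟨a, ha⟩ := inner_of_fix_sylow (H87.center_eq_bot h4)
      (opp_eq_bot_iff.1 (opp_eq_bot_of_simple h4)) P IsKleinFour.isMulCommutative
      (α := A.normalizerMonoidHom ⟨s, hC (hS.le hs)⟩) (j := j)
      (by rw [← map_pow, show (⟨s, hC (hS.le hs)⟩ : normalizer (A : Set G)) ^ 2 ^ j = 1 from
        Subtype.ext (congrArg Subtype.val hj :), map_one])
      fun x hx => Subtype.ext (mul_inv_eq_iff_eq_mul.2 (hSV hs x (by rwa [hP] at hx)).symm)
    exact mem_sup_cent_of_inner _ ha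
  · obtain ⟨a, ha⟩ := aut_alt5_sq e (A.normalizerMonoidHom ⟨x, hC hx⟩)
    rw [← map_pow] at ha
    exact mem_sup_cent_of_inner _ ha

theorem isPGroup_zpowers_two {x : G} (hx : orderOf x = 2) : IsPGroup 2 (zpowers x) :=
  IsPGroup.of_card (n := 1) (by rw [Nat.card_zpowers, hx, pow_one])

/-- `e` is a conjugate of `t` in the center of `S` -/
structure WS (t e : G) (S : Sylow 2 G) : Prop extends WJ t e where
  mem : e ∈ (S : Subgroup G)
  cen : (S : Subgroup G) ≤ centralizer ({e} : Set G)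

namespace WS
variable [Finite G] {t e : G} {S : Sylow 2 G} (h : WS t e S)
include h

omit [Finite G] in
theorem two : orderOf e = 2 := h.cl.inv h.inv

theorem sylA : IsSyl 2 ((S : Subgroup G) ⊓ Af t e) (Af t e) :=
  (isSyl_sylow_of_le S h.cen).inf_of_le_normalizer ((Af_le t e).trans (Wf_le t e))
    (h.cen.trans (norm_Af t e))

theorem sylW : IsSyl 2 ((S : Subgroup G) ⊓ Wf t e) (Wf t e) :=
  (isSyl_sylow_of_le S h.cen).inf_of_le_normalizer (Wf_le t e) (h.cen.trans (norm_Wf t e))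

theorem four : IsKleinFour ↥((S : Subgroup G) ⊓ Af t e) ∧
    Af t e ⊓ centralizer (((S : Subgroup G) ⊓ Af t e : Subgroup G) : Set G) ≤ ↑S ⊓ Af t e ∧
    ∃ d ∈ Af t e ⊓ normalizer (((S : Subgroup G) ⊓ Af t e : Subgroup G) : Set G),
      Sing ((S : Subgroup G) ⊓ Af t e) d :=
  four_ambient (four_of_alt5 h.toWJ.spec.2.2.some) h.sylA

theorem mem_iff (s : G) : s ∈ (S : Subgroup G) ⊓ Wf t e ↔
    s ∈ (S : Subgroup G) ⊓ Af t e ∨ e * s ∈ (S : Subgroup G) ⊓ Af t e :=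
  ⟨fun hs => (h.toWJ.spec.1 s hs.2).imp (⟨hs.1, ·⟩) (⟨mul_mem h.mem hs.1, ·⟩),
    fun h1 => h1.elim (fun h1 => ⟨h1.1, Af_le t e h1.2⟩) fun h1 =>
      ⟨(mul_mem_cancel_left h.mem).1 h1.1,
        (mul_mem_cancel_left (mem_Wf h.cl rfl)).1 (Af_le t e h1.2)⟩⟩

theorem sq_E {s : G} (hs : s ∈ (S : Subgroup G) ⊓ Wf t e) : s * s = 1 := by
  rcases (h.mem_iff s).1 hs with h1 | h1
  · exact sq_of_four h.four.1 h1
  have := sq_of_four h.four.1 h1
  rwa [mul_assoc, ← mul_assoc s, mem_centralizer_singleton_iff.1 (h.cen hs.1), mul_assoc,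
    ← mul_assoc, mul_self_of_two h.two, one_mul] at this

theorem comm_E {a b : G} (ha : a ∈ (S : Subgroup G) ⊓ Wf t e) (hb : b ∈ (S : Subgroup G) ⊓ Wf t e) :
    a * b = b * a := by
  have h1 : ∀ x ∈ (S : Subgroup G) ⊓ Wf t e, x⁻¹ = x := fun x hx =>
    inv_eq_of_mul_eq_one_right (h.sq_E hx)
  rw [← h1 _ (mul_mem ha hb), mul_inv_rev, h1 _ ha, h1 _ hb]

omit [Finite G] in
theorem mem_E {x : G} (hx : x ∈ (S : Subgroup G)) (hc : Cl t x) : x ∈ (S : Subgroup G) ⊓ Wf t e :=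
  ⟨hx, mem_Wf hc (mem_centralizer_singleton_iff.1 (h.cen hx))⟩

omit [Finite G] h in
theorem norm_E_of {d : G} (hd : d ∈ Af t e ⊓ normalizer (((S : Subgroup G) ⊓ Af t e : Subgroup G) : Set G))
    (hE : ∀ s, s ∈ (S : Subgroup G) ⊓ Wf t e ↔
      s ∈ (S : Subgroup G) ⊓ Af t e ∨ e * s ∈ (S : Subgroup G) ⊓ Af t e) :
    d ∈ normalizer (((S : Subgroup G) ⊓ Wf t e : Subgroup G) : Set G) := by
  refine mem_normalizer_iff.2 fun s => ?_
  rw [hE, hE, mem_normalizer_iff.1 hd.2 s, mem_normalizer_iff.1 hd.2 (e * s), ← mul_assoc d,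
    mem_centralizer_singleton_iff.1 (Wf_le t e (Af_le t e hd.1)), mul_assoc e, mul_assoc e]

theorem S_norm : (S : Subgroup G) ≤ normalizer (((S : Subgroup G) ⊓ Wf t e : Subgroup G) : Set G) :=
  le_normalizer_inf le_normalizer (h.cen.trans (norm_Wf t e))

theorem exists_cj {x : G} (hx : x ∈ Wf t e) (x2 : orderOf x = 2) :
    ∃ w ∈ Wf t e, w * x * w⁻¹ ∈ (S : Subgroup G) ⊓ Wf t e := by
  obtain ⟨w, hw, h1⟩ := h.sylW.exists_cj_le (isPGroup_zpowers_two x2) (zpowers_le_of_mem hx)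
  exact ⟨w, hw, h1 (conj_mem_cj (mem_zpowers x))⟩

theorem orb_eq {N : Subgroup G} (hN : N ≤ normalizer (((S : Subgroup G) ⊓ Wf t e : Subgroup G) : Set G))
    (hA : Af t e ⊓ normalizer (((S : Subgroup G) ⊓ Wf t e : Subgroup G) : Set G) ≤ N)
    (ho : Odd ((centralizer ({e} : Set G)).relIndex N)) (hn : ¬ N ≤ centralizer ({e} : Set G)) :
    orb N e = (((S : Subgroup G) ⊓ Wf t e : Subgroup G) : Set G) \ {1} := by
  obtain ⟨d, hd, hs⟩ := h.four.2.2
  exact orb_eq_of h.two h.four.1 (fun h1 => h.toWJ.spec.2.1 h1.2) h.mem_iff hN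
    (hA ⟨hd.1, norm_E_of hd h.mem_iff⟩)
    (mem_centralizer_singleton_iff.1 (Wf_le t e (Af_le t e hd.1))) hs ho hn

theorem exists_ne : ∃ x ∈ (S : Subgroup G) ⊓ Wf t e, Cl t x ∧ x ≠ e := by
  by_contra! hn
  have h1 : Wf t e ≤ zpowers e := Wf_le_of fun x hx hc => by
    obtain ⟨w, hw, h1⟩ := h.exists_cj (mem_Wf hx hc) (hx.inv h.inv)
    have h2 := hn _ h1 (hx.conj w)
    rw [mul_inv_eq_iff_eq_mul, ← mem_centralizer_singleton_iff.1 (Wf_le t e hw)] at h2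
    exact mul_left_cancel h2 ▸ mem_zpowers _
  have := card_le_of_le ((inf_le_right.trans (Af_le t e)).trans h1 : (S : Subgroup G) ⊓ Af t e ≤ _)
  rw [h.four.1.card_four, Nat.card_zpowers, h.two] at this
  exact absurd this (by decide)

theorem E_le {K : Subgroup G} (hK : ∀ x ∈ (S : Subgroup G) ⊓ Wf t e, Cl t x → x ∈ K) :
    (S : Subgroup G) ⊓ Wf t e ≤ K := by
  obtain ⟨x, hx, xc, xe⟩ := h.exists_ne
  obtain ⟨d, hd, hs⟩ := h.four.2.2
  have eE := h.mem_E h.mem h.cl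
  have eK := hK e eE h.cl
  have ed : ∀ k : ℕ, d ^ k * e * (d ^ k)⁻¹ = e := fun k => mul_inv_eq_iff_eq_mul.2
    (mem_centralizer_singleton_iff.1 (pow_mem (Wf_le t e (Af_le t e hd.1)) k))
  have key : (S : Subgroup G) ⊓ Af t e ≤ K := fun v hv => by
    have vE := (h.mem_iff v).2 (Or.inl hv)
    by_cases v1 : v = 1
    · exact v1 ▸ one_mem _
    rcases (h.mem_iff x).1 hx with h1 | h1
    · obtain ⟨k, rfl⟩ := hs x h1 v hv (ne_one_of_two (xc.inv h.inv)) v1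
      exact hK _ vE (xc.conj _)
    · obtain ⟨k, hk⟩ := hs _ h1 v hv (fun h2 => xe ((eq_inv_of_mul_eq_one_right h2).trans
        (inv_eq_of_mul_eq_one_right (mul_self_of_two h.two)))) v1
      have h3 : v = e * (d ^ k * x * (d ^ k)⁻¹) := by rw [← hk, ← conj_mul, ed]
      rw [h3] at vE ⊢
      exact mul_mem eK (hK _ ((mul_mem_cancel_left eE).1 vE) (xc.conj _))
  exact fun s hs => ((h.mem_iff s).1 hs).elim (key ·) fun h1 => (mul_mem_cancel_left eK).1 (key h1)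

theorem orb_N : orb (normalizer (((S : Subgroup G) ⊓ Wf t e : Subgroup G) : Set G)) e =
    (((S : Subgroup G) ⊓ Wf t e : Subgroup G) : Set G) \ {1} := by
  refine h.orb_eq le_rfl inf_le_right (Nat.odd_iff.2 (Nat.two_dvd_ne_zero.1 fun h1 =>
    (isSyl_sylow_of_le S h.S_norm).not_dvd_relIndex (h1.trans (relIndex_dvd_of_le_left _ h.cen))))
    fun hn => ?_
  obtain ⟨x, hx, xc, xe⟩ := h.exists_ne
  obtain ⟨g, hg⟩ := h.cl.exists_conj xc
  have h1 : cj g⁻¹ ((S : Subgroup G) ⊓ Wf t e) ≤ Wf t e := by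
    rw [← le_cj_iff, cj_Wf, ← hg]
    exact h.E_le fun y hy yc => mem_Wf yc (h.comm_E hy hx)
  obtain ⟨w, hw, h2⟩ := h.sylW.exists_cj_le (isPGroup_cj g⁻¹ h.sylW.isPGroup) h1
  rw [cj_cj] at h2
  have h3 := mem_centralizer_singleton_iff.1 (hn (H98.cj_eq_self_iff.1
    (eq_of_le_of_card_ge h2 (card_cj _ _).ge)))
  rw [← mul_assoc, ← mem_centralizer_singleton_iff.1 (Wf_le t e hw), mul_assoc, mul_assoc,
    mul_right_inj] at h3
  exact xe (by rw [hg, mul_assoc, ← h3, mul_inv_cancel_left])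

theorem cl_E {x : G} (hx : x ∈ (S : Subgroup G) ⊓ Wf t e) (x1 : x ≠ 1) : Cl t x := by
  obtain ⟨n, -, rfl⟩ := h.orb_N.ge ⟨hx, x1⟩
  exact h.cl.conj n

theorem cl_W {x : G} (hx : x ∈ Wf t e) (x2 : orderOf x = 2) : Cl t x := by
  obtain ⟨w, -, h1⟩ := h.exists_cj hx x2
  simpa [mul_assoc] using (h.cl_E h1 (by simpa using ne_one_of_two x2)).conj w⁻¹

theorem E_eq {z : G} (hz : WS t z S) : (S : Subgroup G) ⊓ Wf t z = ↑S ⊓ Wf t e :=
  le_antisymm (hz.E_le fun _ hx => h.mem_E hx.1) (h.E_le fun _ hx => hz.mem_E hx.1)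

theorem S_le : (S : Subgroup G) ≤ centralizer (((S : Subgroup G) ⊓ Wf t e : Subgroup G) : Set G) := by
  by_contra hn
  have hle : ⁅(S : Subgroup G) ⊓ Wf t e, (S : Subgroup G)⁆ ≤ ↑S ⊓ Wf t e :=
    commutator_le_left' h.S_norm
  obtain ⟨⟨z, hz, zc⟩, z1⟩ := ne_bot_iff_exists_ne_one.1 (inf_centralizer_ne_bot
    (h.sylW.isPGroup.to_le hle) S.isPGroup' (le_normalizer_commutator h.S_norm le_normalizer)
      fun h1 => hn (commutator_eq_bot_iff_le_centralizer.1 ((commutator_comm _ _).trans h1)))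
  have h1 : WS t z S := ⟨h.toWJ.of_cl (h.cl_E (hle hz) fun h1 => z1 (Subtype.ext h1)), (hle hz).1,
    fun s hs => mem_centralizer_singleton_iff.2 (zc s hs)⟩
  refine h1.toWJ.spec.2.1 (Subgroup.commutator_le.2 (fun a ha s hs => ?_) hz)
  have h2 : ∀ b ∈ Af t z, b * s * b⁻¹ * s⁻¹ ∈ Af t z := fun b hb => by
    simpa [mul_assoc] using
      mul_mem hb (conj_mem_of_mem_normalizer (h1.cen.trans (norm_Af t z) hs) (inv_mem hb))
  rw [← h.E_eq h1] at ha
  refine ((h1.mem_iff a).1 ha).elim (h2 a ·.2) fun h3 => ?_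
  have h4 := h2 _ h3.2
  have h5 : ∀ x ∈ (S : Subgroup G), z * x * z⁻¹ = x := fun x hx =>
    mul_inv_eq_iff_eq_mul.2 (mem_centralizer_singleton_iff.1 (h1.cen hx)).symm
  rwa [show z * a * s * (z * a)⁻¹ = z * (a * s * a⁻¹) * z⁻¹ by group,
    h5 _ (mul_mem (mul_mem ha.1 hs) (inv_mem ha.1))] at h4

theorem of_mem {x : G} (hx : x ∈ (S : Subgroup G)) (hc : Cl t x) : WS t x S :=
  ⟨h.toWJ.of_cl hc, hx, fun s hs => mem_centralizer_singleton_iff.2 (h.S_le hs x (h.mem_E hx hc)).symm⟩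

theorem cent_le : centralizer ({e} : Set G) ≤ Af t e ⊔ centralizer (Af t e : Set G) :=
  le_sup_cent_alt5 h.toWJ.spec.2.2.some (norm_Af t e) ((Af_le t e).trans (Wf_le t e))
    (isSyl_sylow_of_le S h.cen) (h.S_le.trans (centralizer_le (inf_le_inf_left _ (Af_le t e))))

end WS

end H24
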