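/- The weak closure characterization of `J₁`. -/
import Cfsg.Agent.H24.WkC

set_option autoImplicit false

namespace H24
open Cfsg Subgroup H10.W H98 H14

variable {G : Type*} [Group G]

/-- the subgroup generated by the components `A_x`, `x ∈ S` conjugate to `t` -/
def Hf (t : G) (S : Sylow 2 G) : Subgroup G := ⨆ (x : G) (_ : x ∈ (S : Subgroup G) ∧ Cl t x), Af t x

theorem Af_le_Hf {t x : G} {S : Sylow 2 G} (hx : x ∈ (S : Subgroup G)) (hc : Cl t x) :
    Af t x ≤ Hf t S := le_iSup₂_of_le x ⟨hx, hc⟩ le_rfl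

theorem Hf_le {t : G} {S : Sylow 2 G} {K : Subgroup G}
    (h : ∀ x ∈ (S : Subgroup G), Cl t x → Af t x ≤ K) : Hf t S ≤ K := iSup₂_le fun x hx => h x hx.1 hx.2

theorem mem_cent_Hf {t y : G} {S : Sylow 2 G}
    (h : ∀ x ∈ (S : Subgroup G), Cl t x → y ∈ centralizer (Af t x : Set G)) :
    y ∈ centralizer (Hf t S : Set G) := fun _ hg => mem_centralizer_singleton_iff.1
  (Hf_le (K := centralizer {y}) (fun x hx hc a ha => mem_centralizer_singleton_iff.2 (h x hx hc a ha)) hg)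

theorem mem_sup_cent {A : Subgroup G} {x : G} (hx : x ∈ A ⊔ centralizer (A : Set G)) :
    ∃ a ∈ A, ∃ y ∈ centralizer (A : Set G), x = a * y :=
  (mem_sup_left_norm (le_normalizer_centralizer le_normalizer)).1 hx

namespace WS
variable [Finite G] {t e : G} {S : Sylow 2 G} (h : WS t e S)
include h

theorem odd_cent {N : Subgroup G}
    (hN : N ≤ normalizer (((S : Subgroup G) ⊓ Wf t e : Subgroup G) : Set G)) :
    Odd ((centralizer (((S : Subgroup G) ⊓ Wf t e : Subgroup G) : Set G)).relIndex N) := by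
  rw [← relIndex_subgroupOf (le_normalizer_centralizer hN)]
  exact Odd.of_dvd_nat (Nat.odd_iff.2 (Nat.two_dvd_ne_zero.1 S.not_dvd_index))
    (((relIndex_dvd_index_of_normal _ _).trans (relIndex_dvd_index_of_le le_normalizer)).trans
      (index_dvd_of_le h.S_le))

omit [Finite G] in
theorem cent_E : centralizer (((S : Subgroup G) ⊓ Wf t e : Subgroup G) : Set G) ≤ centralizer {e} :=
  centralizer_le (Set.singleton_subset_iff.2 (h.mem_E h.mem h.cl))

theorem dec {c : G} (hc : c ∈ centralizer (((S : Subgroup G) ⊓ Wf t e : Subgroup G) : Set G)) :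
    ∃ v ∈ (S : Subgroup G) ⊓ Af t e, ∃ y ∈ centralizer (Af t e : Set G), c = v * y := by
  obtain ⟨a, ha, y, hy, rfl⟩ := mem_sup_cent (h.cent_le (h.cent_E hc))
  exact ⟨a, h.four.2.1 ⟨ha, (mul_mem_cancel_right (centralizer_le inf_le_right hy)).1
    (centralizer_le (inf_le_inf_left _ (Af_le t e)) hc)⟩, y, hy, rfl⟩

theorem comm_mem {c d : G} (hc : c ∈ centralizer (((S : Subgroup G) ⊓ Wf t e : Subgroup G) : Set G))
    (hd : d ∈ centralizer (((S : Subgroup G) ⊓ Wf t e : Subgroup G) : Set G)) :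
    c * d * c⁻¹ * d⁻¹ ∈ centralizer (Af t e : Set G) := by
  obtain ⟨v, hv, y, hy, rfl⟩ := h.dec hc
  have h1 := (mul_mem_cancel_left (h.S_le hv.1)).1 hc
  have h2 := mul_mem (mul_mem h1 hd) (inv_mem h1) v ⟨hv.1, Af_le t e hv.2⟩
  rw [show v * y * d * (v * y)⁻¹ = v * (y * d * y⁻¹) * v⁻¹ by group, h2, mul_inv_cancel_right]
  simpa [mul_assoc] using mul_mem hy (conj_mem_of_mem_normalizer
    (le_normalizer_centralizer (norm_Af t e) (h.cent_E hd)) (inv_mem hy))

omit [Finite G] h in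
theorem e_cent : e ∈ centralizer (Af t e : Set G) := fun _ ha =>
  mem_centralizer_singleton_iff.1 (Wf_le t e (Af_le t e ha))

theorem E_cent {u : G} (hu : u ∈ (S : Subgroup G) ⊓ Wf t e) (hc : u ∈ centralizer (Af t e : Set G)) :
    u = 1 ∨ u = e := by
  obtain ⟨d, hd, hs⟩ := h.four.2.2
  refine ((h.mem_iff u).1 hu).imp (fun h1 => by_contra fun h2 => hs.move h.four.1 h1 h2 (hc d hd.1))
    fun h1 => by_contra fun h2 => hs.move h.four.1 h1 (fun h3 => h2 ?_) (mul_mem e_cent hc d hd.1)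
  exact (eq_inv_of_mul_eq_one_right h3).trans (inv_eq_of_mul_eq_one_right (mul_self_of_two h.two))

theorem E_Y {u : G} (hu : u ∈ (S : Subgroup G) ⊓ Wf t e) (hc : u ∈ centralizer (Hf t S : Set G)) :
    u = 1 := by
  obtain ⟨x, hx, xc, xe⟩ := h.exists_ne
  have h1 := h.of_mem hx.1 xc
  refine (h.E_cent hu (centralizer_le (Af_le_Hf h.mem h.cl) hc)).elim id fun h2 => ?_
  exact (h1.E_cent (h.E_eq h1 ▸ hu) (centralizer_le (Af_le_Hf hx.1 xc) hc)).resolve_right
    fun h3 => xe (h3.symm.trans h2)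

theorem cent_E_le : centralizer (((S : Subgroup G) ⊓ Wf t e : Subgroup G) : Set G) ≤
    (S : Subgroup G) ⊓ Wf t e ⊔ centralizer (Hf t S : Set G) := fun y hy => by
  have hN : stab (centralizer (((S : Subgroup G) ⊓ Wf t e : Subgroup G) : Set G)) (↑S ⊓ Wf t e) ≤
    normalizer _ := fun _ hn => hn.1
  obtain ⟨u, hu, h1⟩ := exists_fixed_coset (y := y) (fun _ => h.sq_E) hN
    (fun n hn => by simpa [commutatorElement_def, mul_assoc] using hn.2 _ (inv_mem hy))
    (Odd.of_dvd_nat (h.odd_cent hN) (by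
      rw [← inf_relIndex_right (centralizer (((S : Subgroup G) ⊓ Wf t e : Subgroup G) : Set G))]
      refine relIndex_dvd_of_le_left _ fun n hn => mem_centralizer_singleton_iff.2 ?_
      have := h.E_Y (hn.2.2 y hy) (mem_cent_Hf fun x hx hc => by
        have h2 := h.of_mem hx hc
        exact h2.comm_mem (h.E_eq h2 ▸ hy) (h.E_eq h2 ▸ hn.1))
      exact (commutatorElement_eq_one_iff_mul_comm.1 this).symm))
  have yu := mul_mem hy (h.S_le hu.1)
  have h2 : y * u ∈ centralizer (Hf t S : Set G) := mem_cent_Hf fun x hx hc => by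
    have h2 := h.of_mem hx hc
    obtain ⟨d, hd, hs⟩ := h2.four.2.2
    have h3 := h1 d ⟨h.E_eq h2 ▸ norm_E_of hd h2.mem_iff, fun c hc => by
      obtain ⟨v, hv, z, hz, rfl⟩ := h2.dec (h.E_eq h2 ▸ hc)
      rw [commutatorElement_def, show v * z * d * (v * z)⁻¹ * d⁻¹ = v * (z * d * z⁻¹) * v⁻¹ * d⁻¹ by
        group, ← hz d hd.1, mul_inv_cancel_right, mul_assoc v, mul_assoc v, ← h.E_eq h2]
      exact (h2.mem_iff _).2 (Or.inl (mul_mem hv (conj_mem_of_mem_normalizer hd.2 (inv_mem hv))))⟩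
    obtain ⟨v, hv, z, hz, h4⟩ := h2.dec (h.E_eq h2 ▸ yu)
    rw [h4, mul_inv_eq_iff_eq_mul, mul_assoc, ← hz d hd.1, ← mul_assoc, ← mul_assoc,
      mul_left_inj] at h3
    rwa [h4, by_contra fun v1 => hs.move h2.four.1 hv v1 h3, one_mul]
  exact (mul_mem_cancel_right (mem_sup_left hu)).1 (mem_sup_right h2)

theorem cent_le' : centralizer ({e} : Set G) ≤ Wf t e ⊔ centralizer (Hf t S : Set G) := fun c hc => by
  obtain ⟨a, ha, y, hy, rfl⟩ := mem_sup_cent (h.cent_le hc)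
  refine mul_mem (mem_sup_left (Af_le t e ha)) (h.cent_E_le.trans (sup_le_sup_right inf_le_right _)
    fun s hs => ?_)
  have h1 := mem_centralizer_singleton_iff.1 ((mul_mem_cancel_left (Wf_le t e (Af_le t e ha))).1 hc)
  refine ((h.mem_iff s).1 hs).elim (hy s ·.2) fun h2 => mul_left_cancel (a := e) ?_
  rw [← mul_assoc, hy _ h2.2, ← mul_assoc, h1, mul_assoc]

omit [Finite G] in
theorem W_le {K : Subgroup G} (he : e ∈ K) (hA : Af t e ≤ K) : Wf t e ≤ K := fun w hw =>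
  (h.toWJ.spec.1 w hw).elim (hA ·) fun h1 => (mul_mem_cancel_left he).1 (hA h1)

theorem exists_V : ∃ v ∈ (S : Subgroup G) ⊓ Af t e, v ≠ 1 := by
  by_contra! hn
  have := h.four.1.card_four
  rw [(eq_bot_iff_forall _).2 hn, card_bot] at this
  exact absurd this (by decide)

theorem exists_mem_A : ∃ x ∈ (S : Subgroup G), Cl t x ∧ e ∈ Af t x := by
  obtain ⟨v, hv, v1⟩ := h.exists_V
  obtain ⟨n, hn, rfl⟩ := h.orb_N.ge ⟨(h.mem_iff v).2 (Or.inl hv), v1⟩
  refine ⟨_, (conj_mem_of_mem_normalizer (inv_mem hn) (h.mem_E h.mem h.cl)).1, h.cl.conj _, ?_⟩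
  rw [← cj_Af, mem_cj, inv_inv]
  exact hv.2

theorem mem_H : e ∈ Hf t S := h.exists_mem_A.elim fun _ hx => Af_le_Hf hx.1 hx.2.1 hx.2.2

theorem W_le_H : Wf t e ≤ Hf t S := h.W_le h.mem_H (Af_le_Hf h.mem h.cl)

theorem orb_H : orb (Hf t S ⊓ normalizer (((S : Subgroup G) ⊓ Wf t e : Subgroup G) : Set G)) e =
    (((S : Subgroup G) ⊓ Wf t e : Subgroup G) : Set G) \ {1} := by
  refine h.orb_eq inf_le_right (inf_le_inf_right _ (Af_le_Hf h.mem h.cl))
    (Odd.of_dvd_nat (h.odd_cent inf_le_right) (relIndex_dvd_of_le_left _ h.cent_E)) fun hn => ?_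
  obtain ⟨x, hx, hc, hA⟩ := h.exists_mem_A
  have h2 := h.of_mem hx hc
  obtain ⟨d, hd, hs⟩ := h2.four.2.2
  exact hs.move h2.four.1 ⟨h.mem, hA⟩ (ne_one_of_two h.two) (mem_centralizer_singleton_iff.1
    (hn ⟨Af_le_Hf hx hc hd.1, h.E_eq h2 ▸ norm_E_of hd h2.mem_iff⟩))

theorem cent_H {g : G} (hg : g ∈ Hf t S) (hc : g ∈ centralizer ({e} : Set G)) :
    ∃ w ∈ Wf t e, ∃ y ∈ Hf t S ⊓ centralizer (Hf t S : Set G), g = w * y := by
  obtain ⟨w, hw, y, hy, rfl⟩ := (mem_sup_left_norm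
    (le_normalizer_centralizer (h.W_le_H.trans le_normalizer))).1 (h.cent_le' hc)
  exact ⟨w, hw, y, ⟨(mul_mem_cancel_left (h.W_le_H hw)).1 hg, hy⟩, rfl⟩

theorem isoJ1 : Spor.IsoJ1 (Hf t S) := by
  have AH := Af_le_Hf h.mem h.cl (S := S)
  have ctr : ∀ y : Hf t S, y ∈ center (Hf t S) ↔ (y : G) ∈ centralizer (Hf t S : Set G) := fun y =>
    mem_center_iff.trans ⟨fun h1 g hg => congrArg Subtype.val (h1 ⟨g, hg⟩),
      fun h1 g => Subtype.ext (h1 g g.2)⟩
  obtain ⟨P, hP⟩ := (((isSyl_sylow S).of_le le_sup_left le_top).inf_of_le_normalizer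
    (le_sup_right (b := Hf t S)) fun s hs => H98.cj_eq_self_iff.1 (by
      simp only [Hf, cj, Subgroup.map_iSup]
      refine iSup_congr fun x => iSup_congr fun hx => (cj_Af s t x).trans ?_
      rw [mem_centralizer_singleton_iff.1 ((h.of_mem hx.1 hx.2).cen hs),
        mul_inv_cancel_right])).exists_sylow
  obtain ⟨φ⟩ := h.toWJ.spec.2.2
  refine isoJ1_of_central (t := ⟨e, h.mem_H⟩) (A := (Af t e).subgroupOf _) ?_
    ((orderOf_coe _).symm.trans h.two) ((subgroupOfEquivOfLe AH).trans φ)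
    (fun a ha => mem_centralizer_singleton_iff.2 (Subtype.ext (e_cent (t := t) a ha))) (fun h1 => ?_)
    (fun g hg => ?_) P (hP ▸ ⟨h.mem, h.mem_H⟩) ⟨⟨fun a b => ?_⟩⟩ ?_
  · rw [← map_subtype_inj, map_subtype_commutator, ← MonoidHom.range_eq_map, range_subtype]
    refine le_antisymm (commutator_le_of_le le_rfl le_rfl) (Hf_le fun x hx hc => ?_)
    obtain ⟨_, h4⟩ := IsL2.simple (isL2_of_alt5 (h.of_mem hx hc).toWJ.spec.2.2.some) (by decide)
    refine le_trans ?_ (commutator_mono (Af_le_Hf hx hc) (Af_le_Hf hx hc))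
    rw [← map_subtype_commutator, H87.commutator_eq_top h4, ← MonoidHom.range_eq_map, range_subtype]
  · obtain ⟨a, ha, y, hy, h2⟩ := (mem_sup_left_norm le_normalizer_of_normal).1 h1
    have h3 : e = a * y := congrArg Subtype.val h2
    have h4 := (ctr y).1 hy
    obtain ⟨_, h5⟩ := IsL2.simple (isL2_of_alt5 φ) (by decide)
    have h6 : (⟨a, ha⟩ : Af t e) = 1 := (H87.center_eq_bot h5).le (mem_center_iff.2 fun b =>
      Subtype.ext ((mul_mem_cancel_right (centralizer_le AH h4)).1 (h3 ▸ e_cent) b b.2))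
    rw [show (a : G) = 1 from congrArg Subtype.val h6, one_mul] at h3
    exact ne_one_of_two h.two (h.E_Y (h.mem_E h.mem h.cl) (h3 ▸ h4))
  · obtain ⟨w, hw, y, hy, h2⟩ := h.cent_H g.2 (mem_centralizer_singleton_iff.2
      (congrArg Subtype.val (mem_centralizer_singleton_iff.1 hg)))
    rw [show g = ⟨w, h.W_le_H hw⟩ * ⟨y, hy.1⟩ from Subtype.ext h2]
    refine mul_mem_sup ((h.toWJ.spec.1 w hw).elim (fun h1 => mem_sup_right h1) fun h1 =>
      (mul_mem_cancel_left (mem_sup_left (mem_zpowers _))).1 (mem_sup_right h1)) ((ctr _).2 hy.2)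
  · have key : ∀ s ∈ (S : Subgroup G), ∃ u ∈ (S : Subgroup G) ⊓ Wf t e,
        ∃ y ∈ centralizer (Hf t S : Set G), s = u * y := fun s hs => (mem_sup_left_norm
          (le_normalizer_centralizer ((inf_le_right.trans h.W_le_H).trans le_normalizer))).1
            (h.cent_E_le (h.S_le hs))
    have ha : (a : G) ∈ (S : Subgroup G) ⊓ Hf t S := hP.le a.2
    have hb : (b : G) ∈ (S : Subgroup G) ⊓ Hf t S := hP.le b.2
    obtain ⟨u, hu, y, hy, h1⟩ := key _ ha.1
    refine Subtype.ext (Subtype.ext ?_)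
    show (a : G) * b = b * a
    rw [h1, mul_assoc, ← hy _ hb.2, ← mul_assoc, h.S_le hb.1 u hu, mul_assoc]
  · obtain ⟨v, hv, v1⟩ := h.exists_V
    obtain ⟨n, hn, rfl⟩ := h.orb_H.ge ⟨(h.mem_iff v).2 (Or.inl hv), v1⟩
    exact ⟨⟨n, hn.1⟩, hv.2⟩

theorem H_Y {y : G} (hy : y ∈ Hf t S) (hc : y ∈ centralizer (Hf t S : Set G)) : y = 1 := by
  obtain ⟨φ⟩ := h.isoJ1
  have := H74.J1.simple_J1
  have := φ.isSimpleGroup
  exact congrArg Subtype.val ((H87.center_eq_bot (G := Hf t S) (H87.nonabelian_of_card_not_prime (by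
    rw [Nat.card_congr φ.toEquiv, H74.J1.card_J1]; norm_num))).le
      (mem_center_iff.2 fun g => Subtype.ext (hc g g.2) : (⟨y, hy⟩ : Hf t S) ∈ _))

theorem relIndex_H : (centralizer ({e} : Set G)).relIndex (Hf t S) = 1463 := by
  obtain ⟨φ⟩ := h.isoJ1
  obtain ⟨ψ⟩ := h.iso
  have h1 : centralizer ({e} : Set G) ⊓ Hf t S = Wf t e := le_antisymm (fun g hg => by
    obtain ⟨w, hw, y, hy, rfl⟩ := h.cent_H hg.2 hg.1
    rwa [h.H_Y hy.1 hy.2, mul_one]) (le_inf (Wf_le t e) h.W_le_H)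
  have h2 := ((Wf t e).subgroupOf (Hf t S)).index_mul_card
  rw [Nat.card_congr (subgroupOfEquivOfLe h.W_le_H).toEquiv, Nat.card_congr ψ.toEquiv,
    Nat.card_congr φ.toEquiv, H74.J1.card_J1, Nat.card_prod, H61.card_alt5] at h2
  rw [← inf_relIndex_right, h1, relIndex]
  simp at h2
  omega

end WS

theorem s3239 [Finite G] {t : G} {S : Sylow 2 G} (h : WS t t S) :
    Spor.IsoJ1 (normalClosure ({t} : Set G)) := by
  let M := Hf t S ⊔ centralizer (Hf t S : Set G)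
  have hC : centralizer ({t} : Set G) ≤ M := h.cent_le'.trans (sup_le_sup_right h.W_le_H _)
  have h2 : ∀ a ∈ M, Cl t a → ∃ m ∈ M, m * t * m⁻¹ = a := fun a ha hc => by
    obtain ⟨m, hm, h1⟩ := (isSyl_sylow_of_le S (h.cen.trans hC)).exists_cj_le
      (isPGroup_zpowers_two (hc.inv h.inv)) (zpowers_le_of_mem ha)
    obtain ⟨n, hn, h3⟩ := h.orb_H.ge ⟨h.mem_E (h1 (conj_mem_cj (mem_zpowers a))) (hc.conj m),
      ne_one_of_two ((hc.conj m).inv h.inv)⟩
    exact ⟨m⁻¹ * n, mul_mem (inv_mem hm) (mem_sup_left hn.1), by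
      rw [show m⁻¹ * n * t * (m⁻¹ * n)⁻¹ = m⁻¹ * (n * t * n⁻¹) * m by group, h3]; group⟩
  have prj : ∀ m ∈ M, ∃ g ∈ Hf t S, ∃ y ∈ centralizer (Hf t S : Set G),
      m = g * y ∧ g * t * g⁻¹ = m * t * m⁻¹ := fun m hm => by
    obtain ⟨g, hg, y, hy, rfl⟩ := mem_sup_cent hm
    exact ⟨g, hg, y, hy, rfl, by rw [mul_assoc g y, ← hy t h.mem_H]; group⟩
  have hM : ∀ s, Cl t s → s ∈ M := fun s hs => by_contra fun sM => by
    obtain ⟨O, hO, h3, h4⟩ := exists_odd_trans h.inv (mem_sup_left h.mem_H) (fun x hx hc => by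
      obtain ⟨m, hm, rfl⟩ := h2 x hx hc
      rw [← cj_centralizer_singleton]
      exact cj_le_of_le_of_mem hC hm) h2 (fun a b ha hb h5 h6 => by
        obtain ⟨g, rfl⟩ := ha
        have h7 := h.cl_W (x := t * (g⁻¹ * b * g⁻¹⁻¹)) (mul_mem (mem_Wf h.cl rfl)
          (mem_Wf (hb.conj _) (by
            rw [show g⁻¹ * b * g⁻¹⁻¹ * t = g⁻¹ * (b * (g * t * g⁻¹)) * g by group, ← h5]; group))) (by
          rw [← orderOf_conj' g, show g * (t * (g⁻¹ * b * g⁻¹⁻¹)) * g⁻¹ = g * t * g⁻¹ * b by group]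
          have sa := mul_self_of_two ((Cl.refl t).conj g |>.inv h.inv)
          refine orderOf_two_of_mul_self ?_ fun h7 => h6 ((eq_inv_of_mul_eq_one_right h7).trans
            (inv_eq_of_mul_eq_one_right sa)).symm
          rw [mul_assoc, ← mul_assoc b, ← h5, mul_assoc _ b, mul_self_of_two (hb.inv h.inv), mul_one, sa])
        simpa [mul_assoc] using h7.conj g) hs sM
    have hY : O ≤ normalizer (centralizer (Hf t S : Set G) : Set G) := hO.trans
      (le_normalizer_centralizer (sup_le le_normalizer (centralizer_le_normalizer _)))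
    obtain ⟨φ⟩ := h.isoJ1
    have := H74.J1.simple_J1
    have := φ.isSimpleGroup
    let O' := Hf t S ⊓ (O ⊔ centralizer (Hf t S : Set G))
    refine not_odd_1463 (G := Hf t S) (O := O'.subgroupOf _)
      ((Nat.card_congr φ.toEquiv).trans H74.J1.card_J1) ?_ ?_ <;>
      rw [Nat.card_congr (subgroupOfEquivOfLe inf_le_left).toEquiv]
    · refine (H88.odd_card_iff_no_involution _).2 fun z hz z2 => ?_
      obtain ⟨o, ho, y, hy, h5⟩ := (mem_sup_left_norm hY).1 hz.2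
      obtain ⟨k, hk⟩ := odd_orderOf_of_mem h3 ho
      have h6 : (z * y⁻¹) ^ (2 * k + 1) = 1 := by
        rw [h5, mul_inv_cancel_right, ← hk, pow_orderOf_eq_one]
      rw [(show Commute z y⁻¹ from inv_mem hy z hz.1).mul_pow, pow_succ, pow_mul, ← z2,
        pow_orderOf_eq_one, one_pow, one_mul] at h6
      exact ne_one_of_two z2 (h.H_Y hz.1 (eq_inv_of_mul_eq_one_left h6 ▸
        inv_mem (pow_mem (inv_mem hy) _)))
    · rw [← h.relIndex_H, ← ncard_orb, show orb (Hf t S) t = orb O' t from ?_, ncard_orb]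
      · exact relIndex_dvd_card _ _
      refine Set.Subset.antisymm ?_ fun _ ⟨g, hg, e⟩ => ⟨g, hg.1, e⟩
      rintro _ ⟨g, hg, rfl⟩
      obtain ⟨o, ho, h5⟩ := h4 _ (mem_sup_left (mul_mem (mul_mem hg h.mem_H) (inv_mem hg))) ⟨g, rfl⟩
      obtain ⟨k, hk, y, hy, h6, h7⟩ := prj o (hO ho)
      exact ⟨k, ⟨hk, (mul_mem_cancel_right (mem_sup_right hy)).1 (h6 ▸ mem_sup_left ho)⟩, h7.trans h5⟩
  have : normalClosure ({t} : Set G) = Hf t S := by
    refine le_antisymm ((closure_le _).2 fun a ha => ?_)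
      (Hf_le fun x _ _ => (Af_le t x).trans (Wf_le_ncl t x))
    obtain ⟨_, rfl, h1⟩ := Group.mem_conjugatesOfSet_iff.1 ha
    obtain ⟨g, rfl⟩ := isConj_iff.1 h1
    obtain ⟨m, hm, h3⟩ := h2 _ (hM _ ⟨g, rfl⟩) ⟨g, rfl⟩
    obtain ⟨k, hk, -, -, -, h4⟩ := prj m hm
    exact h3 ▸ h4 ▸ mul_mem (mul_mem hk h.mem_H) (inv_mem hk)
  exact this ▸ h.isoJ1

end H24
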