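import Cfsg.Agent.H64.YEKit2
import Cfsg.Agent.H7.NPC

/-! STD-SP endgame (row S3129), slot `CO`: the centraliser of `Φ R` in `K₀`. -/

set_option autoImplicit false
set_option linter.unusedSectionVars false

namespace H24.YECO

open H64.SG (O2 Syl Cz Cs Ns Is2 mem_Cs isPGroup_iff_is2 syl_iff odd_orderOf_of_mem)
open Subgroup H98 H64.YE H67.UA H67.SP
open H59.SO (mem_Cs_map mem_Cs_range)

universe u

/-- Burnside's theorem. -/
theorem burnside {G : Type u} [Group G] [Finite G] {E C : Subgroup G} (hT : IsSyl 2 E C)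
    (h : C ≤ Cs E) : Odd (Nat.card (O2 C)) := by
  obtain ⟨P, rfl⟩ := hT.exists_sylow_map
  have h1 := H7.hasNPC_iff_not_dvd.1 ((H7.hasNPC_iff_sylow P).2 ⟨_, inferInstance,
    MonoidHom.ker_transferSylow_isComplement' P fun a _ b hb => Subtype.ext
      (h a.2 b ⟨b, hb, rfl⟩)⟩)
  rw [← res_subgroupOf, Nat.card_congr (subgroupOfEquivOfLe (res_le C)).toEquiv,
    ← H64.SG.O2_eq] at h1
  exact Nat.not_even_iff_odd.1 fun h => h1 (even_iff_two_dvd.1 h)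

variable {n : ℕ} {F : Type} [Field F] [StarRing F] [TrivialStar F] [CharP F 2] [Finite F]
  {Y : Type} [Group Y] [Finite Y] [QS Y] {G : Type u} [Group G] [Finite G] {ι : XU n F →* Y}
  {τ : MulAut Y} {Gd Go : XU n F → Prop} {U : Subgroup Y} {e : XU n F →* G} {t : G} {Φ : Y →* G}
  {K₀ : Subgroup G} {R : Subgroup Y}

theorem good (h : E1 ι τ Gd Go U e t Φ K₀) (g : Good τ U R) :
    Odd (Nat.card (O2 (K₀ ⊓ Cs (R.map Φ)))) ∧
    O2 (K₀ ⊓ Cs (R.map Φ)) ≤ Cs ((EG ι Go (Ns R)).map Φ) ∧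
    ∀ x ∈ K₀ ⊓ Cs (R.map Φ), ∃ y ∈ R, ∃ o ∈ O2 (K₀ ⊓ Cs (R.map Φ)), x = Φ y * o := by
  have := h.nor
  have n1 : Ns (R.map Φ) ≤ Ns (K₀ ⊓ Cs (R.map Φ)) :=
    le_normalizer_inf (normalizer_eq_top K₀ ▸ le_top) (normalizer_le_normalizer_centralizer _)
  have s := syl_iff.1 (syl_inf h.sylK inf_le_left ((map_le_normalizer_map Φ g.nr).trans n1))
  have r2 := isPGroup_iff_is2.1 (g.two h.m1)
  have l : U.map Φ ⊓ (K₀ ⊓ Cs (R.map Φ)) ≤ R.map Φ := by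
    rintro _ ⟨⟨u, hu, rfl⟩, -, hc⟩
    exact mem_map_of_mem Φ (g.ce ⟨mem_Cs.2 fun a ha =>
      ((e_comm_iff h.ker (r2 a ha)).1 (hc _ (mem_map_of_mem Φ ha)).symm).symm, hu⟩)
  have o := burnside s (inf_le_right.trans (centralizer_le l))
  have n2 := n1.trans (H64.SG.Ns_le_Ns_O2 _)
  refine ⟨o, h.oc o (n2 (h.act.mem_Ns_map g.st)) ((map_le_normalizer_map Φ le_rfl).trans n2)
    fun x hx => h.co (g.two h.m1) g.co hx.2 (odd_orderOf_of_mem o hx.1) (H64.SG.O2_le _ hx.1).2,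
    fun x hx => ?_⟩
  obtain ⟨a, ha, b, hb, rfl⟩ := s.exists_mul_res hx
  obtain ⟨y, hy, rfl⟩ := l ha
  exact ⟨y, hy, b, by rwa [H64.SG.O2_eq], rfl⟩

theorem cs_sup {O : Subgroup G} {A B : Subgroup Y} (ha : O ≤ Cs (A.map Φ)) (hb : O ≤ Cs (B.map Φ)) :
    O ≤ Cs ((A ⊔ B).map Φ) := by
  rw [Subgroup.map_sup, le_centralizer_iff, sup_le_iff]
  exact ⟨le_centralizer_iff.1 ha, le_centralizer_iff.1 hb⟩

theorem jobCO : JobCO.{u} := by
  intro n F _ _ _ _ _ _ G _ _ e t Y _ _ _ ι τ Gd Go U Φ K₀ h R ⟨g, hU, R', g', top⟩ x x1 x2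
  obtain ⟨o, c, d⟩ := good h g
  obtain ⟨-, c', -⟩ := good h g'
  have cU : O2 (K₀ ⊓ Cs (R.map Φ)) ≤ Cs (U.map Φ) :=
    (cs_sup c ((H64.SG.O2_le _).trans inf_le_right)).trans (centralizer_le (map_mono hU))
  have le : O2 (K₀ ⊓ Cs (R.map Φ)) ≤ O2 (K₀ ⊓ Cs (R'.map Φ)) := fun a ha => subset_closure
    ⟨⟨(H64.SG.O2_le _ ha).1, centralizer_le (map_mono g'.le) (cU ha)⟩, odd_orderOf_of_mem o ha⟩
  have := cs_sup (cs_sup c (le.trans c')) cU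
  rw [top, ← MonoidHom.range_eq_map] at this
  obtain ⟨y, hy, b, hb, e1⟩ := d x ⟨x1, x2⟩
  exact ⟨y, hy, b, this hb, e1⟩

end H24.YECO
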