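import Cfsg.Agent.H64.YESpec

/-! STD-SP endgame (row S3129), slot `LA`: strong closure of `A` and `A'` in the linear models. -/

set_option autoImplicit false
set_option linter.unusedSectionVars false

namespace H24.YELA

open H64.SG (Syl Cz Cs Ns cjs Is2 Inv2 mem_Cz mem_Cs isPGroup_iff_is2 is2_of_sq syl_iff)
open Subgroup H98 H64.YE H67.UA H67.SP
open H59.SO (Ind)

universe u

section Abs

variable {G : Type*} [Group G] [Finite G]

/-- The abstract configuration. -/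
structure Hy (K W B B' : Subgroup G) (t ρ : G) : Prop where
  nor : K.Normal
  nt : t ∉ K
  top : ∀ g, g ∈ K ∨ g * t ∈ K
  t2 : t * t = 1
  tρ : t ∈ Cz ρ
  tW : t ∈ Ns W
  sW : IsSyl 2 W K
  sS : IsSyl 2 (W ⊔ zpowers t) ⊤
  Wρ : W ≤ Cz ρ
  bw : B ≤ W
  bw' : B' ≤ W
  tb : cj t B = B'
  tb' : cj t B' = B
  wn : W ≤ Ns B
  wn' : W ≤ Ns B'
  cm : ∀ a ∈ B, ∀ b ∈ B, a * b = b * a
  cm' : ∀ a ∈ B', ∀ b ∈ B', a * b = b * a
  inf : ∀ z ∈ B, z ∈ B' → z = 1 ∨ z = ρ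
  rb : ρ ∈ B
  rb' : ρ ∈ B'
  star : ∀ x, x ∈ B ∨ x ∈ B' → ∀ h ∈ K ⊓ Cz ρ, h * x * h⁻¹ ∈ W →
    h * x * h⁻¹ ∈ B ∨ h * x * h⁻¹ ∈ B'

variable {K W B B' : Subgroup G} {t ρ : G}

theorem Hy.symm (h : Hy K W B B' t ρ) : Hy K W B' B t ρ :=
  { h with
    bw := h.bw', bw' := h.bw, tb := h.tb', tb' := h.tb, wn := h.wn', wn' := h.wn, cm := h.cm'
    cm' := h.cm, inf := fun z a b => h.inf z b a, rb := h.rb', rb' := h.rb
    star := fun x hx k hk hw => (h.star x hx.symm k hk hw).symm }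

theorem le_or_le {D : Subgroup G} (h : ∀ x ∈ D, x ∈ B ∨ x ∈ B') : D ≤ B ∨ D ≤ B' := by
  by_contra hn
  rw [not_or, SetLike.not_le_iff_exists, SetLike.not_le_iff_exists] at hn
  obtain ⟨⟨a, ha, ha'⟩, b, hb, hb'⟩ := hn
  rcases h _ (mul_mem ha hb) with k | k
  · exact ha' ((mul_mem_cancel_right ((h b hb).resolve_right hb')).1 k)
  · exact hb' ((mul_mem_cancel_left ((h a ha).resolve_left ha')).1 k)

theorem Hy.card (h : Hy K W B B' t ρ) : Nat.card B' = Nat.card B := by rw [← h.tb, card_cj]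

/-- A conjugate of `B` under `H` inside `W` is `B` or `B'`. -/
theorem Hy.two (h : Hy K W B B' t ρ) {k : G} (hk : k ∈ K ⊓ Cz ρ) (hw : cj k B ≤ W) :
    cj k B = B ∨ cj k B = B' := by
  have : ∀ x ∈ cj k B, x ∈ B ∨ x ∈ B' := by
    rintro _ ⟨x, hx, rfl⟩
    exact h.star x (.inl hx) k hk (hw (conj_mem_cj hx))
  exact (le_or_le this).imp (fun a => eq_of_le_of_card_ge a (card_cj k B).ge)
    fun a => eq_of_le_of_card_ge a (h.card.trans (card_cj k B).symm).le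

theorem Hy.inf_eq (h : Hy K W B B' t ρ) {S : Subgroup G} (hS : IsPGroup 2 S) (hw : W ≤ S) :
    S ⊓ K = W := h.sW.eq_of_le (hS.to_le inf_le_left) (le_inf hw h.sW.le) inf_le_right

theorem Hy.odd (h : Hy K W B B' t ρ) {g : G} (hg : Odd (orderOf g)) : g ∈ K := by
  have := h.nor
  have h2 : g * g ∈ K := by
    rcases h.top g with a | a
    · exact mul_mem a a
    · have := mul_mem a (h.nor.conj_mem _ a t)
      rwa [show g * t * (t * (g * t) * t⁻¹) = g * (t * t) * g by group, h.t2, mul_one] at this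
  obtain ⟨m, hm⟩ := hg
  have : g = (g * g) ^ (m + 1) := by
    rw [← sq, ← pow_mul, mul_add, mul_one, show 2 * m + 2 = orderOf g + 1 by omega, pow_succ,
      pow_orderOf_eq_one, one_mul]
  exact this ▸ pow_mem h2 _

/-- No element of `C(ρ)` outside `K` normalises `B`. -/
theorem Hy.eq (h : Hy K W B B' t ρ) {g : G} (g1 : g ∈ Ns B ⊓ Cz ρ) (g2 : g ∉ K) : B = B' := by
  have := h.nor
  obtain ⟨i, j, e, h2, h3⟩ := H64.SG.exists_two_odd g
  have g3 : g ^ i ∉ K := fun a => g2 (e ▸ mul_mem a (h.odd h3))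
  obtain ⟨S', hS', wS'⟩ := exists_isSyl_le h.sW.isPGroup (le_inf h.wn h.Wρ)
  obtain ⟨m, hm, h4⟩ := hS'.exists_cj_le h2.zpowers (zpowers_le.2 (pow_mem g1 i))
  obtain ⟨s, s1, s2⟩ : ∃ s ∈ S', s ∉ K := ⟨_, h4 (conj_mem_cj (mem_zpowers _)), fun a => g3 (by
    simpa [mul_assoc] using h.nor.conj_mem _ a m⁻¹)⟩
  have s3 : s ∈ Ns W ⊓ Cz ρ := by
    refine ⟨?_, (hS'.le s1).2⟩
    rw [← h.inf_eq hS'.isPGroup wS']
    exact le_normalizer_inf (H := S') le_normalizer (normalizer_eq_top K ▸ le_top) s1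
  have hS : IsSyl 2 (W ⊔ zpowers t) (Ns W ⊓ Cz ρ) := h.sS.of_le
    (sup_le (le_inf le_normalizer h.Wρ) (zpowers_le.2 ⟨h.tW, h.tρ⟩)) le_top
  obtain ⟨k, hk, h5⟩ := hS.exists_cj_le (isPGroup_iff_is2.1 hS'.isPGroup s s1).zpowers
    (zpowers_le.2 s3)
  have h6 : k * s * k⁻¹ ∈ W ⊔ zpowers t := h5 (conj_mem_cj (mem_zpowers _))
  have h7 : k * s * k⁻¹ * t ∈ W := by
    rw [← h.inf_eq hS.isPGroup le_sup_left]
    exact ⟨mul_mem h6 (mem_sup_right (mem_zpowers t)), (h.top _).resolve_left fun a => s2 (by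
      simpa [mul_assoc] using h.nor.conj_mem _ a k⁻¹)⟩
  have h8 : k * s * k⁻¹ ∈ Ns (cj k B) := by
    rw [Ns, ← cj_normalizer]; exact conj_mem_cj (hS'.le s1).1
  have h9 : cj k B ≤ W := cj_le_of_le h.bw hk.1
  have hD : cj k B = B ∨ cj k B = B' := by
    rcases h.top k with a | a
    · exact h.two ⟨a, hk.2⟩ h9
    · have e1 : cj (k * t) B' = cj k B := by rw [← cj_cj, h.tb']
      rw [← e1] at h9 ⊢
      exact (h.symm.two ⟨a, mul_mem hk.2 h.tρ⟩ h9).symm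
  rcases hD with a | a <;> rw [a] at h8
  · rw [← h.tb, cj_eq_self ((mul_mem_cancel_left h8).1 (h.wn h7))]
  · rw [← h.tb', cj_eq_self ((mul_mem_cancel_left h8).1 (h.wn' h7))]

theorem Hy.main (h : Hy K W B B' t ρ) {x k : G} (hx : x ∈ B) (hk : k ∈ K ⊓ Cz ρ)
    (hw : k * x * k⁻¹ ∈ W) : k * x * k⁻¹ ∈ B := by
  by_contra hn
  have hu := (h.star x (.inl hx) k hk hw).resolve_left hn
  have wH : W ≤ K ⊓ Cz ρ := le_inf h.sW.le h.Wρ
  have c1 : B' ≤ K ⊓ Cz ρ ⊓ Cz (k * x * k⁻¹) :=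
    le_inf (h.bw'.trans wH) fun b hb => mem_Cz.2 (h.cm' _ hu b hb)
  have c2 : cj k B ≤ K ⊓ Cz ρ ⊓ Cz (k * x * k⁻¹) := by
    refine le_inf (cj_le_of_le_of_mem (h.bw.trans wH) hk) ?_
    rintro _ ⟨b, hb, rfl⟩
    refine mem_Cz.2 ?_
    change k * x * k⁻¹ * (k * b * k⁻¹) = k * b * k⁻¹ * (k * x * k⁻¹)
    rw [show k * x * k⁻¹ * (k * b * k⁻¹) = k * (x * b) * k⁻¹ by group, h.cm x hx b hb]; group
  obtain ⟨P, hP, p1⟩ := exists_isSyl_le (h.sW.isPGroup.to_le h.bw') c1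
  obtain ⟨c, hc, p2⟩ := hP.exists_cj_le (isPGroup_cj k (h.sW.isPGroup.to_le h.bw)) c2
  obtain ⟨m, hm, p3⟩ := (h.sW.of_le wH inf_le_left).exists_cj_le hP.isPGroup
    (hP.le.trans inf_le_left)
  have v1 : m * (k * x * k⁻¹) * m⁻¹ ∈ cj (m * (c * k)) B := by
    have : m * (k * x * k⁻¹) * m⁻¹ = m * (c * k) * x * (m * (c * k))⁻¹ := by
      rw [show m * (c * k) * x * (m * (c * k))⁻¹ = m * (c * (k * x * k⁻¹)) * c⁻¹ * m⁻¹ by group,
        ← mem_Cz.1 hc.2]; group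
    exact this ▸ conj_mem_cj hx
  have v2 : m * (k * x * k⁻¹) * m⁻¹ ∈ cj m B' := conj_mem_cj hu
  have v3 : m * (k * x * k⁻¹) * m⁻¹ ∈ B → m * (k * x * k⁻¹) * m⁻¹ ∉ B' := fun a b => by
    rcases h.inf _ a b with e | e
    · rw [conj_eq_one_iff] at e; exact hn (e ▸ one_mem B)
    · rw [mul_inv_eq_iff_eq_mul, mem_Cz.1 hm.2, mul_left_cancel_iff] at e
      exact hn (e ▸ h.rb)
  have d1 := h.two (mul_mem hm (mul_mem hc.1 hk))
    (by rw [← cj_cj, ← cj_cj]; exact (cj_mono m p2).trans p3)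
  have d2 := h.symm.two hm ((cj_mono m p1).trans p3)
  have d3 : cj (m * (c * k)) B = cj m B' := by
    rcases d1 with a | a <;> rcases d2 with b | b
    · exact absurd (b ▸ v2) (v3 (a ▸ v1))
    · rw [a, b]
    · rw [a, b]
    · exact absurd (a ▸ v1) (v3 (b ▸ v2))
  rw [← cj_cj, cj_inj] at d3
  have ck := mul_mem hc.1 hk
  have d4 : cj (t * (c * k)) B = B := by rw [← cj_cj, d3, h.tb']
  have d5 : c * k ∈ K := ck.1
  have d6 : t * (c * k) ∈ Cz ρ := mul_mem h.tρ ck.2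
  exact hn (h.eq (g := t * (c * k)) ⟨H98.cj_eq_self_iff.1 d4, d6⟩
    (fun a => h.nt ((mul_mem_cancel_right d5).1 a)) ▸ hu)

end Abs

section Amb

variable {n : ℕ} {F : Type} [Field F] [StarRing F] [TrivialStar F] [CharP F 2] [Finite F]
  {Y : Type} [Group Y] [Finite Y] [QS Y] {G : Type u} [Group G] [Finite G] {ι : XU n F →* Y}
  {τ : MulAut Y} {Go : XU n F → Prop} {U : Subgroup Y} {Φ : Y →* G} {r : Y} {Z Q : Subgroup Y}

theorem root (hk : Φ.ker ≤ center Y) (d : RD ι τ Go U r Z Q) (rf : RF Φ r) {y : Y}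
    (hy : IsConj r y) {g : G} (hg : g * Φ y * g⁻¹ ∈ Φ.range) :
    ∃ y', IsConj r y' ∧ g * Φ y * g⁻¹ = Φ y' := by
  obtain ⟨w, rfl⟩ := isConj_iff.1 hy
  have e : g * Φ (w * r * w⁻¹) * g⁻¹ = g * Φ w * Φ r * (g * Φ w)⁻¹ := by simp [mul_assoc]
  rw [e] at hg ⊢
  obtain ⟨m, hm, c, hc, e1⟩ := rf _ hg
  obtain ⟨β, hβ⟩ := exists_ind hk hm
  refine ⟨β r, d.ra β, ?_⟩
  rw [← hβ, e1, show m * c * Φ r * (m * c)⁻¹ = m * (c * Φ r) * c⁻¹ * m⁻¹ by group,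
    ← mem_Cz.1 hc]; group

theorem sq_root (d : RD ι τ Go U r Z Q) {y : Y} (hy : IsConj r y) : y * y = 1 := by
  obtain ⟨w, rfl⟩ := isConj_iff.1 hy
  rw [show w * r * w⁻¹ * (w * r * w⁻¹) = w * (r * r) * w⁻¹ by group, d.inv.1]; group

theorem star (hk : Φ.ker ≤ center Y) (d : RD ι τ Go U r Z Q) (rf : RF Φ r) {D : Subgroup Y}
    (rD : r ∈ D) (rt : ∀ a ∈ D, a ≠ 1 → IsConj r a) {a : Y} (ha : a ∈ D) {g : G}
    (hg : g ∈ Cz (Φ r)) (cr : a * r = r * a) (h1 : g * Φ a * g⁻¹ ∈ Φ.range) :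
    g * Φ a * g⁻¹ = 1 ∨ ∃ u, IsConj r u ∧ u * r = r * u ∧ (u * r = 1 ∨ IsConj r (u * r)) ∧
      g * Φ a * g⁻¹ = Φ u := by
  by_cases a1 : a = 1
  · left; simp [a1]
  obtain ⟨u, u1, u2⟩ := root hk d rf (rt a ha a1) h1
  have e1 : g * Φ r * g⁻¹ = Φ r := by rw [← mem_Cz.1 hg]; group
  have e2 : g * Φ (a * r) * g⁻¹ = Φ (u * r) := by
    rw [map_mul, map_mul, ← u2]; conv_rhs => rw [← e1]
    group
  have u3 : u * r = r * u := by
    rw [← e_comm_iff hk (is2_of_sq d.inv.1), ← map_mul, ← e2, cr, map_mul, ← u2]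
    conv_rhs => rw [← e1]
    group
  have u4 : Is2 (u * r) := (is2_of_sq (sq_root d u1)).mul (is2_of_sq d.inv.1) u3
  refine .inr ⟨u, u1, u3, ?_, u2⟩
  by_cases a2 : a * r = 1
  · left; exact eq_one2 hk u4 (by rw [← e2, a2]; simp)
  obtain ⟨v, v1, v2⟩ := root hk d rf (rt _ (mul_mem ha rD) a2) (g := g) ⟨_, e2.symm⟩
  right
  rwa [inj2 hk u4 (is2_of_sq (sq_root d v1)) (e2.symm.trans v2)]

end Amb

theorem jobLA : JobLA.{u} := by
  intro n F _ _ _ _ _ _ G _ _ e t Y _ _ _ ι τ Gd Go U Φ K₀ h r Z Q A A' d l rf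
  have hk := h.ker
  have tt : ∀ y, τ (τ y) = y := fun y => by rw [← MulAut.mul_apply, h.t2]; rfl
  have sw' : ∀ y, y ∈ A' ↔ τ y ∈ A := fun y => by rw [l.sw, tt]
  have m1 : A.map τ.toMonoidHom = A' := le_antisymm (by rintro _ ⟨a, ha, rfl⟩; exact (l.sw a).1 ha)
    fun a ha => ⟨τ a, (sw' a).1 ha, tt a⟩
  have m2 : A'.map τ.toMonoidHom = A := le_antisymm (by rintro _ ⟨a, ha, rfl⟩; exact (sw' a).1 ha)
    fun a ha => ⟨τ a, (l.sw a).1 ha, tt a⟩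
  have aU : A ≤ U := (le_sup_left.trans l.sup.le).trans d.qu
  have aU' : A' ≤ U := (le_sup_right.trans l.sup.le).trans d.qu
  have rA : r ∈ A ⊓ A' := l.inf ▸ d.rz
  have U2 : IsPGroup 2 U := h.syl.2.1
  have cA : ∀ a ∈ A, ∀ b ∈ A, a * b = b * a := fun a ha b hb => by
    have i : ∀ c ∈ A, c⁻¹ = c := fun c hc => inv_eq_of_mul_eq_one_right (l.el c hc)
    rw [← i _ (mul_mem ha hb), mul_inv_rev, i a ha, i b hb]
  have cA' : ∀ a ∈ A', ∀ b ∈ A', a * b = b * a := fun a ha b hb => τ.injective (by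
    rw [map_mul, map_mul, cA _ ((sw' a).1 ha) _ ((sw' b).1 hb)])
  have rt' : ∀ a ∈ A', a ≠ 1 → IsConj r a := fun a ha a1 => by
    have := τ.toMonoidHom.map_isConj (l.rt _ ((sw' a).1 ha) (by simpa using a1))
    simpa [d.tr, tt] using this
  have tb : cj t (A.map Φ) = A'.map Φ := by rw [← m1]; exact h.act.cjs_map A
  have tb' : cj t (A'.map Φ) = A.map Φ := by
    conv_rhs => rw [← m2]
    exact h.act.cjs_map A'
  have tW : t ∈ Ns (U.map Φ) := h.act.mem_Ns_map h.stU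
  have wn : U.map Φ ≤ Ns (A.map Φ) := map_le_normalizer_map Φ (d.uz.trans l.nr)
  have H : Hy K₀ (U.map Φ) (A.map Φ) (A'.map Φ) t (Φ r) :=
    { nor := h.nor, nt := h.nt, top := h.top, t2 := h.inv.1
      tρ := mem_Cz.2 (h.act.comm d.tr).symm
      tW := tW, sW := syl_iff.1 h.sylK, sS := syl_iff.1 h.sylS
      Wρ := by
        rintro _ ⟨u, hu, rfl⟩
        rw [mem_Cz, ← map_mul, ← map_mul, d.uz hu r d.rz]
      bw := map_mono aU, bw' := map_mono aU', tb := tb, tb' := tb', wn := wn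
      wn' := by rw [← tb, Ns, ← cj_normalizer, ← cj_eq_self tW]; exact cj_mono t wn
      cm := by
        rintro _ ⟨a, ha, rfl⟩ _ ⟨b, hb, rfl⟩; rw [← map_mul, ← map_mul, cA a ha b hb]
      cm' := by
        rintro _ ⟨a, ha, rfl⟩ _ ⟨b, hb, rfl⟩; rw [← map_mul, ← map_mul, cA' a ha b hb]
      inf := fun z z1 z2 => by
        have : z ∈ (A ⊓ A').map Φ := by
          rw [map_inf2 hk (U2.to_le aU) (U2.to_le aU')]; exact ⟨z1, z2⟩
        obtain ⟨y, hy, rfl⟩ := this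
        rcases l.z y (l.inf ▸ hy) with a | a <;> simp [a]
      rb := mem_map_of_mem Φ rA.1, rb' := mem_map_of_mem Φ rA.2
      star := fun x hx g hg hw => by
        have key : g * x * g⁻¹ = 1 ∨ ∃ u, IsConj r u ∧ u * r = r * u ∧
            (u * r = 1 ∨ IsConj r (u * r)) ∧ g * x * g⁻¹ = Φ u := by
          rcases hx with ⟨a, ha, rfl⟩ | ⟨a, ha, rfl⟩
          · exact star hk d rf rA.1 l.rt ha hg.2 (cA a ha r rA.1) (map_le_range Φ U hw)
          · exact star hk d rf rA.2 rt' ha hg.2 (cA' a ha r rA.2) (map_le_range Φ U hw)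
        rcases key with a | ⟨u, u1, u2, u3, a⟩ <;> rw [a]
        · exact .inl (one_mem _)
        · exact (l.pat u u1 u2 u3).imp (mem_map_of_mem Φ) (mem_map_of_mem Φ) }
  have cz : ∀ g ∈ Cs (Z.map Φ), g ∈ Cz (Φ r) := fun g hg => mem_Cz.2 (hg _ (mem_map_of_mem Φ d.rz))
  exact ⟨fun x hx g g1 g2 hw => H.main (mem_map_of_mem Φ hx) ⟨g1, cz g g2⟩ hw,
    fun x hx g g1 g2 hw => H.symm.main (mem_map_of_mem Φ hx) ⟨g1, cz g g2⟩ hw⟩

end H24.YELA
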